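import Mathlib
import Cfsg.Agent.Helper9.SylowSub

set_option autoImplicit false

/-!
Abstract lemmas on a finite group: representatives of the orbits of a cyclic subgroup acting by
conjugation that have smallest keys give different elements; a conjugacy class is not larger than
the index of a subgroup that centralizes an element of it; when the conjugates of the
representatives fill a class, every element of the class is such a conjugate; an involution is
conjugate to an involution of a Sylow 2-subgroup.
-/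

namespace Cfsg.Agent.Helper9.ONO

/-- representatives with the smallest keys among their conjugates by the powers of an element,
and with increasing keys, have different conjugates by these powers. -/
theorem orbit_rep_inj {X : Type*} [Group X] (a : X) (p : ℕ) (hp : a ^ p = 1) (R : ℕ)
    (rep : ℕ → X) (key : X → ℕ)
    (hmin : ∀ j, j < R → ∀ k, 0 < k → k < p → key (rep j) < key (a ^ k * rep j * (a ^ k)⁻¹))
    (hmono : ∀ j, j + 1 < R → key (rep j) < key (rep (j + 1)))
    (j j' k k' : ℕ) (hj : j < R) (hj' : j' < R) (hk : k < p) (hk' : k' < p)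
    (h : a ^ k * rep j * (a ^ k)⁻¹ = a ^ k' * rep j' * (a ^ k')⁻¹) : j = j' ∧ k = k' := by
  have mono : ∀ i i', i < i' → i' < R → key (rep i) < key (rep i') := by
    intro i i'
    induction i' with
    | zero => intro h1; omega
    | succ m ih =>
      intro h1 h2
      rcases Nat.lt_succ_iff_lt_or_eq.1 h1 with h3 | h3
      · exact lt_trans (ih h3 (by omega)) (hmono m h2)
      · rw [h3]
        exact hmono m h2
  -- the case of different exponents is impossible
  have key_lemma : ∀ (i i' l l' : ℕ), i < R → i' < R → l' < l → l < p →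
      a ^ l * rep i * (a ^ l)⁻¹ = a ^ l' * rep i' * (a ^ l')⁻¹ → False := by
    intro i i' l l' hi hi' hll hl he
    have e1 : rep i' = a ^ (l - l') * rep i * (a ^ (l - l'))⁻¹ := by
      have hpow : a ^ l = a ^ l' * a ^ (l - l') := by
        rw [← pow_add, Nat.add_sub_cancel' (le_of_lt hll)]
      rw [hpow] at he
      have : rep i' = (a ^ l')⁻¹ * (a ^ l' * a ^ (l - l') * rep i * (a ^ l' * a ^ (l - l'))⁻¹) *
          a ^ l' := by
        rw [he]
        group
      rw [this]
      group
    have e2 : rep i = a ^ (p - (l - l')) * rep i' * (a ^ (p - (l - l')))⁻¹ := by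
      have hpow : a ^ (p - (l - l')) * a ^ (l - l') = 1 := by
        rw [← pow_add, Nat.sub_add_cancel (by omega), hp]
      have hinv : a ^ (p - (l - l')) = (a ^ (l - l'))⁻¹ := eq_inv_of_mul_eq_one_left hpow
      rw [e1, hinv]
      group
    have h1 := hmin i hi (l - l') (by omega) (by omega)
    have h2 := hmin i' hi' (p - (l - l')) (by omega) (by omega)
    rw [← e1] at h1
    rw [← e2] at h2
    omega
  rcases Nat.lt_trichotomy k k' with h1 | h1 | h1
  · exact (key_lemma j' j k' k hj' hj h1 hk' h.symm).elim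
  · subst h1
    have e : rep j = rep j' := by
      have : (a ^ k)⁻¹ * (a ^ k * rep j * (a ^ k)⁻¹) * a ^ k =
          (a ^ k)⁻¹ * (a ^ k * rep j' * (a ^ k)⁻¹) * a ^ k := by rw [h]
      have l1 : (a ^ k)⁻¹ * (a ^ k * rep j * (a ^ k)⁻¹) * a ^ k = rep j := by group
      have l2 : (a ^ k)⁻¹ * (a ^ k * rep j' * (a ^ k)⁻¹) * a ^ k = rep j' := by group
      rw [l1, l2] at this
      exact this
    refine ⟨?_, rfl⟩
    rcases Nat.lt_trichotomy j j' with h2 | h2 | h2
    · have := mono j j' h2 hj'
      rw [e] at this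
      omega
    · exact h2
    · have := mono j' j h2 hj
      rw [e] at this
      omega
  · exact (key_lemma j j' k k' hj hj' h1 hk h).elim

/-- a conjugacy class is not larger than the index of a subgroup that centralizes an element of
it. -/
theorem class_card_le {X : Type*} [Group X] [Finite X] (z : X) (C : Subgroup X)
    (hC : ∀ c ∈ C, c * z = z * c) :
    (Set.range (fun g : X => g * z * g⁻¹)).ncard * Nat.card C ≤ Nat.card X := by
  let f : X ⧸ C → X := Quotient.lift (fun g : X => g * z * g⁻¹) (by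
    intro g h hgh
    have hc : g⁻¹ * h ∈ C := QuotientGroup.leftRel_apply.1 hgh
    have e := hC _ hc
    change g * z * g⁻¹ = h * z * h⁻¹
    have e2 : h = g * (g⁻¹ * h) := by group
    rw [e2, mul_assoc g (g⁻¹ * h) z, e]
    group)
  have hr : Set.range (fun g : X => g * z * g⁻¹) = f '' Set.univ := by
    ext x
    constructor
    · rintro ⟨g, rfl⟩
      exact ⟨QuotientGroup.mk g, Set.mem_univ _, rfl⟩
    · rintro ⟨q, -, rfl⟩
      induction q using QuotientGroup.induction_on with
      | H g => exact ⟨g, rfl⟩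
  have h1 : (Set.range (fun g : X => g * z * g⁻¹)).ncard ≤ C.index := by
    rw [hr]
    calc (f '' Set.univ).ncard ≤ (Set.univ : Set (X ⧸ C)).ncard :=
          Set.ncard_image_le (Set.toFinite _)
      _ = C.index := by rw [Set.ncard_univ]; rfl
  calc (Set.range (fun g : X => g * z * g⁻¹)).ncard * Nat.card C ≤ C.index * Nat.card C :=
        Nat.mul_le_mul_right _ h1
    _ = Nat.card X := Subgroup.index_mul_card C

/-- when the conjugates of the representatives by the powers of an element are as many as a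
conjugacy class can have elements, every element of the class is such a conjugate. -/
theorem exists_rep_of_count {X : Type*} [Group X] [Finite X] (a z : X) (p R : ℕ)
    (hp : a ^ p = 1) (rep : ℕ → X) (key : X → ℕ)
    (hconj : ∀ j, j < R → ∃ g : X, g * z * g⁻¹ = rep j)
    (hmin : ∀ j, j < R → ∀ k, 0 < k → k < p → key (rep j) < key (a ^ k * rep j * (a ^ k)⁻¹))
    (hmono : ∀ j, j + 1 < R → key (rep j) < key (rep (j + 1)))
    (C : Subgroup X) (hC : ∀ c ∈ C, c * z = z * c) (hcard : Nat.card X ≤ p * R * Nat.card C)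
    (t : X) (ht : ∃ g : X, g * z * g⁻¹ = t) :
    ∃ i : ℕ, ∃ j, j < R ∧ a ^ i * t * (a ^ i)⁻¹ = rep j := by
  let F : Fin p × Fin R → X := fun x => a ^ x.1.val * rep x.2.val * (a ^ x.1.val)⁻¹
  have Finj : Function.Injective F := by
    rintro ⟨k, j⟩ ⟨k', j'⟩ h
    obtain ⟨h1, h2⟩ := orbit_rep_inj a p hp R rep key hmin hmono j.val j'.val k.val k'.val
      j.isLt j'.isLt k.isLt k'.isLt h
    exact Prod.ext (Fin.ext h2) (Fin.ext h1)
  have hsub : Set.range F ⊆ Set.range (fun g : X => g * z * g⁻¹) := by
    rintro x ⟨⟨k, j⟩, rfl⟩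
    obtain ⟨g, hg⟩ := hconj j.val j.isLt
    refine ⟨a ^ k.val * g, ?_⟩
    change a ^ k.val * g * z * (a ^ k.val * g)⁻¹ = a ^ k.val * rep j.val * (a ^ k.val)⁻¹
    rw [← hg]
    group
  have hF : (Set.range F).ncard = p * R := by
    rw [Set.ncard_range_of_injective Finj, Nat.card_prod, Nat.card_fin, Nat.card_fin]
  have hcpos : 0 < Nat.card C := Nat.card_pos
  have hK : (Set.range (fun g : X => g * z * g⁻¹)).ncard ≤ (Set.range F).ncard := by
    rw [hF]
    have h1 := class_card_le z C hC
    have h2 := le_trans h1 hcard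
    exact Nat.le_of_mul_le_mul_right h2 hcpos
  have heq : Set.range F = Set.range (fun g : X => g * z * g⁻¹) :=
    Set.eq_of_subset_of_ncard_le hsub hK (Set.toFinite _)
  have htm : t ∈ Set.range F := by
    rw [heq]
    exact ht
  obtain ⟨⟨k, j⟩, hkj⟩ := htm
  refine ⟨p - k.val, j.val, j.isLt, ?_⟩
  have hpow : a ^ (p - k.val) * a ^ k.val = 1 := by
    rw [← pow_add, Nat.sub_add_cancel (le_of_lt k.isLt), hp]
  have hinv : a ^ (p - k.val) = (a ^ k.val)⁻¹ := eq_inv_of_mul_eq_one_left hpow
  rw [← hkj, hinv]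
  change (a ^ k.val)⁻¹ * (a ^ k.val * rep j.val * (a ^ k.val)⁻¹) * ((a ^ k.val)⁻¹)⁻¹ = rep j.val
  group

/-- when every involution of a Sylow 2-subgroup is conjugate to an element, every involution of
the group is. -/
theorem invol_conj_of_sylow {X : Type*} [Group X] [Finite X] (S : Subgroup X)
    (hcard : Nat.card S = 2 ^ (Nat.card X).factorization 2) (b : X)
    (hS : ∀ s ∈ S, s * s = 1 → s ≠ 1 → ∃ g : X, g * b * g⁻¹ = s)
    (t : X) (ht2 : t * t = 1) (ht1 : t ≠ 1) : ∃ g : X, g * b * g⁻¹ = t := by
  have : Fact (Nat.Prime 2) := ⟨Nat.prime_two⟩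
  let P : Sylow 2 X := Sylow.ofCard S hcard
  have ho : orderOf t = 2 := orderOf_eq_prime (by rw [pow_two]; exact ht2) ht1
  have hR : IsPGroup 2 (Subgroup.zpowers t) :=
    Cfsg.Agent.Helper9.isPGroup_zpowers_of_orderOf t ⟨1, by rw [ho, pow_one]⟩
  obtain ⟨k, hk⟩ := Cfsg.Agent.Helper9.exists_conj_le_sylow P (Subgroup.zpowers t) hR
  have hs : k⁻¹ * t * k ∈ S := hk t (Subgroup.mem_zpowers t)
  have hs2 : (k⁻¹ * t * k) * (k⁻¹ * t * k) = 1 := by
    have : (k⁻¹ * t * k) * (k⁻¹ * t * k) = k⁻¹ * (t * t) * k := by group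
    rw [this, ht2]
    group
  have hs1 : k⁻¹ * t * k ≠ 1 := by
    intro h
    apply ht1
    have : t = k * (k⁻¹ * t * k) * k⁻¹ := by group
    rw [this, h]
    group
  obtain ⟨g, hg⟩ := hS _ hs hs2 hs1
  refine ⟨k * g, ?_⟩
  have : k * g * b * (k * g)⁻¹ = k * (g * b * g⁻¹) * k⁻¹ := by group
  rw [this, hg]
  group

end Cfsg.Agent.Helper9.ONO
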