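import Mathlib
import Cfsg.Agent.Helper9.J3.Fast
import Cfsg.Agent.Helper9.ONO.CdDat0
import Cfsg.Agent.Helper9.ONO.CdDat1
import Cfsg.Agent.Helper9.ONO.CdDat2
import Cfsg.Agent.Helper9.ONO.CdDat3
import Cfsg.Agent.Helper9.ONO.CdDat4
import Cfsg.Agent.Helper9.ONO.CdDat5
import Cfsg.Agent.Helper9.ONO.CdDat6
import Cfsg.Agent.Helper9.ONO.CdDat7
import Cfsg.Agent.Helper9.ONO.TsDat0
import Cfsg.Agent.Helper9.ONO.TsDat1

set_option autoImplicit false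

/-! The codes of the conjugates of the second generator, in the order of their keys, and the
relations and the points of the tests. -/

namespace Cfsg.Agent.Helper9.ONO

open Cfsg.Agent.Helper9.J3

/-- the number of the codes. -/
def nR : ℕ := 259749

/-- the chunks of the codes. -/
def cdSel (c : ℕ) : ℕ := (Bool.rec (motive := fun _ => ℕ) (Bool.rec (motive := fun _ => ℕ) (Bool.rec (motive := fun _ => ℕ) (Bool.rec (motive := fun _ => ℕ) (Bool.rec (motive := fun _ => ℕ) (Bool.rec (motive := fun _ => ℕ) (Bool.rec (motive := fun _ => ℕ) (Bool.rec (motive := fun _ => ℕ) cdC0 (Bool.rec (motive := fun _ => ℕ) cdC1 cdC2 (Nat.ble 2 c)) (Nat.ble 1 c)) (Bool.rec (motive := fun _ => ℕ) (Bool.rec (motive := fun _ => ℕ) cdC3 cdC4 (Nat.ble 4 c)) (Bool.rec (motive := fun _ => ℕ) cdC5 cdC6 (Nat.ble 6 c)) (Nat.ble 5 c)) (Nat.ble 3 c)) (Bool.rec (motive := fun _ => ℕ) (Bool.rec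 (motive := fun _ => ℕ) (Bool.rec (motive := fun _ => ℕ) cdC7 cdC8 (Nat.ble 8 c)) (Bool.rec (motive := fun _ => ℕ) cdC9 cdC10 (Nat.ble 10 c)) (Nat.ble 9 c)) (Bool.rec (motive := fun _ => ℕ) (Bool.rec (motive := fun _ => ℕ) cdC11 cdC12 (Nat.ble 12 c)) (Bool.rec (motive := fun _ => ℕ) cdC13 cdC14 (Nat.ble 14 c)) (Nat.ble 13 c)) (Nat.ble 11 c)) (Nat.ble 7 c)) (Bool.rec (motive := fun _ => ℕ) (Bool.rec (motive := fun _ => ℕ) (Bool.rec (motive := fun _ => ℕ) (Bool.rec (motive := fun _ => ℕ) cdC15 cdC16 (Nat.ble 16 c)) (Bool.rec (motive := fun _ => ℕ) cdC17 cdC18 (Nat.ble 18 c)) (Nat.ble 17 c)) (Bool.rec (motive := fun _ => ℕ) (Bool.rec (motive := fun _ => ℕ) cdC19 cdC20 (Nat.ble 20 c)) (Bool.rec (motive := fun _ => ℕ) cdC21 cdC22 (Nat.ble 22 c)) (Nat.ble 21 c)) (Nat.ble 19 c)) (Bool.rec (motive := fun _ => ℕ) (Bool.rec (motive := fun _ => ℕ) (Bool.rec (motive := fun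 _ => ℕ) cdC23 cdC24 (Nat.ble 24 c)) (Bool.rec (motive := fun _ => ℕ) cdC25 cdC26 (Nat.ble 26 c)) (Nat.ble 25 c)) (Bool.rec (motive := fun _ => ℕ) (Bool.rec (motive := fun _ => ℕ) cdC27 cdC28 (Nat.ble 28 c)) (Bool.rec (motive := fun _ => ℕ) cdC29 cdC30 (Nat.ble 30 c)) (Nat.ble 29 c)) (Nat.ble 27 c)) (Nat.ble 23 c)) (Nat.ble 15 c)) (Bool.rec (motive := fun _ => ℕ) (Bool.rec (motive := fun _ => ℕ) (Bool.rec (motive := fun _ => ℕ) (Bool.rec (motive := fun _ => ℕ) (Bool.rec (motive := fun _ => ℕ) cdC31 cdC32 (Nat.ble 32 c)) (Bool.rec (motive := fun _ => ℕ) cdC33 cdC34 (Nat.ble 34 c)) (Nat.ble 33 c)) (Bool.rec (motive := fun _ => ℕ) (Bool.rec (motive := fun _ => ℕ) cdC35 cdC36 (Nat.ble 36 c)) (Bool.rec (motive := fun _ => ℕ) cdC37 cdC38 (Nat.ble 38 c)) (Nat.ble 37 c)) (Nat.ble 35 c)) (Bool.rec (motive := fun _ => ℕ) (Bool.rec (motive := fun _ => ℕ) (Bool.rec (motive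 := fun _ => ℕ) cdC39 cdC40 (Nat.ble 40 c)) (Bool.rec (motive := fun _ => ℕ) cdC41 cdC42 (Nat.ble 42 c)) (Nat.ble 41 c)) (Bool.rec (motive := fun _ => ℕ) (Bool.rec (motive := fun _ => ℕ) cdC43 cdC44 (Nat.ble 44 c)) (Bool.rec (motive := fun _ => ℕ) cdC45 cdC46 (Nat.ble 46 c)) (Nat.ble 45 c)) (Nat.ble 43 c)) (Nat.ble 39 c)) (Bool.rec (motive := fun _ => ℕ) (Bool.rec (motive := fun _ => ℕ) (Bool.rec (motive := fun _ => ℕ) (Bool.rec (motive := fun _ => ℕ) cdC47 cdC48 (Nat.ble 48 c)) (Bool.rec (motive := fun _ => ℕ) cdC49 cdC50 (Nat.ble 50 c)) (Nat.ble 49 c)) (Bool.rec (motive := fun _ => ℕ) (Bool.rec (motive := fun _ => ℕ) cdC51 cdC52 (Nat.ble 52 c)) (Bool.rec (motive := fun _ => ℕ) cdC53 cdC54 (Nat.ble 54 c)) (Nat.ble 53 c)) (Nat.ble 51 c)) (Bool.rec (motive := fun _ => ℕ) (Bool.rec (motive := fun _ => ℕ) (Bool.rec (motive := fun _ => ℕ) cdC55 cdC56 (Nat.ble 56 c))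 (Bool.rec (motive := fun _ => ℕ) cdC57 cdC58 (Nat.ble 58 c)) (Nat.ble 57 c)) (Bool.rec (motive := fun _ => ℕ) (Bool.rec (motive := fun _ => ℕ) cdC59 cdC60 (Nat.ble 60 c)) (Bool.rec (motive := fun _ => ℕ) cdC61 cdC62 (Nat.ble 62 c)) (Nat.ble 61 c)) (Nat.ble 59 c)) (Nat.ble 55 c)) (Nat.ble 47 c)) (Nat.ble 31 c)) (Bool.rec (motive := fun _ => ℕ) (Bool.rec (motive := fun _ => ℕ) (Bool.rec (motive := fun _ => ℕ) (Bool.rec (motive := fun _ => ℕ) (Bool.rec (motive := fun _ => ℕ) (Bool.rec (motive := fun _ => ℕ) cdC63 cdC64 (Nat.ble 64 c)) (Bool.rec (motive := fun _ => ℕ) cdC65 cdC66 (Nat.ble 66 c)) (Nat.ble 65 c)) (Bool.rec (motive := fun _ => ℕ) (Bool.rec (motive := fun _ => ℕ) cdC67 cdC68 (Nat.ble 68 c)) (Bool.rec (motive := fun _ => ℕ) cdC69 cdC70 (Nat.ble 70 c)) (Nat.ble 69 c)) (Nat.ble 67 c)) (Bool.rec (motive := fun _ => ℕ) (Bool.rec (motive := fun _ => ℕ) (Bool.rec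 (motive := fun _ => ℕ) cdC71 cdC72 (Nat.ble 72 c)) (Bool.rec (motive := fun _ => ℕ) cdC73 cdC74 (Nat.ble 74 c)) (Nat.ble 73 c)) (Bool.rec (motive := fun _ => ℕ) (Bool.rec (motive := fun _ => ℕ) cdC75 cdC76 (Nat.ble 76 c)) (Bool.rec (motive := fun _ => ℕ) cdC77 cdC78 (Nat.ble 78 c)) (Nat.ble 77 c)) (Nat.ble 75 c)) (Nat.ble 71 c)) (Bool.rec (motive := fun _ => ℕ) (Bool.rec (motive := fun _ => ℕ) (Bool.rec (motive := fun _ => ℕ) (Bool.rec (motive := fun _ => ℕ) cdC79 cdC80 (Nat.ble 80 c)) (Bool.rec (motive := fun _ => ℕ) cdC81 cdC82 (Nat.ble 82 c)) (Nat.ble 81 c)) (Bool.rec (motive := fun _ => ℕ) (Bool.rec (motive := fun _ => ℕ) cdC83 cdC84 (Nat.ble 84 c)) (Bool.rec (motive := fun _ => ℕ) cdC85 cdC86 (Nat.ble 86 c)) (Nat.ble 85 c)) (Nat.ble 83 c)) (Bool.rec (motive := fun _ => ℕ) (Bool.rec (motive := fun _ => ℕ) (Bool.rec (motive := fun _ => ℕ) cdC87 cdC88 (Nat.ble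 88 c)) (Bool.rec (motive := fun _ => ℕ) cdC89 cdC90 (Nat.ble 90 c)) (Nat.ble 89 c)) (Bool.rec (motive := fun _ => ℕ) (Bool.rec (motive := fun _ => ℕ) cdC91 cdC92 (Nat.ble 92 c)) (Bool.rec (motive := fun _ => ℕ) cdC93 cdC94 (Nat.ble 94 c)) (Nat.ble 93 c)) (Nat.ble 91 c)) (Nat.ble 87 c)) (Nat.ble 79 c)) (Bool.rec (motive := fun _ => ℕ) (Bool.rec (motive := fun _ => ℕ) (Bool.rec (motive := fun _ => ℕ) (Bool.rec (motive := fun _ => ℕ) (Bool.rec (motive := fun _ => ℕ) cdC95 cdC96 (Nat.ble 96 c)) (Bool.rec (motive := fun _ => ℕ) cdC97 cdC98 (Nat.ble 98 c)) (Nat.ble 97 c)) (Bool.rec (motive := fun _ => ℕ) (Bool.rec (motive := fun _ => ℕ) cdC99 cdC100 (Nat.ble 100 c)) (Bool.rec (motive := fun _ => ℕ) cdC101 cdC102 (Nat.ble 102 c)) (Nat.ble 101 c)) (Nat.ble 99 c)) (Bool.rec (motive := fun _ => ℕ) (Bool.rec (motive := fun _ => ℕ) (Bool.rec (motive := fun _ => ℕ) cdC103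 cdC104 (Nat.ble 104 c)) (Bool.rec (motive := fun _ => ℕ) cdC105 cdC106 (Nat.ble 106 c)) (Nat.ble 105 c)) (Bool.rec (motive := fun _ => ℕ) (Bool.rec (motive := fun _ => ℕ) cdC107 cdC108 (Nat.ble 108 c)) (Bool.rec (motive := fun _ => ℕ) cdC109 cdC110 (Nat.ble 110 c)) (Nat.ble 109 c)) (Nat.ble 107 c)) (Nat.ble 103 c)) (Bool.rec (motive := fun _ => ℕ) (Bool.rec (motive := fun _ => ℕ) (Bool.rec (motive := fun _ => ℕ) (Bool.rec (motive := fun _ => ℕ) cdC111 cdC112 (Nat.ble 112 c)) (Bool.rec (motive := fun _ => ℕ) cdC113 cdC114 (Nat.ble 114 c)) (Nat.ble 113 c)) (Bool.rec (motive := fun _ => ℕ) (Bool.rec (motive := fun _ => ℕ) cdC115 cdC116 (Nat.ble 116 c)) (Bool.rec (motive := fun _ => ℕ) cdC117 cdC118 (Nat.ble 118 c)) (Nat.ble 117 c)) (Nat.ble 115 c)) (Bool.rec (motive := fun _ => ℕ) (Bool.rec (motive := fun _ => ℕ) (Bool.rec (motive := fun _ => ℕ) cdC119 cdC120 (Nat.ble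 120 c)) (Bool.rec (motive := fun _ => ℕ) cdC121 cdC122 (Nat.ble 122 c)) (Nat.ble 121 c)) (Bool.rec (motive := fun _ => ℕ) (Bool.rec (motive := fun _ => ℕ) cdC123 cdC124 (Nat.ble 124 c)) (Bool.rec (motive := fun _ => ℕ) cdC125 cdC126 (Nat.ble 126 c)) (Nat.ble 125 c)) (Nat.ble 123 c)) (Nat.ble 119 c)) (Nat.ble 111 c)) (Nat.ble 95 c)) (Nat.ble 63 c)) (Bool.rec (motive := fun _ => ℕ) (Bool.rec (motive := fun _ => ℕ) (Bool.rec (motive := fun _ => ℕ) (Bool.rec (motive := fun _ => ℕ) (Bool.rec (motive := fun _ => ℕ) (Bool.rec (motive := fun _ => ℕ) cdC127 (Bool.rec (motive := fun _ => ℕ) cdC128 cdC129 (Nat.ble 129 c)) (Nat.ble 128 c)) (Bool.rec (motive := fun _ => ℕ) (Bool.rec (motive := fun _ => ℕ) cdC130 cdC131 (Nat.ble 131 c)) (Bool.rec (motive := fun _ => ℕ) cdC132 cdC133 (Nat.ble 133 c)) (Nat.ble 132 c)) (Nat.ble 130 c)) (Bool.rec (motive := fun _ => ℕ) (Bool.rec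 (motive := fun _ => ℕ) (Bool.rec (motive := fun _ => ℕ) cdC134 cdC135 (Nat.ble 135 c)) (Bool.rec (motive := fun _ => ℕ) cdC136 cdC137 (Nat.ble 137 c)) (Nat.ble 136 c)) (Bool.rec (motive := fun _ => ℕ) (Bool.rec (motive := fun _ => ℕ) cdC138 cdC139 (Nat.ble 139 c)) (Bool.rec (motive := fun _ => ℕ) cdC140 cdC141 (Nat.ble 141 c)) (Nat.ble 140 c)) (Nat.ble 138 c)) (Nat.ble 134 c)) (Bool.rec (motive := fun _ => ℕ) (Bool.rec (motive := fun _ => ℕ) (Bool.rec (motive := fun _ => ℕ) (Bool.rec (motive := fun _ => ℕ) cdC142 cdC143 (Nat.ble 143 c)) (Bool.rec (motive := fun _ => ℕ) cdC144 cdC145 (Nat.ble 145 c)) (Nat.ble 144 c)) (Bool.rec (motive := fun _ => ℕ) (Bool.rec (motive := fun _ => ℕ) cdC146 cdC147 (Nat.ble 147 c)) (Bool.rec (motive := fun _ => ℕ) cdC148 cdC149 (Nat.ble 149 c)) (Nat.ble 148 c)) (Nat.ble 146 c)) (Bool.rec (motive := fun _ => ℕ) (Bool.rec (motive :=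 fun _ => ℕ) (Bool.rec (motive := fun _ => ℕ) cdC150 cdC151 (Nat.ble 151 c)) (Bool.rec (motive := fun _ => ℕ) cdC152 cdC153 (Nat.ble 153 c)) (Nat.ble 152 c)) (Bool.rec (motive := fun _ => ℕ) (Bool.rec (motive := fun _ => ℕ) cdC154 cdC155 (Nat.ble 155 c)) (Bool.rec (motive := fun _ => ℕ) cdC156 cdC157 (Nat.ble 157 c)) (Nat.ble 156 c)) (Nat.ble 154 c)) (Nat.ble 150 c)) (Nat.ble 142 c)) (Bool.rec (motive := fun _ => ℕ) (Bool.rec (motive := fun _ => ℕ) (Bool.rec (motive := fun _ => ℕ) (Bool.rec (motive := fun _ => ℕ) (Bool.rec (motive := fun _ => ℕ) cdC158 cdC159 (Nat.ble 159 c)) (Bool.rec (motive := fun _ => ℕ) cdC160 cdC161 (Nat.ble 161 c)) (Nat.ble 160 c)) (Bool.rec (motive := fun _ => ℕ) (Bool.rec (motive := fun _ => ℕ) cdC162 cdC163 (Nat.ble 163 c)) (Bool.rec (motive := fun _ => ℕ) cdC164 cdC165 (Nat.ble 165 c)) (Nat.ble 164 c)) (Nat.ble 162 c)) (Bool.rec (motive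 := fun _ => ℕ) (Bool.rec (motive := fun _ => ℕ) (Bool.rec (motive := fun _ => ℕ) cdC166 cdC167 (Nat.ble 167 c)) (Bool.rec (motive := fun _ => ℕ) cdC168 cdC169 (Nat.ble 169 c)) (Nat.ble 168 c)) (Bool.rec (motive := fun _ => ℕ) (Bool.rec (motive := fun _ => ℕ) cdC170 cdC171 (Nat.ble 171 c)) (Bool.rec (motive := fun _ => ℕ) cdC172 cdC173 (Nat.ble 173 c)) (Nat.ble 172 c)) (Nat.ble 170 c)) (Nat.ble 166 c)) (Bool.rec (motive := fun _ => ℕ) (Bool.rec (motive := fun _ => ℕ) (Bool.rec (motive := fun _ => ℕ) (Bool.rec (motive := fun _ => ℕ) cdC174 cdC175 (Nat.ble 175 c)) (Bool.rec (motive := fun _ => ℕ) cdC176 cdC177 (Nat.ble 177 c)) (Nat.ble 176 c)) (Bool.rec (motive := fun _ => ℕ) (Bool.rec (motive := fun _ => ℕ) cdC178 cdC179 (Nat.ble 179 c)) (Bool.rec (motive := fun _ => ℕ) cdC180 cdC181 (Nat.ble 181 c)) (Nat.ble 180 c)) (Nat.ble 178 c)) (Bool.rec (motive := fun _ =>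 ℕ) (Bool.rec (motive := fun _ => ℕ) (Bool.rec (motive := fun _ => ℕ) cdC182 cdC183 (Nat.ble 183 c)) (Bool.rec (motive := fun _ => ℕ) cdC184 cdC185 (Nat.ble 185 c)) (Nat.ble 184 c)) (Bool.rec (motive := fun _ => ℕ) (Bool.rec (motive := fun _ => ℕ) cdC186 cdC187 (Nat.ble 187 c)) (Bool.rec (motive := fun _ => ℕ) cdC188 cdC189 (Nat.ble 189 c)) (Nat.ble 188 c)) (Nat.ble 186 c)) (Nat.ble 182 c)) (Nat.ble 174 c)) (Nat.ble 158 c)) (Bool.rec (motive := fun _ => ℕ) (Bool.rec (motive := fun _ => ℕ) (Bool.rec (motive := fun _ => ℕ) (Bool.rec (motive := fun _ => ℕ) (Bool.rec (motive := fun _ => ℕ) (Bool.rec (motive := fun _ => ℕ) cdC190 cdC191 (Nat.ble 191 c)) (Bool.rec (motive := fun _ => ℕ) cdC192 cdC193 (Nat.ble 193 c)) (Nat.ble 192 c)) (Bool.rec (motive := fun _ => ℕ) (Bool.rec (motive := fun _ => ℕ) cdC194 cdC195 (Nat.ble 195 c)) (Bool.rec (motive := fun _ => ℕ) cdC196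 cdC197 (Nat.ble 197 c)) (Nat.ble 196 c)) (Nat.ble 194 c)) (Bool.rec (motive := fun _ => ℕ) (Bool.rec (motive := fun _ => ℕ) (Bool.rec (motive := fun _ => ℕ) cdC198 cdC199 (Nat.ble 199 c)) (Bool.rec (motive := fun _ => ℕ) cdC200 cdC201 (Nat.ble 201 c)) (Nat.ble 200 c)) (Bool.rec (motive := fun _ => ℕ) (Bool.rec (motive := fun _ => ℕ) cdC202 cdC203 (Nat.ble 203 c)) (Bool.rec (motive := fun _ => ℕ) cdC204 cdC205 (Nat.ble 205 c)) (Nat.ble 204 c)) (Nat.ble 202 c)) (Nat.ble 198 c)) (Bool.rec (motive := fun _ => ℕ) (Bool.rec (motive := fun _ => ℕ) (Bool.rec (motive := fun _ => ℕ) (Bool.rec (motive := fun _ => ℕ) cdC206 cdC207 (Nat.ble 207 c)) (Bool.rec (motive := fun _ => ℕ) cdC208 cdC209 (Nat.ble 209 c)) (Nat.ble 208 c)) (Bool.rec (motive := fun _ => ℕ) (Bool.rec (motive := fun _ => ℕ) cdC210 cdC211 (Nat.ble 211 c)) (Bool.rec (motive := fun _ => ℕ) cdC212 cdC213 (Nat.ble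 213 c)) (Nat.ble 212 c)) (Nat.ble 210 c)) (Bool.rec (motive := fun _ => ℕ) (Bool.rec (motive := fun _ => ℕ) (Bool.rec (motive := fun _ => ℕ) cdC214 cdC215 (Nat.ble 215 c)) (Bool.rec (motive := fun _ => ℕ) cdC216 cdC217 (Nat.ble 217 c)) (Nat.ble 216 c)) (Bool.rec (motive := fun _ => ℕ) (Bool.rec (motive := fun _ => ℕ) cdC218 cdC219 (Nat.ble 219 c)) (Bool.rec (motive := fun _ => ℕ) cdC220 cdC221 (Nat.ble 221 c)) (Nat.ble 220 c)) (Nat.ble 218 c)) (Nat.ble 214 c)) (Nat.ble 206 c)) (Bool.rec (motive := fun _ => ℕ) (Bool.rec (motive := fun _ => ℕ) (Bool.rec (motive := fun _ => ℕ) (Bool.rec (motive := fun _ => ℕ) (Bool.rec (motive := fun _ => ℕ) cdC222 cdC223 (Nat.ble 223 c)) (Bool.rec (motive := fun _ => ℕ) cdC224 cdC225 (Nat.ble 225 c)) (Nat.ble 224 c)) (Bool.rec (motive := fun _ => ℕ) (Bool.rec (motive := fun _ => ℕ) cdC226 cdC227 (Nat.ble 227 c)) (Bool.rec (motive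 := fun _ => ℕ) cdC228 cdC229 (Nat.ble 229 c)) (Nat.ble 228 c)) (Nat.ble 226 c)) (Bool.rec (motive := fun _ => ℕ) (Bool.rec (motive := fun _ => ℕ) (Bool.rec (motive := fun _ => ℕ) cdC230 cdC231 (Nat.ble 231 c)) (Bool.rec (motive := fun _ => ℕ) cdC232 cdC233 (Nat.ble 233 c)) (Nat.ble 232 c)) (Bool.rec (motive := fun _ => ℕ) (Bool.rec (motive := fun _ => ℕ) cdC234 cdC235 (Nat.ble 235 c)) (Bool.rec (motive := fun _ => ℕ) cdC236 cdC237 (Nat.ble 237 c)) (Nat.ble 236 c)) (Nat.ble 234 c)) (Nat.ble 230 c)) (Bool.rec (motive := fun _ => ℕ) (Bool.rec (motive := fun _ => ℕ) (Bool.rec (motive := fun _ => ℕ) (Bool.rec (motive := fun _ => ℕ) cdC238 cdC239 (Nat.ble 239 c)) (Bool.rec (motive := fun _ => ℕ) cdC240 cdC241 (Nat.ble 241 c)) (Nat.ble 240 c)) (Bool.rec (motive := fun _ => ℕ) (Bool.rec (motive := fun _ => ℕ) cdC242 cdC243 (Nat.ble 243 c)) (Bool.rec (motive := fun _ =>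 ℕ) cdC244 cdC245 (Nat.ble 245 c)) (Nat.ble 244 c)) (Nat.ble 242 c)) (Bool.rec (motive := fun _ => ℕ) (Bool.rec (motive := fun _ => ℕ) (Bool.rec (motive := fun _ => ℕ) cdC246 cdC247 (Nat.ble 247 c)) (Bool.rec (motive := fun _ => ℕ) cdC248 cdC249 (Nat.ble 249 c)) (Nat.ble 248 c)) (Bool.rec (motive := fun _ => ℕ) (Bool.rec (motive := fun _ => ℕ) cdC250 cdC251 (Nat.ble 251 c)) (Bool.rec (motive := fun _ => ℕ) cdC252 cdC253 (Nat.ble 253 c)) (Nat.ble 252 c)) (Nat.ble 250 c)) (Nat.ble 246 c)) (Nat.ble 238 c)) (Nat.ble 222 c)) (Nat.ble 190 c)) (Nat.ble 127 c)) (Bool.rec (motive := fun _ => ℕ) (Bool.rec (motive := fun _ => ℕ) (Bool.rec (motive := fun _ => ℕ) (Bool.rec (motive := fun _ => ℕ) (Bool.rec (motive := fun _ => ℕ) (Bool.rec (motive := fun _ => ℕ) (Bool.rec (motive := fun _ => ℕ) cdC254 (Bool.rec (motive := fun _ => ℕ) cdC255 cdC256 (Nat.ble 256 c)) (Nat.ble 255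 c)) (Bool.rec (motive := fun _ => ℕ) (Bool.rec (motive := fun _ => ℕ) cdC257 cdC258 (Nat.ble 258 c)) (Bool.rec (motive := fun _ => ℕ) cdC259 cdC260 (Nat.ble 260 c)) (Nat.ble 259 c)) (Nat.ble 257 c)) (Bool.rec (motive := fun _ => ℕ) (Bool.rec (motive := fun _ => ℕ) (Bool.rec (motive := fun _ => ℕ) cdC261 cdC262 (Nat.ble 262 c)) (Bool.rec (motive := fun _ => ℕ) cdC263 cdC264 (Nat.ble 264 c)) (Nat.ble 263 c)) (Bool.rec (motive := fun _ => ℕ) (Bool.rec (motive := fun _ => ℕ) cdC265 cdC266 (Nat.ble 266 c)) (Bool.rec (motive := fun _ => ℕ) cdC267 cdC268 (Nat.ble 268 c)) (Nat.ble 267 c)) (Nat.ble 265 c)) (Nat.ble 261 c)) (Bool.rec (motive := fun _ => ℕ) (Bool.rec (motive := fun _ => ℕ) (Bool.rec (motive := fun _ => ℕ) (Bool.rec (motive := fun _ => ℕ) cdC269 cdC270 (Nat.ble 270 c)) (Bool.rec (motive := fun _ => ℕ) cdC271 cdC272 (Nat.ble 272 c)) (Nat.ble 271 c)) (Bool.rec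 (motive := fun _ => ℕ) (Bool.rec (motive := fun _ => ℕ) cdC273 cdC274 (Nat.ble 274 c)) (Bool.rec (motive := fun _ => ℕ) cdC275 cdC276 (Nat.ble 276 c)) (Nat.ble 275 c)) (Nat.ble 273 c)) (Bool.rec (motive := fun _ => ℕ) (Bool.rec (motive := fun _ => ℕ) (Bool.rec (motive := fun _ => ℕ) cdC277 cdC278 (Nat.ble 278 c)) (Bool.rec (motive := fun _ => ℕ) cdC279 cdC280 (Nat.ble 280 c)) (Nat.ble 279 c)) (Bool.rec (motive := fun _ => ℕ) (Bool.rec (motive := fun _ => ℕ) cdC281 cdC282 (Nat.ble 282 c)) (Bool.rec (motive := fun _ => ℕ) cdC283 cdC284 (Nat.ble 284 c)) (Nat.ble 283 c)) (Nat.ble 281 c)) (Nat.ble 277 c)) (Nat.ble 269 c)) (Bool.rec (motive := fun _ => ℕ) (Bool.rec (motive := fun _ => ℕ) (Bool.rec (motive := fun _ => ℕ) (Bool.rec (motive := fun _ => ℕ) (Bool.rec (motive := fun _ => ℕ) cdC285 cdC286 (Nat.ble 286 c)) (Bool.rec (motive := fun _ => ℕ) cdC287 cdC288 (Nat.ble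 288 c)) (Nat.ble 287 c)) (Bool.rec (motive := fun _ => ℕ) (Bool.rec (motive := fun _ => ℕ) cdC289 cdC290 (Nat.ble 290 c)) (Bool.rec (motive := fun _ => ℕ) cdC291 cdC292 (Nat.ble 292 c)) (Nat.ble 291 c)) (Nat.ble 289 c)) (Bool.rec (motive := fun _ => ℕ) (Bool.rec (motive := fun _ => ℕ) (Bool.rec (motive := fun _ => ℕ) cdC293 cdC294 (Nat.ble 294 c)) (Bool.rec (motive := fun _ => ℕ) cdC295 cdC296 (Nat.ble 296 c)) (Nat.ble 295 c)) (Bool.rec (motive := fun _ => ℕ) (Bool.rec (motive := fun _ => ℕ) cdC297 cdC298 (Nat.ble 298 c)) (Bool.rec (motive := fun _ => ℕ) cdC299 cdC300 (Nat.ble 300 c)) (Nat.ble 299 c)) (Nat.ble 297 c)) (Nat.ble 293 c)) (Bool.rec (motive := fun _ => ℕ) (Bool.rec (motive := fun _ => ℕ) (Bool.rec (motive := fun _ => ℕ) (Bool.rec (motive := fun _ => ℕ) cdC301 cdC302 (Nat.ble 302 c)) (Bool.rec (motive := fun _ => ℕ) cdC303 cdC304 (Nat.ble 304 c)) (Nat.ble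 303 c)) (Bool.rec (motive := fun _ => ℕ) (Bool.rec (motive := fun _ => ℕ) cdC305 cdC306 (Nat.ble 306 c)) (Bool.rec (motive := fun _ => ℕ) cdC307 cdC308 (Nat.ble 308 c)) (Nat.ble 307 c)) (Nat.ble 305 c)) (Bool.rec (motive := fun _ => ℕ) (Bool.rec (motive := fun _ => ℕ) (Bool.rec (motive := fun _ => ℕ) cdC309 cdC310 (Nat.ble 310 c)) (Bool.rec (motive := fun _ => ℕ) cdC311 cdC312 (Nat.ble 312 c)) (Nat.ble 311 c)) (Bool.rec (motive := fun _ => ℕ) (Bool.rec (motive := fun _ => ℕ) cdC313 cdC314 (Nat.ble 314 c)) (Bool.rec (motive := fun _ => ℕ) cdC315 cdC316 (Nat.ble 316 c)) (Nat.ble 315 c)) (Nat.ble 313 c)) (Nat.ble 309 c)) (Nat.ble 301 c)) (Nat.ble 285 c)) (Bool.rec (motive := fun _ => ℕ) (Bool.rec (motive := fun _ => ℕ) (Bool.rec (motive := fun _ => ℕ) (Bool.rec (motive := fun _ => ℕ) (Bool.rec (motive := fun _ => ℕ) (Bool.rec (motive := fun _ => ℕ) cdC317 cdC318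 (Nat.ble 318 c)) (Bool.rec (motive := fun _ => ℕ) cdC319 cdC320 (Nat.ble 320 c)) (Nat.ble 319 c)) (Bool.rec (motive := fun _ => ℕ) (Bool.rec (motive := fun _ => ℕ) cdC321 cdC322 (Nat.ble 322 c)) (Bool.rec (motive := fun _ => ℕ) cdC323 cdC324 (Nat.ble 324 c)) (Nat.ble 323 c)) (Nat.ble 321 c)) (Bool.rec (motive := fun _ => ℕ) (Bool.rec (motive := fun _ => ℕ) (Bool.rec (motive := fun _ => ℕ) cdC325 cdC326 (Nat.ble 326 c)) (Bool.rec (motive := fun _ => ℕ) cdC327 cdC328 (Nat.ble 328 c)) (Nat.ble 327 c)) (Bool.rec (motive := fun _ => ℕ) (Bool.rec (motive := fun _ => ℕ) cdC329 cdC330 (Nat.ble 330 c)) (Bool.rec (motive := fun _ => ℕ) cdC331 cdC332 (Nat.ble 332 c)) (Nat.ble 331 c)) (Nat.ble 329 c)) (Nat.ble 325 c)) (Bool.rec (motive := fun _ => ℕ) (Bool.rec (motive := fun _ => ℕ) (Bool.rec (motive := fun _ => ℕ) (Bool.rec (motive := fun _ => ℕ) cdC333 cdC334 (Nat.ble 334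 c)) (Bool.rec (motive := fun _ => ℕ) cdC335 cdC336 (Nat.ble 336 c)) (Nat.ble 335 c)) (Bool.rec (motive := fun _ => ℕ) (Bool.rec (motive := fun _ => ℕ) cdC337 cdC338 (Nat.ble 338 c)) (Bool.rec (motive := fun _ => ℕ) cdC339 cdC340 (Nat.ble 340 c)) (Nat.ble 339 c)) (Nat.ble 337 c)) (Bool.rec (motive := fun _ => ℕ) (Bool.rec (motive := fun _ => ℕ) (Bool.rec (motive := fun _ => ℕ) cdC341 cdC342 (Nat.ble 342 c)) (Bool.rec (motive := fun _ => ℕ) cdC343 cdC344 (Nat.ble 344 c)) (Nat.ble 343 c)) (Bool.rec (motive := fun _ => ℕ) (Bool.rec (motive := fun _ => ℕ) cdC345 cdC346 (Nat.ble 346 c)) (Bool.rec (motive := fun _ => ℕ) cdC347 cdC348 (Nat.ble 348 c)) (Nat.ble 347 c)) (Nat.ble 345 c)) (Nat.ble 341 c)) (Nat.ble 333 c)) (Bool.rec (motive := fun _ => ℕ) (Bool.rec (motive := fun _ => ℕ) (Bool.rec (motive := fun _ => ℕ) (Bool.rec (motive := fun _ => ℕ) (Bool.rec (motive :=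 fun _ => ℕ) cdC349 cdC350 (Nat.ble 350 c)) (Bool.rec (motive := fun _ => ℕ) cdC351 cdC352 (Nat.ble 352 c)) (Nat.ble 351 c)) (Bool.rec (motive := fun _ => ℕ) (Bool.rec (motive := fun _ => ℕ) cdC353 cdC354 (Nat.ble 354 c)) (Bool.rec (motive := fun _ => ℕ) cdC355 cdC356 (Nat.ble 356 c)) (Nat.ble 355 c)) (Nat.ble 353 c)) (Bool.rec (motive := fun _ => ℕ) (Bool.rec (motive := fun _ => ℕ) (Bool.rec (motive := fun _ => ℕ) cdC357 cdC358 (Nat.ble 358 c)) (Bool.rec (motive := fun _ => ℕ) cdC359 cdC360 (Nat.ble 360 c)) (Nat.ble 359 c)) (Bool.rec (motive := fun _ => ℕ) (Bool.rec (motive := fun _ => ℕ) cdC361 cdC362 (Nat.ble 362 c)) (Bool.rec (motive := fun _ => ℕ) cdC363 cdC364 (Nat.ble 364 c)) (Nat.ble 363 c)) (Nat.ble 361 c)) (Nat.ble 357 c)) (Bool.rec (motive := fun _ => ℕ) (Bool.rec (motive := fun _ => ℕ) (Bool.rec (motive := fun _ => ℕ) (Bool.rec (motive := fun _ => ℕ)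 cdC365 cdC366 (Nat.ble 366 c)) (Bool.rec (motive := fun _ => ℕ) cdC367 cdC368 (Nat.ble 368 c)) (Nat.ble 367 c)) (Bool.rec (motive := fun _ => ℕ) (Bool.rec (motive := fun _ => ℕ) cdC369 cdC370 (Nat.ble 370 c)) (Bool.rec (motive := fun _ => ℕ) cdC371 cdC372 (Nat.ble 372 c)) (Nat.ble 371 c)) (Nat.ble 369 c)) (Bool.rec (motive := fun _ => ℕ) (Bool.rec (motive := fun _ => ℕ) (Bool.rec (motive := fun _ => ℕ) cdC373 cdC374 (Nat.ble 374 c)) (Bool.rec (motive := fun _ => ℕ) cdC375 cdC376 (Nat.ble 376 c)) (Nat.ble 375 c)) (Bool.rec (motive := fun _ => ℕ) (Bool.rec (motive := fun _ => ℕ) cdC377 cdC378 (Nat.ble 378 c)) (Bool.rec (motive := fun _ => ℕ) cdC379 cdC380 (Nat.ble 380 c)) (Nat.ble 379 c)) (Nat.ble 377 c)) (Nat.ble 373 c)) (Nat.ble 365 c)) (Nat.ble 349 c)) (Nat.ble 317 c)) (Bool.rec (motive := fun _ => ℕ) (Bool.rec (motive := fun _ => ℕ) (Bool.rec (motive := fun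 _ => ℕ) (Bool.rec (motive := fun _ => ℕ) (Bool.rec (motive := fun _ => ℕ) (Bool.rec (motive := fun _ => ℕ) cdC381 (Bool.rec (motive := fun _ => ℕ) cdC382 cdC383 (Nat.ble 383 c)) (Nat.ble 382 c)) (Bool.rec (motive := fun _ => ℕ) (Bool.rec (motive := fun _ => ℕ) cdC384 cdC385 (Nat.ble 385 c)) (Bool.rec (motive := fun _ => ℕ) cdC386 cdC387 (Nat.ble 387 c)) (Nat.ble 386 c)) (Nat.ble 384 c)) (Bool.rec (motive := fun _ => ℕ) (Bool.rec (motive := fun _ => ℕ) (Bool.rec (motive := fun _ => ℕ) cdC388 cdC389 (Nat.ble 389 c)) (Bool.rec (motive := fun _ => ℕ) cdC390 cdC391 (Nat.ble 391 c)) (Nat.ble 390 c)) (Bool.rec (motive := fun _ => ℕ) (Bool.rec (motive := fun _ => ℕ) cdC392 cdC393 (Nat.ble 393 c)) (Bool.rec (motive := fun _ => ℕ) cdC394 cdC395 (Nat.ble 395 c)) (Nat.ble 394 c)) (Nat.ble 392 c)) (Nat.ble 388 c)) (Bool.rec (motive := fun _ => ℕ) (Bool.rec (motive := fun _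 => ℕ) (Bool.rec (motive := fun _ => ℕ) (Bool.rec (motive := fun _ => ℕ) cdC396 cdC397 (Nat.ble 397 c)) (Bool.rec (motive := fun _ => ℕ) cdC398 cdC399 (Nat.ble 399 c)) (Nat.ble 398 c)) (Bool.rec (motive := fun _ => ℕ) (Bool.rec (motive := fun _ => ℕ) cdC400 cdC401 (Nat.ble 401 c)) (Bool.rec (motive := fun _ => ℕ) cdC402 cdC403 (Nat.ble 403 c)) (Nat.ble 402 c)) (Nat.ble 400 c)) (Bool.rec (motive := fun _ => ℕ) (Bool.rec (motive := fun _ => ℕ) (Bool.rec (motive := fun _ => ℕ) cdC404 cdC405 (Nat.ble 405 c)) (Bool.rec (motive := fun _ => ℕ) cdC406 cdC407 (Nat.ble 407 c)) (Nat.ble 406 c)) (Bool.rec (motive := fun _ => ℕ) (Bool.rec (motive := fun _ => ℕ) cdC408 cdC409 (Nat.ble 409 c)) (Bool.rec (motive := fun _ => ℕ) cdC410 cdC411 (Nat.ble 411 c)) (Nat.ble 410 c)) (Nat.ble 408 c)) (Nat.ble 404 c)) (Nat.ble 396 c)) (Bool.rec (motive := fun _ => ℕ) (Bool.rec (motive :=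 fun _ => ℕ) (Bool.rec (motive := fun _ => ℕ) (Bool.rec (motive := fun _ => ℕ) (Bool.rec (motive := fun _ => ℕ) cdC412 cdC413 (Nat.ble 413 c)) (Bool.rec (motive := fun _ => ℕ) cdC414 cdC415 (Nat.ble 415 c)) (Nat.ble 414 c)) (Bool.rec (motive := fun _ => ℕ) (Bool.rec (motive := fun _ => ℕ) cdC416 cdC417 (Nat.ble 417 c)) (Bool.rec (motive := fun _ => ℕ) cdC418 cdC419 (Nat.ble 419 c)) (Nat.ble 418 c)) (Nat.ble 416 c)) (Bool.rec (motive := fun _ => ℕ) (Bool.rec (motive := fun _ => ℕ) (Bool.rec (motive := fun _ => ℕ) cdC420 cdC421 (Nat.ble 421 c)) (Bool.rec (motive := fun _ => ℕ) cdC422 cdC423 (Nat.ble 423 c)) (Nat.ble 422 c)) (Bool.rec (motive := fun _ => ℕ) (Bool.rec (motive := fun _ => ℕ) cdC424 cdC425 (Nat.ble 425 c)) (Bool.rec (motive := fun _ => ℕ) cdC426 cdC427 (Nat.ble 427 c)) (Nat.ble 426 c)) (Nat.ble 424 c)) (Nat.ble 420 c)) (Bool.rec (motive := fun _ => ℕ)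 (Bool.rec (motive := fun _ => ℕ) (Bool.rec (motive := fun _ => ℕ) (Bool.rec (motive := fun _ => ℕ) cdC428 cdC429 (Nat.ble 429 c)) (Bool.rec (motive := fun _ => ℕ) cdC430 cdC431 (Nat.ble 431 c)) (Nat.ble 430 c)) (Bool.rec (motive := fun _ => ℕ) (Bool.rec (motive := fun _ => ℕ) cdC432 cdC433 (Nat.ble 433 c)) (Bool.rec (motive := fun _ => ℕ) cdC434 cdC435 (Nat.ble 435 c)) (Nat.ble 434 c)) (Nat.ble 432 c)) (Bool.rec (motive := fun _ => ℕ) (Bool.rec (motive := fun _ => ℕ) (Bool.rec (motive := fun _ => ℕ) cdC436 cdC437 (Nat.ble 437 c)) (Bool.rec (motive := fun _ => ℕ) cdC438 cdC439 (Nat.ble 439 c)) (Nat.ble 438 c)) (Bool.rec (motive := fun _ => ℕ) (Bool.rec (motive := fun _ => ℕ) cdC440 cdC441 (Nat.ble 441 c)) (Bool.rec (motive := fun _ => ℕ) cdC442 cdC443 (Nat.ble 443 c)) (Nat.ble 442 c)) (Nat.ble 440 c)) (Nat.ble 436 c)) (Nat.ble 428 c)) (Nat.ble 412 c)) (Bool.rec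 (motive := fun _ => ℕ) (Bool.rec (motive := fun _ => ℕ) (Bool.rec (motive := fun _ => ℕ) (Bool.rec (motive := fun _ => ℕ) (Bool.rec (motive := fun _ => ℕ) (Bool.rec (motive := fun _ => ℕ) cdC444 cdC445 (Nat.ble 445 c)) (Bool.rec (motive := fun _ => ℕ) cdC446 cdC447 (Nat.ble 447 c)) (Nat.ble 446 c)) (Bool.rec (motive := fun _ => ℕ) (Bool.rec (motive := fun _ => ℕ) cdC448 cdC449 (Nat.ble 449 c)) (Bool.rec (motive := fun _ => ℕ) cdC450 cdC451 (Nat.ble 451 c)) (Nat.ble 450 c)) (Nat.ble 448 c)) (Bool.rec (motive := fun _ => ℕ) (Bool.rec (motive := fun _ => ℕ) (Bool.rec (motive := fun _ => ℕ) cdC452 cdC453 (Nat.ble 453 c)) (Bool.rec (motive := fun _ => ℕ) cdC454 cdC455 (Nat.ble 455 c)) (Nat.ble 454 c)) (Bool.rec (motive := fun _ => ℕ) (Bool.rec (motive := fun _ => ℕ) cdC456 cdC457 (Nat.ble 457 c)) (Bool.rec (motive := fun _ => ℕ) cdC458 cdC459 (Nat.ble 459 c)) (Nat.ble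 458 c)) (Nat.ble 456 c)) (Nat.ble 452 c)) (Bool.rec (motive := fun _ => ℕ) (Bool.rec (motive := fun _ => ℕ) (Bool.rec (motive := fun _ => ℕ) (Bool.rec (motive := fun _ => ℕ) cdC460 cdC461 (Nat.ble 461 c)) (Bool.rec (motive := fun _ => ℕ) cdC462 cdC463 (Nat.ble 463 c)) (Nat.ble 462 c)) (Bool.rec (motive := fun _ => ℕ) (Bool.rec (motive := fun _ => ℕ) cdC464 cdC465 (Nat.ble 465 c)) (Bool.rec (motive := fun _ => ℕ) cdC466 cdC467 (Nat.ble 467 c)) (Nat.ble 466 c)) (Nat.ble 464 c)) (Bool.rec (motive := fun _ => ℕ) (Bool.rec (motive := fun _ => ℕ) (Bool.rec (motive := fun _ => ℕ) cdC468 cdC469 (Nat.ble 469 c)) (Bool.rec (motive := fun _ => ℕ) cdC470 cdC471 (Nat.ble 471 c)) (Nat.ble 470 c)) (Bool.rec (motive := fun _ => ℕ) (Bool.rec (motive := fun _ => ℕ) cdC472 cdC473 (Nat.ble 473 c)) (Bool.rec (motive := fun _ => ℕ) cdC474 cdC475 (Nat.ble 475 c)) (Nat.ble 474 c)) (Nat.ble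 472 c)) (Nat.ble 468 c)) (Nat.ble 460 c)) (Bool.rec (motive := fun _ => ℕ) (Bool.rec (motive := fun _ => ℕ) (Bool.rec (motive := fun _ => ℕ) (Bool.rec (motive := fun _ => ℕ) (Bool.rec (motive := fun _ => ℕ) cdC476 cdC477 (Nat.ble 477 c)) (Bool.rec (motive := fun _ => ℕ) cdC478 cdC479 (Nat.ble 479 c)) (Nat.ble 478 c)) (Bool.rec (motive := fun _ => ℕ) (Bool.rec (motive := fun _ => ℕ) cdC480 cdC481 (Nat.ble 481 c)) (Bool.rec (motive := fun _ => ℕ) cdC482 cdC483 (Nat.ble 483 c)) (Nat.ble 482 c)) (Nat.ble 480 c)) (Bool.rec (motive := fun _ => ℕ) (Bool.rec (motive := fun _ => ℕ) (Bool.rec (motive := fun _ => ℕ) cdC484 cdC485 (Nat.ble 485 c)) (Bool.rec (motive := fun _ => ℕ) cdC486 cdC487 (Nat.ble 487 c)) (Nat.ble 486 c)) (Bool.rec (motive := fun _ => ℕ) (Bool.rec (motive := fun _ => ℕ) cdC488 cdC489 (Nat.ble 489 c)) (Bool.rec (motive := fun _ => ℕ) cdC490 cdC491 (Nat.ble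 491 c)) (Nat.ble 490 c)) (Nat.ble 488 c)) (Nat.ble 484 c)) (Bool.rec (motive := fun _ => ℕ) (Bool.rec (motive := fun _ => ℕ) (Bool.rec (motive := fun _ => ℕ) (Bool.rec (motive := fun _ => ℕ) cdC492 cdC493 (Nat.ble 493 c)) (Bool.rec (motive := fun _ => ℕ) cdC494 cdC495 (Nat.ble 495 c)) (Nat.ble 494 c)) (Bool.rec (motive := fun _ => ℕ) (Bool.rec (motive := fun _ => ℕ) cdC496 cdC497 (Nat.ble 497 c)) (Bool.rec (motive := fun _ => ℕ) cdC498 cdC499 (Nat.ble 499 c)) (Nat.ble 498 c)) (Nat.ble 496 c)) (Bool.rec (motive := fun _ => ℕ) (Bool.rec (motive := fun _ => ℕ) (Bool.rec (motive := fun _ => ℕ) cdC500 cdC501 (Nat.ble 501 c)) (Bool.rec (motive := fun _ => ℕ) cdC502 cdC503 (Nat.ble 503 c)) (Nat.ble 502 c)) (Bool.rec (motive := fun _ => ℕ) (Bool.rec (motive := fun _ => ℕ) cdC504 cdC505 (Nat.ble 505 c)) (Bool.rec (motive := fun _ => ℕ) cdC506 cdC507 (Nat.ble 507 c)) (Nat.ble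 506 c)) (Nat.ble 504 c)) (Nat.ble 500 c)) (Nat.ble 492 c)) (Nat.ble 476 c)) (Nat.ble 444 c)) (Nat.ble 381 c)) (Nat.ble 254 c))

/-- the code with a given index. -/
def cdF (j : ℕ) : ℕ :=
  sapp (fun c => Nat.land (Nat.shiftRight (cdSel c) (Nat.mul 35 (Nat.land j 511))) 0x7ffffffff)
    (Nat.shiftRight j 9)

/-- the chunks of the tests. -/
def tsSel (c : ℕ) : ℕ := (Bool.rec (motive := fun _ => ℕ) (Bool.rec (motive := fun _ => ℕ) (Bool.rec (motive := fun _ => ℕ) (Bool.rec (motive := fun _ => ℕ) (Bool.rec (motive := fun _ => ℕ) (Bool.rec (motive := fun _ => ℕ) (Bool.rec (motive := fun _ => ℕ) tsC0 (Bool.rec (motive := fun _ => ℕ) tsC1 tsC2 (Nat.ble 2 c)) (Nat.ble 1 c)) (Bool.rec (motive := fun _ => ℕ) (Bool.rec (motive := fun _ => ℕ) tsC3 tsC4 (Nat.ble 4 c)) (Bool.rec (motive := fun _ => ℕ) tsC5 tsC6 (Nat.ble 6 c)) (Nat.ble 5 c)) (Nat.ble 3 c)) (Bool.rec (motive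 := fun _ => ℕ) (Bool.rec (motive := fun _ => ℕ) (Bool.rec (motive := fun _ => ℕ) tsC7 tsC8 (Nat.ble 8 c)) (Bool.rec (motive := fun _ => ℕ) tsC9 tsC10 (Nat.ble 10 c)) (Nat.ble 9 c)) (Bool.rec (motive := fun _ => ℕ) (Bool.rec (motive := fun _ => ℕ) tsC11 tsC12 (Nat.ble 12 c)) (Bool.rec (motive := fun _ => ℕ) tsC13 tsC14 (Nat.ble 14 c)) (Nat.ble 13 c)) (Nat.ble 11 c)) (Nat.ble 7 c)) (Bool.rec (motive := fun _ => ℕ) (Bool.rec (motive := fun _ => ℕ) (Bool.rec (motive := fun _ => ℕ) (Bool.rec (motive := fun _ => ℕ) tsC15 tsC16 (Nat.ble 16 c)) (Bool.rec (motive := fun _ => ℕ) tsC17 tsC18 (Nat.ble 18 c)) (Nat.ble 17 c)) (Bool.rec (motive := fun _ => ℕ) (Bool.rec (motive := fun _ => ℕ) tsC19 tsC20 (Nat.ble 20 c)) (Bool.rec (motive := fun _ => ℕ) tsC21 tsC22 (Nat.ble 22 c)) (Nat.ble 21 c)) (Nat.ble 19 c)) (Bool.rec (motive := fun _ => ℕ) (Bool.rec (motive := fun _ => ℕ)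 (Bool.rec (motive := fun _ => ℕ) tsC23 tsC24 (Nat.ble 24 c)) (Bool.rec (motive := fun _ => ℕ) tsC25 tsC26 (Nat.ble 26 c)) (Nat.ble 25 c)) (Bool.rec (motive := fun _ => ℕ) (Bool.rec (motive := fun _ => ℕ) tsC27 tsC28 (Nat.ble 28 c)) (Bool.rec (motive := fun _ => ℕ) tsC29 tsC30 (Nat.ble 30 c)) (Nat.ble 29 c)) (Nat.ble 27 c)) (Nat.ble 23 c)) (Nat.ble 15 c)) (Bool.rec (motive := fun _ => ℕ) (Bool.rec (motive := fun _ => ℕ) (Bool.rec (motive := fun _ => ℕ) (Bool.rec (motive := fun _ => ℕ) (Bool.rec (motive := fun _ => ℕ) tsC31 tsC32 (Nat.ble 32 c)) (Bool.rec (motive := fun _ => ℕ) tsC33 tsC34 (Nat.ble 34 c)) (Nat.ble 33 c)) (Bool.rec (motive := fun _ => ℕ) (Bool.rec (motive := fun _ => ℕ) tsC35 tsC36 (Nat.ble 36 c)) (Bool.rec (motive := fun _ => ℕ) tsC37 tsC38 (Nat.ble 38 c)) (Nat.ble 37 c)) (Nat.ble 35 c)) (Bool.rec (motive := fun _ => ℕ) (Bool.rec (motive := fun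 _ => ℕ) (Bool.rec (motive := fun _ => ℕ) tsC39 tsC40 (Nat.ble 40 c)) (Bool.rec (motive := fun _ => ℕ) tsC41 tsC42 (Nat.ble 42 c)) (Nat.ble 41 c)) (Bool.rec (motive := fun _ => ℕ) (Bool.rec (motive := fun _ => ℕ) tsC43 tsC44 (Nat.ble 44 c)) (Bool.rec (motive := fun _ => ℕ) tsC45 tsC46 (Nat.ble 46 c)) (Nat.ble 45 c)) (Nat.ble 43 c)) (Nat.ble 39 c)) (Bool.rec (motive := fun _ => ℕ) (Bool.rec (motive := fun _ => ℕ) (Bool.rec (motive := fun _ => ℕ) (Bool.rec (motive := fun _ => ℕ) tsC47 tsC48 (Nat.ble 48 c)) (Bool.rec (motive := fun _ => ℕ) tsC49 tsC50 (Nat.ble 50 c)) (Nat.ble 49 c)) (Bool.rec (motive := fun _ => ℕ) (Bool.rec (motive := fun _ => ℕ) tsC51 tsC52 (Nat.ble 52 c)) (Bool.rec (motive := fun _ => ℕ) tsC53 tsC54 (Nat.ble 54 c)) (Nat.ble 53 c)) (Nat.ble 51 c)) (Bool.rec (motive := fun _ => ℕ) (Bool.rec (motive := fun _ => ℕ) (Bool.rec (motive := fun _ => ℕ)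 tsC55 tsC56 (Nat.ble 56 c)) (Bool.rec (motive := fun _ => ℕ) tsC57 tsC58 (Nat.ble 58 c)) (Nat.ble 57 c)) (Bool.rec (motive := fun _ => ℕ) (Bool.rec (motive := fun _ => ℕ) tsC59 tsC60 (Nat.ble 60 c)) (Bool.rec (motive := fun _ => ℕ) tsC61 tsC62 (Nat.ble 62 c)) (Nat.ble 61 c)) (Nat.ble 59 c)) (Nat.ble 55 c)) (Nat.ble 47 c)) (Nat.ble 31 c)) (Bool.rec (motive := fun _ => ℕ) (Bool.rec (motive := fun _ => ℕ) (Bool.rec (motive := fun _ => ℕ) (Bool.rec (motive := fun _ => ℕ) (Bool.rec (motive := fun _ => ℕ) (Bool.rec (motive := fun _ => ℕ) tsC63 tsC64 (Nat.ble 64 c)) (Bool.rec (motive := fun _ => ℕ) tsC65 tsC66 (Nat.ble 66 c)) (Nat.ble 65 c)) (Bool.rec (motive := fun _ => ℕ) (Bool.rec (motive := fun _ => ℕ) tsC67 tsC68 (Nat.ble 68 c)) (Bool.rec (motive := fun _ => ℕ) tsC69 tsC70 (Nat.ble 70 c)) (Nat.ble 69 c)) (Nat.ble 67 c)) (Bool.rec (motive := fun _ => ℕ) (Bool.rec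 (motive := fun _ => ℕ) (Bool.rec (motive := fun _ => ℕ) tsC71 tsC72 (Nat.ble 72 c)) (Bool.rec (motive := fun _ => ℕ) tsC73 tsC74 (Nat.ble 74 c)) (Nat.ble 73 c)) (Bool.rec (motive := fun _ => ℕ) (Bool.rec (motive := fun _ => ℕ) tsC75 tsC76 (Nat.ble 76 c)) (Bool.rec (motive := fun _ => ℕ) tsC77 tsC78 (Nat.ble 78 c)) (Nat.ble 77 c)) (Nat.ble 75 c)) (Nat.ble 71 c)) (Bool.rec (motive := fun _ => ℕ) (Bool.rec (motive := fun _ => ℕ) (Bool.rec (motive := fun _ => ℕ) (Bool.rec (motive := fun _ => ℕ) tsC79 tsC80 (Nat.ble 80 c)) (Bool.rec (motive := fun _ => ℕ) tsC81 tsC82 (Nat.ble 82 c)) (Nat.ble 81 c)) (Bool.rec (motive := fun _ => ℕ) (Bool.rec (motive := fun _ => ℕ) tsC83 tsC84 (Nat.ble 84 c)) (Bool.rec (motive := fun _ => ℕ) tsC85 tsC86 (Nat.ble 86 c)) (Nat.ble 85 c)) (Nat.ble 83 c)) (Bool.rec (motive := fun _ => ℕ) (Bool.rec (motive := fun _ => ℕ) (Bool.rec (motive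 := fun _ => ℕ) tsC87 tsC88 (Nat.ble 88 c)) (Bool.rec (motive := fun _ => ℕ) tsC89 tsC90 (Nat.ble 90 c)) (Nat.ble 89 c)) (Bool.rec (motive := fun _ => ℕ) (Bool.rec (motive := fun _ => ℕ) tsC91 tsC92 (Nat.ble 92 c)) (Bool.rec (motive := fun _ => ℕ) tsC93 tsC94 (Nat.ble 94 c)) (Nat.ble 93 c)) (Nat.ble 91 c)) (Nat.ble 87 c)) (Nat.ble 79 c)) (Bool.rec (motive := fun _ => ℕ) (Bool.rec (motive := fun _ => ℕ) (Bool.rec (motive := fun _ => ℕ) (Bool.rec (motive := fun _ => ℕ) (Bool.rec (motive := fun _ => ℕ) tsC95 tsC96 (Nat.ble 96 c)) (Bool.rec (motive := fun _ => ℕ) tsC97 tsC98 (Nat.ble 98 c)) (Nat.ble 97 c)) (Bool.rec (motive := fun _ => ℕ) (Bool.rec (motive := fun _ => ℕ) tsC99 tsC100 (Nat.ble 100 c)) (Bool.rec (motive := fun _ => ℕ) tsC101 tsC102 (Nat.ble 102 c)) (Nat.ble 101 c)) (Nat.ble 99 c)) (Bool.rec (motive := fun _ => ℕ) (Bool.rec (motive := fun _ => ℕ) (Bool.rec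 (motive := fun _ => ℕ) tsC103 tsC104 (Nat.ble 104 c)) (Bool.rec (motive := fun _ => ℕ) tsC105 tsC106 (Nat.ble 106 c)) (Nat.ble 105 c)) (Bool.rec (motive := fun _ => ℕ) (Bool.rec (motive := fun _ => ℕ) tsC107 tsC108 (Nat.ble 108 c)) (Bool.rec (motive := fun _ => ℕ) tsC109 tsC110 (Nat.ble 110 c)) (Nat.ble 109 c)) (Nat.ble 107 c)) (Nat.ble 103 c)) (Bool.rec (motive := fun _ => ℕ) (Bool.rec (motive := fun _ => ℕ) (Bool.rec (motive := fun _ => ℕ) (Bool.rec (motive := fun _ => ℕ) tsC111 tsC112 (Nat.ble 112 c)) (Bool.rec (motive := fun _ => ℕ) tsC113 tsC114 (Nat.ble 114 c)) (Nat.ble 113 c)) (Bool.rec (motive := fun _ => ℕ) (Bool.rec (motive := fun _ => ℕ) tsC115 tsC116 (Nat.ble 116 c)) (Bool.rec (motive := fun _ => ℕ) tsC117 tsC118 (Nat.ble 118 c)) (Nat.ble 117 c)) (Nat.ble 115 c)) (Bool.rec (motive := fun _ => ℕ) (Bool.rec (motive := fun _ => ℕ) (Bool.rec (motive :=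 fun _ => ℕ) tsC119 tsC120 (Nat.ble 120 c)) (Bool.rec (motive := fun _ => ℕ) tsC121 tsC122 (Nat.ble 122 c)) (Nat.ble 121 c)) (Bool.rec (motive := fun _ => ℕ) (Bool.rec (motive := fun _ => ℕ) tsC123 tsC124 (Nat.ble 124 c)) (Bool.rec (motive := fun _ => ℕ) tsC125 tsC126 (Nat.ble 126 c)) (Nat.ble 125 c)) (Nat.ble 123 c)) (Nat.ble 119 c)) (Nat.ble 111 c)) (Nat.ble 95 c)) (Nat.ble 63 c)) (Bool.rec (motive := fun _ => ℕ) (Bool.rec (motive := fun _ => ℕ) (Bool.rec (motive := fun _ => ℕ) (Bool.rec (motive := fun _ => ℕ) (Bool.rec (motive := fun _ => ℕ) (Bool.rec (motive := fun _ => ℕ) tsC127 (Bool.rec (motive := fun _ => ℕ) tsC128 tsC129 (Nat.ble 129 c)) (Nat.ble 128 c)) (Bool.rec (motive := fun _ => ℕ) (Bool.rec (motive := fun _ => ℕ) tsC130 tsC131 (Nat.ble 131 c)) (Bool.rec (motive := fun _ => ℕ) tsC132 tsC133 (Nat.ble 133 c)) (Nat.ble 132 c)) (Nat.ble 130 c)) (Bool.rec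 (motive := fun _ => ℕ) (Bool.rec (motive := fun _ => ℕ) (Bool.rec (motive := fun _ => ℕ) tsC134 tsC135 (Nat.ble 135 c)) (Bool.rec (motive := fun _ => ℕ) tsC136 tsC137 (Nat.ble 137 c)) (Nat.ble 136 c)) (Bool.rec (motive := fun _ => ℕ) (Bool.rec (motive := fun _ => ℕ) tsC138 tsC139 (Nat.ble 139 c)) (Bool.rec (motive := fun _ => ℕ) tsC140 tsC141 (Nat.ble 141 c)) (Nat.ble 140 c)) (Nat.ble 138 c)) (Nat.ble 134 c)) (Bool.rec (motive := fun _ => ℕ) (Bool.rec (motive := fun _ => ℕ) (Bool.rec (motive := fun _ => ℕ) (Bool.rec (motive := fun _ => ℕ) tsC142 tsC143 (Nat.ble 143 c)) (Bool.rec (motive := fun _ => ℕ) tsC144 tsC145 (Nat.ble 145 c)) (Nat.ble 144 c)) (Bool.rec (motive := fun _ => ℕ) (Bool.rec (motive := fun _ => ℕ) tsC146 tsC147 (Nat.ble 147 c)) (Bool.rec (motive := fun _ => ℕ) tsC148 tsC149 (Nat.ble 149 c)) (Nat.ble 148 c)) (Nat.ble 146 c)) (Bool.rec (motive :=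 fun _ => ℕ) (Bool.rec (motive := fun _ => ℕ) (Bool.rec (motive := fun _ => ℕ) tsC150 tsC151 (Nat.ble 151 c)) (Bool.rec (motive := fun _ => ℕ) tsC152 tsC153 (Nat.ble 153 c)) (Nat.ble 152 c)) (Bool.rec (motive := fun _ => ℕ) (Bool.rec (motive := fun _ => ℕ) tsC154 tsC155 (Nat.ble 155 c)) (Bool.rec (motive := fun _ => ℕ) tsC156 tsC157 (Nat.ble 157 c)) (Nat.ble 156 c)) (Nat.ble 154 c)) (Nat.ble 150 c)) (Nat.ble 142 c)) (Bool.rec (motive := fun _ => ℕ) (Bool.rec (motive := fun _ => ℕ) (Bool.rec (motive := fun _ => ℕ) (Bool.rec (motive := fun _ => ℕ) (Bool.rec (motive := fun _ => ℕ) tsC158 tsC159 (Nat.ble 159 c)) (Bool.rec (motive := fun _ => ℕ) tsC160 tsC161 (Nat.ble 161 c)) (Nat.ble 160 c)) (Bool.rec (motive := fun _ => ℕ) (Bool.rec (motive := fun _ => ℕ) tsC162 tsC163 (Nat.ble 163 c)) (Bool.rec (motive := fun _ => ℕ) tsC164 tsC165 (Nat.ble 165 c)) (Nat.ble 164 c))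 (Nat.ble 162 c)) (Bool.rec (motive := fun _ => ℕ) (Bool.rec (motive := fun _ => ℕ) (Bool.rec (motive := fun _ => ℕ) tsC166 tsC167 (Nat.ble 167 c)) (Bool.rec (motive := fun _ => ℕ) tsC168 tsC169 (Nat.ble 169 c)) (Nat.ble 168 c)) (Bool.rec (motive := fun _ => ℕ) (Bool.rec (motive := fun _ => ℕ) tsC170 tsC171 (Nat.ble 171 c)) (Bool.rec (motive := fun _ => ℕ) tsC172 tsC173 (Nat.ble 173 c)) (Nat.ble 172 c)) (Nat.ble 170 c)) (Nat.ble 166 c)) (Bool.rec (motive := fun _ => ℕ) (Bool.rec (motive := fun _ => ℕ) (Bool.rec (motive := fun _ => ℕ) (Bool.rec (motive := fun _ => ℕ) tsC174 tsC175 (Nat.ble 175 c)) (Bool.rec (motive := fun _ => ℕ) tsC176 tsC177 (Nat.ble 177 c)) (Nat.ble 176 c)) (Bool.rec (motive := fun _ => ℕ) (Bool.rec (motive := fun _ => ℕ) tsC178 tsC179 (Nat.ble 179 c)) (Bool.rec (motive := fun _ => ℕ) tsC180 tsC181 (Nat.ble 181 c)) (Nat.ble 180 c)) (Nat.ble 178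 c)) (Bool.rec (motive := fun _ => ℕ) (Bool.rec (motive := fun _ => ℕ) (Bool.rec (motive := fun _ => ℕ) tsC182 tsC183 (Nat.ble 183 c)) (Bool.rec (motive := fun _ => ℕ) tsC184 tsC185 (Nat.ble 185 c)) (Nat.ble 184 c)) (Bool.rec (motive := fun _ => ℕ) (Bool.rec (motive := fun _ => ℕ) tsC186 tsC187 (Nat.ble 187 c)) (Bool.rec (motive := fun _ => ℕ) tsC188 tsC189 (Nat.ble 189 c)) (Nat.ble 188 c)) (Nat.ble 186 c)) (Nat.ble 182 c)) (Nat.ble 174 c)) (Nat.ble 158 c)) (Bool.rec (motive := fun _ => ℕ) (Bool.rec (motive := fun _ => ℕ) (Bool.rec (motive := fun _ => ℕ) (Bool.rec (motive := fun _ => ℕ) (Bool.rec (motive := fun _ => ℕ) (Bool.rec (motive := fun _ => ℕ) tsC190 tsC191 (Nat.ble 191 c)) (Bool.rec (motive := fun _ => ℕ) tsC192 tsC193 (Nat.ble 193 c)) (Nat.ble 192 c)) (Bool.rec (motive := fun _ => ℕ) (Bool.rec (motive := fun _ => ℕ) tsC194 tsC195 (Nat.ble 195 c)) (Bool.rec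 (motive := fun _ => ℕ) tsC196 tsC197 (Nat.ble 197 c)) (Nat.ble 196 c)) (Nat.ble 194 c)) (Bool.rec (motive := fun _ => ℕ) (Bool.rec (motive := fun _ => ℕ) (Bool.rec (motive := fun _ => ℕ) tsC198 tsC199 (Nat.ble 199 c)) (Bool.rec (motive := fun _ => ℕ) tsC200 tsC201 (Nat.ble 201 c)) (Nat.ble 200 c)) (Bool.rec (motive := fun _ => ℕ) (Bool.rec (motive := fun _ => ℕ) tsC202 tsC203 (Nat.ble 203 c)) (Bool.rec (motive := fun _ => ℕ) tsC204 tsC205 (Nat.ble 205 c)) (Nat.ble 204 c)) (Nat.ble 202 c)) (Nat.ble 198 c)) (Bool.rec (motive := fun _ => ℕ) (Bool.rec (motive := fun _ => ℕ) (Bool.rec (motive := fun _ => ℕ) (Bool.rec (motive := fun _ => ℕ) tsC206 tsC207 (Nat.ble 207 c)) (Bool.rec (motive := fun _ => ℕ) tsC208 tsC209 (Nat.ble 209 c)) (Nat.ble 208 c)) (Bool.rec (motive := fun _ => ℕ) (Bool.rec (motive := fun _ => ℕ) tsC210 tsC211 (Nat.ble 211 c)) (Bool.rec (motive :=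 fun _ => ℕ) tsC212 tsC213 (Nat.ble 213 c)) (Nat.ble 212 c)) (Nat.ble 210 c)) (Bool.rec (motive := fun _ => ℕ) (Bool.rec (motive := fun _ => ℕ) (Bool.rec (motive := fun _ => ℕ) tsC214 tsC215 (Nat.ble 215 c)) (Bool.rec (motive := fun _ => ℕ) tsC216 tsC217 (Nat.ble 217 c)) (Nat.ble 216 c)) (Bool.rec (motive := fun _ => ℕ) (Bool.rec (motive := fun _ => ℕ) tsC218 tsC219 (Nat.ble 219 c)) (Bool.rec (motive := fun _ => ℕ) tsC220 tsC221 (Nat.ble 221 c)) (Nat.ble 220 c)) (Nat.ble 218 c)) (Nat.ble 214 c)) (Nat.ble 206 c)) (Bool.rec (motive := fun _ => ℕ) (Bool.rec (motive := fun _ => ℕ) (Bool.rec (motive := fun _ => ℕ) (Bool.rec (motive := fun _ => ℕ) (Bool.rec (motive := fun _ => ℕ) tsC222 tsC223 (Nat.ble 223 c)) (Bool.rec (motive := fun _ => ℕ) tsC224 tsC225 (Nat.ble 225 c)) (Nat.ble 224 c)) (Bool.rec (motive := fun _ => ℕ) (Bool.rec (motive := fun _ => ℕ) tsC226 tsC227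 (Nat.ble 227 c)) (Bool.rec (motive := fun _ => ℕ) tsC228 tsC229 (Nat.ble 229 c)) (Nat.ble 228 c)) (Nat.ble 226 c)) (Bool.rec (motive := fun _ => ℕ) (Bool.rec (motive := fun _ => ℕ) (Bool.rec (motive := fun _ => ℕ) tsC230 tsC231 (Nat.ble 231 c)) (Bool.rec (motive := fun _ => ℕ) tsC232 tsC233 (Nat.ble 233 c)) (Nat.ble 232 c)) (Bool.rec (motive := fun _ => ℕ) (Bool.rec (motive := fun _ => ℕ) tsC234 tsC235 (Nat.ble 235 c)) (Bool.rec (motive := fun _ => ℕ) tsC236 tsC237 (Nat.ble 237 c)) (Nat.ble 236 c)) (Nat.ble 234 c)) (Nat.ble 230 c)) (Bool.rec (motive := fun _ => ℕ) (Bool.rec (motive := fun _ => ℕ) (Bool.rec (motive := fun _ => ℕ) (Bool.rec (motive := fun _ => ℕ) tsC238 tsC239 (Nat.ble 239 c)) (Bool.rec (motive := fun _ => ℕ) tsC240 tsC241 (Nat.ble 241 c)) (Nat.ble 240 c)) (Bool.rec (motive := fun _ => ℕ) (Bool.rec (motive := fun _ => ℕ) tsC242 tsC243 (Nat.ble 243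 c)) (Bool.rec (motive := fun _ => ℕ) tsC244 tsC245 (Nat.ble 245 c)) (Nat.ble 244 c)) (Nat.ble 242 c)) (Bool.rec (motive := fun _ => ℕ) (Bool.rec (motive := fun _ => ℕ) (Bool.rec (motive := fun _ => ℕ) tsC246 tsC247 (Nat.ble 247 c)) (Bool.rec (motive := fun _ => ℕ) tsC248 tsC249 (Nat.ble 249 c)) (Nat.ble 248 c)) (Bool.rec (motive := fun _ => ℕ) (Bool.rec (motive := fun _ => ℕ) tsC250 tsC251 (Nat.ble 251 c)) (Bool.rec (motive := fun _ => ℕ) tsC252 tsC253 (Nat.ble 253 c)) (Nat.ble 252 c)) (Nat.ble 250 c)) (Nat.ble 246 c)) (Nat.ble 238 c)) (Nat.ble 222 c)) (Nat.ble 190 c)) (Nat.ble 127 c))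

/-- the test with a given index: the index of a relation and a point. -/
def tsF (j : ℕ) : ℕ :=
  sapp (fun c => Nat.land (Nat.shiftRight (tsSel c) (Nat.mul 19 (Nat.land j 1023))) 0x7ffff)
    (Nat.shiftRight j 10)

end Cfsg.Agent.Helper9.ONO
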