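import Mathlib
import Cfsg.Agent.Helper9.ONS.Tab
import Cfsg.Agent.Helper9.ON.Lab
import Cfsg.Agent.Helper9.OutG.Chain
import Cfsg.Agent.Helper5.ONIso
import Cfsg.Agent.Helper9.ONO.BaseDat

set_option autoImplicit false
set_option Elab.async false

/-!
The base of the group on the 122760 points: only the neutral element fixes the points 0, 15 and
130, because the orbits along the chain of stabilisers, reached by trees of letters, have as many
points as the order of the group allows; elements that agree on the base are equal.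
-/

namespace Cfsg.Agent.Helper9.ONO

open Cfsg Cfsg.Spor Cfsg.Agent.Helper9.J3 Cfsg.Agent.Helper9.ON Cfsg.Agent.Helper9.ONS
open Cfsg.Agent.Helper9.OutG Cfsg.Agent.Helper5.ONTC MulAction

/-- the choice between two truth values for the kernel. -/
def iteB (c t e : Bool) : Bool := Bool.rec e t c

theorem iteB_pos {c t e : Bool} (h : iteB c t e = true) (hc : c = true) : t = true := by
  rw [hc] at h
  exact h

theorem iteB_neg {c t e : Bool} (h : iteB c t e = true) (hc : c = false) : e = true := by
  rw [hc] at h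
  exact h

/-- an entry of the table of a tree: the point, the index of the parent, the letter and the
depth, in 39 bits. -/
def trE (tab i : ℕ) : ℕ := Nat.land (Nat.shiftRight tab (Nat.mul 39 i)) 0x7fffffffff

/-- the point of an entry. -/
def trPt (e : ℕ) : ℕ := Nat.land e 131071

/-- the index of the parent of an entry. -/
def trPar (e : ℕ) : ℕ := Nat.land (Nat.shiftRight e 17) 8191

/-- the letter of an entry. -/
def trLet (e : ℕ) : ℕ := Nat.land (Nat.shiftRight e 30) 7

/-- the depth of an entry. -/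
def trDep (e : ℕ) : ℕ := Nat.shiftRight e 33

/-- the check of an entry of the table of a tree: the points increase, and the entry is the root
or the image of an entry of smaller depth under an allowed letter. -/
def trChk (tab N root mask i : ℕ) : Bool :=
  sapp (fun e =>
    andB (iteB (ltB (Nat.succ i) N) (ltB (trPt e) (trPt (trE tab (Nat.succ i)))) true)
      (iteB (Nat.beq (trDep e) 0) (Nat.beq (trPt e) root)
        (sapp (fun e' => andB (ltB (trPar e) N) (andB (ltB (trDep e') (trDep e))
          (andB (Nat.beq (Nat.land (Nat.shiftRight mask (trLet e)) 1) 1)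
            (Nat.beq (ctF (trLet e) (trPt e')) (trPt e))))) (trE tab (trPar e))))) (trE tab i)

theorem trChk_spec {tab N root mask i : ℕ} (h : trChk tab N root mask i = true) :
    (i + 1 < N → trPt (trE tab i) < trPt (trE tab (i + 1))) ∧
    (trDep (trE tab i) = 0 → trPt (trE tab i) = root) ∧
    (trDep (trE tab i) ≠ 0 → trPar (trE tab i) < N ∧
      trDep (trE tab (trPar (trE tab i))) < trDep (trE tab i) ∧
      Nat.land (Nat.shiftRight mask (trLet (trE tab i))) 1 = 1 ∧
      ctF (trLet (trE tab i)) (trPt (trE tab (trPar (trE tab i)))) = trPt (trE tab i)) := by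
  unfold trChk at h
  rw [sapp_eq] at h
  obtain ⟨h1, h2⟩ := andB_true h
  refine ⟨?_, ?_, ?_⟩
  · intro hi
    have hc : ltB (Nat.succ i) N = true := Nat.ble_eq_true_of_le hi
    exact ltB_true (iteB_pos h1 hc)
  · intro hd
    have hc : Nat.beq (trDep (trE tab i)) 0 = true := by rw [hd]; rfl
    exact Nat.eq_of_beq_eq_true (iteB_pos h2 hc)
  · intro hd
    have hc : Nat.beq (trDep (trE tab i)) 0 = false := by
      cases hb : Nat.beq (trDep (trE tab i)) 0 with
      | false => rfl
      | true => exact absurd (Nat.eq_of_beq_eq_true hb) hd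
    have h3 := iteB_neg h2 hc
    rw [sapp_eq] at h3
    obtain ⟨h4, h5⟩ := andB_true h3
    obtain ⟨h6, h7⟩ := andB_true h5
    obtain ⟨h8, h9⟩ := andB_true h7
    exact ⟨ltB_true h4, ltB_true h6, Nat.eq_of_beq_eq_true h8, Nat.eq_of_beq_eq_true h9⟩

/-- every point of a checked tree is the image of the root under an element of the subgroup that
contains the allowed letters. -/
theorem tree_reach (H' : Subgroup (Equiv.Perm (Fin nP))) (tab N root mask : ℕ) (hroot : root < nP)
    (hH : ∀ x, x < 8 → Nat.land (Nat.shiftRight mask x) 1 = 1 → sg x ∈ H')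
    (h : ∀ i, i < N → trChk tab N root mask i = true) :
    ∀ d i, i < N → trDep (trE tab i) = d →
      ∃ σ ∈ H', (σ ⟨root, hroot⟩).val = trPt (trE tab i) := by
  intro d
  induction d using Nat.strong_induction_on with
  | _ d ih =>
    intro i hi hd
    obtain ⟨-, h2, h3⟩ := trChk_spec (h i hi)
    rcases Nat.eq_zero_or_pos d with h0 | hpos
    · refine ⟨1, H'.one_mem, ?_⟩
      rw [h2 (by rw [hd, h0])]
      rfl
    · obtain ⟨hp, hdep, hm, hct⟩ := h3 (by omega)
      obtain ⟨σ, hσ, hσr⟩ := ih _ (by rw [← hd]; exact hdep) _ hp rfl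
      have hx : trLet (trE tab i) < 8 := by
        unfold trLet
        exact Nat.lt_succ_of_le Nat.and_le_right
      refine ⟨sg _ * σ, H'.mul_mem (hH _ hx hm) hσ, ?_⟩
      rw [Equiv.Perm.mul_apply, sg_apply hx, hσr, hct]

/-- one level of the chain of stabilisers from a checked tree. -/
theorem tree_level (H : Subgroup (Equiv.Perm (Fin nP))) (pre : List ℕ) (tab N root mask : ℕ)
    (hroot : root < nP)
    (hH : ∀ x, x < 8 → Nat.land (Nat.shiftRight mask x) 1 = 1 → sg x ∈ H ⊓ fixN pre)
    (h : ∀ i, i < N → trChk tab N root mask i = true) (c : ℕ)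
    (hc : c ≤ Nat.card ↥(H ⊓ fixN (n := nP) (pre ++ [root]))) :
    N * c ≤ Nat.card ↥(H ⊓ fixN (n := nP) pre) := by
  have reach : ∀ i, i < N → ∃ σ ∈ H ⊓ fixN (n := nP) pre,
      (σ ⟨root, hroot⟩).val = trPt (trE tab i) :=
    fun i hi => tree_reach (H ⊓ fixN pre) tab N root mask hroot hH h _ i hi rfl
  have hlt : ∀ i, i < N → trPt (trE tab i) < nP := by
    intro i hi
    obtain ⟨σ, -, hσ⟩ := reach i hi
    rw [← hσ]
    exact Fin.isLt _
  have mono : ∀ j i, i < j → j < N → trPt (trE tab i) < trPt (trE tab j) := by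
    intro j
    induction j with
    | zero => intro i hi; omega
    | succ j ih =>
      intro i hi hj
      have hstep := (trChk_spec (h j (by omega))).1 hj
      rcases Nat.lt_succ_iff_lt_or_eq.1 hi with h1 | h1
      · exact lt_trans (ih i h1 (by omega)) hstep
      · rw [h1]
        exact hstep
  let f : Fin N → Fin nP := fun i => ⟨trPt (trE tab i.val), hlt i.val i.isLt⟩
  have finj : Function.Injective f := by
    intro i j hij
    have e : trPt (trE tab i.val) = trPt (trE tab j.val) := congrArg Fin.val hij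
    apply Fin.ext
    rcases Nat.lt_trichotomy i.val j.val with h1 | h1 | h1
    · exact absurd e (ne_of_lt (mono _ _ h1 j.isLt))
    · exact h1
    · exact absurd e.symm (ne_of_lt (mono _ _ h1 i.isLt))
  have hcard : (Finset.univ.image f).card = N := by
    rw [Finset.card_image_of_injective _ finj, Finset.card_univ, Fintype.card_fin]
  have key := card_ge_stepN H pre (⟨root, hroot⟩ : Fin nP) (Finset.univ.image f) (by
    intro y hy
    obtain ⟨i, -, rfl⟩ := Finset.mem_image.1 hy
    obtain ⟨σ, hσ, hσr⟩ := reach i.val i.isLt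
    exact ⟨σ, hσ, Fin.ext hσr⟩) c hc
  rw [hcard] at key
  exact key

set_option maxRecDepth 1000000 in
theorem tr1_ok : allB (trChk tr1 5586 15 63) 5586 = true := by decide +kernel

set_option maxRecDepth 1000000 in
theorem tr2_ok : allB (trChk tr2 672 130 29) 672 = true := by decide +kernel

theorem fix15 : ctF 0 15 = 15 ∧ ctF 2 15 = 15 ∧ ctF 3 15 = 15 ∧ ctF 4 15 = 15 := by
  decide +kernel

theorem sg_fix0 {x : ℕ} (hx : x < 6) : sg x (0 : Fin nP) = 0 := by
  apply Fin.ext
  rw [sg_apply (by omega)]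
  exact fix_zero ⟨x, hx⟩

theorem sg_mem_fix1 (x : ℕ) (hx : x < 8) (hm : Nat.land (Nat.shiftRight 63 x) 1 = 1) :
    sg x ∈ ONP ⊓ fixN (n := nP) [0] := by
  have hx6 : x < 6 := by
    interval_cases x
    all_goals first | omega | exact absurd hm (by decide)
  refine Subgroup.mem_inf.2 ⟨sg_mem hx, ?_⟩
  intro y hy
  have e : y = 0 := by
    apply Fin.ext
    simpa using hy
  rw [e]
  exact sg_fix0 hx6

theorem sg_mem_fix2 (x : ℕ) (hx : x < 8) (hm : Nat.land (Nat.shiftRight 29 x) 1 = 1) :
    sg x ∈ ONP ⊓ fixN (n := nP) [0, 15] := by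
  have hx4 : x = 0 ∨ x = 2 ∨ x = 3 ∨ x = 4 := by
    interval_cases x
    all_goals first | omega | exact absurd hm (by decide)
  have hx6 : x < 6 := by omega
  refine Subgroup.mem_inf.2 ⟨sg_mem hx, ?_⟩
  intro y hy
  have hy' : y.val = 0 ∨ y.val = 15 := by simpa using hy
  rcases hy' with e | e
  · have e' : y = 0 := Fin.ext e
    rw [e']
    exact sg_fix0 hx6
  · apply Fin.ext
    rw [sg_apply hx, e]
    rcases hx4 with rfl | rfl | rfl | rfl
    · exact fix15.1
    · exact fix15.2.1
    · exact fix15.2.2.1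
    · exact fix15.2.2.2

/-- the order of the group on the 122760 points. -/
theorem card_ONP' : Nat.card ↥ONP = 460815505920 := card_ONP Cfsg.Agent.Helper5.ONLP.spor_is

theorem card_fix3_le : Nat.card ↥(ONP ⊓ fixN (n := nP) [0, 15, 130]) ≤ 1 := by
  have h2 : 672 * Nat.card ↥(ONP ⊓ fixN (n := nP) [0, 15, 130]) ≤
      Nat.card ↥(ONP ⊓ fixN (n := nP) [0, 15]) :=
    tree_level ONP [0, 15] tr2 672 130 29 (by norm_num) sg_mem_fix2
      (fun i hi => allB_true tr2_ok hi) _ le_rfl
  have h1 : 5586 * (672 * Nat.card ↥(ONP ⊓ fixN (n := nP) [0, 15, 130])) ≤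
      Nat.card ↥(ONP ⊓ fixN (n := nP) [0]) :=
    tree_level ONP [0] tr1 5586 15 63 (by norm_num) sg_mem_fix1
      (fun i hi => allB_true tr1_ok hi) _ h2
  have h0 := card_ge_stepN ONP [] (0 : Fin nP) Finset.univ (by
    intro y _
    obtain ⟨g, hg, hg0⟩ := exists_mem_ONP y.val y.isLt
    refine ⟨g, Subgroup.mem_inf.2 ⟨hg, ?_⟩, hg0⟩
    rw [fixN_nil]
    trivial) _ h1
  rw [fixN_nil, inf_top_eq, card_ONP', Finset.card_univ, Fintype.card_fin] at h0
  have h0' : 122760 * (5586 * (672 * Nat.card ↥(ONP ⊓ fixN (n := nP) [0, 15, 130]))) ≤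
      460815505920 := h0
  omega

/-- only the neutral element of the group fixes the base. -/
theorem eq_one_of_fix {g : Equiv.Perm (Fin nP)} (hg : g ∈ ONP)
    (h : ∀ x : Fin nP, x.val ∈ [0, 15, 130] → g x = x) : g = 1 := by
  have h3 : Subsingleton ↥(ONP ⊓ fixN (n := nP) [0, 15, 130]) :=
    Finite.card_le_one_iff_subsingleton.1 card_fix3_le
  have hmem : g ∈ ONP ⊓ fixN (n := nP) [0, 15, 130] := Subgroup.mem_inf.2 ⟨hg, h⟩
  have := Subsingleton.elim (⟨g, hmem⟩ : ↥(ONP ⊓ fixN (n := nP) [0, 15, 130])) 1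
  exact congrArg Subtype.val this

/-- the check that two functions agree on the base. -/
def agr3 (f f' : ℕ → ℕ) : Bool :=
  andB (Nat.beq (f 0) (f' 0)) (andB (Nat.beq (f 15) (f' 15)) (Nat.beq (f 130) (f' 130)))

theorem agr3_true {f f' : ℕ → ℕ} (h : agr3 f f' = true) :
    ∀ x, x ∈ [0, 15, 130] → f x = f' x := by
  obtain ⟨h0, h1⟩ := andB_true h
  obtain ⟨h1, h2⟩ := andB_true h1
  intro x hx
  simp only [List.mem_cons, List.not_mem_nil, or_false] at hx
  rcases hx with rfl | rfl | rfl
  · exact Nat.eq_of_beq_eq_true h0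
  · exact Nat.eq_of_beq_eq_true h1
  · exact Nat.eq_of_beq_eq_true h2

/-- elements of the group that agree on the base are equal. -/
theorem eq_of_base {g k : Equiv.Perm (Fin nP)} (hg : g ∈ ONP) (hk : k ∈ ONP) {f f' : ℕ → ℕ}
    (hf : Cp g f) (hf' : Cp k f') (h : ∀ x, x ∈ [0, 15, 130] → f x = f' x) : g = k := by
  have h1 : k⁻¹ * g = 1 := by
    apply eq_one_of_fix (ONP.mul_mem (ONP.inv_mem hk) hg)
    intro x hx
    rw [Equiv.Perm.mul_apply, Equiv.Perm.inv_eq_iff_eq]
    apply Fin.ext
    rw [hf, hf']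
    exact h x.val hx
  rw [inv_mul_eq_one] at h1
  exact h1.symm

theorem eq_of_agr3 {g k : Equiv.Perm (Fin nP)} (hg : g ∈ ONP) (hk : k ∈ ONP) {f f' : ℕ → ℕ}
    (hf : Cp g f) (hf' : Cp k f') (h : agr3 f f' = true) : g = k :=
  eq_of_base hg hk hf hf' (agr3_true h)

/-- an element of the group whose function fixes the base is the neutral element. -/
theorem eq_one_of_agr3 {g : Equiv.Perm (Fin nP)} (hg : g ∈ ONP) {f : ℕ → ℕ} (hf : Cp g f)
    (h : agr3 f (fun v => v) = true) : g = 1 :=
  eq_of_agr3 hg ONP.one_mem hf Cp.one h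

end Cfsg.Agent.Helper9.ONO
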