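import Mathlib
import Cfsg.Agent.Helper9.ONS.M11DatG
import Cfsg.Agent.Helper9.ONO.PowDat2
import Cfsg.Agent.Helper9.ONO.PowDat3
import Cfsg.Agent.Helper9.ONO.PowDat4
import Cfsg.Agent.Helper9.ONO.PowDat5
import Cfsg.Agent.Helper9.ONO.PowDat6
import Cfsg.Agent.Helper9.ONO.PowDat7
import Cfsg.Agent.Helper9.ONO.PowDat8
import Cfsg.Agent.Helper9.ONO.PowDat9
import Cfsg.Agent.Helper9.ONO.PowDat10

set_option autoImplicit false

/-! The functions of the powers of the element of order 11. -/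

namespace Cfsg.Agent.Helper9.ONO

open Cfsg.Agent.Helper9.ONS Cfsg.Agent.Helper9.ONS.M11D

/-- the function of a power of the element of order 11; the exponent is below 11. -/
def aF (e v : ℕ) : ℕ := (Bool.rec (motive := fun _ => ℕ) (Bool.rec (motive := fun _ => ℕ) (Bool.rec (motive := fun _ => ℕ) v (Bool.rec (motive := fun _ => ℕ) (gT v) (a2T v) (Nat.ble 2 e)) (Nat.ble 1 e)) (Bool.rec (motive := fun _ => ℕ) (a3T v) (Bool.rec (motive := fun _ => ℕ) (a4T v) (a5T v) (Nat.ble 5 e)) (Nat.ble 4 e)) (Nat.ble 3 e)) (Bool.rec (motive := fun _ => ℕ) (Bool.rec (motive := fun _ => ℕ) (a6T v) (Bool.rec (motive := fun _ => ℕ) (a7T v) (a8T v) (Nat.ble 8 e)) (Nat.ble 7 e)) (Bool.rec (motive := fun _ => ℕ) (a9T v) (Bool.rec (motive := fun _ => ℕ) (a10T v) v (Nat.ble 11 e)) (Nat.ble 10 e)) (Nat.ble 9 e)) (Nat.ble 6 e))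

end Cfsg.Agent.Helper9.ONO
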