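import Mathlib
import Cfsg.Agent.Helper9.ONO.PowDefs

set_option autoImplicit false
set_option Elab.async false

/-! Checks of the kernel on the points, in chunks. -/

namespace Cfsg.Agent.Helper9.ONO

open Cfsg.Agent.Helper9.ONS Cfsg.Agent.Helper9.ONS.M11D Cfsg.Agent.Helper9.J3

set_option maxRecDepth 1000000 in
theorem a2_ok_0 : allC (eqAt (a2T) (fun v => sapp gT (gT v))) 0 32768 = true := by decide +kernel

set_option maxRecDepth 1000000 in
theorem a2_ok_1 : allC (eqAt (a2T) (fun v => sapp gT (gT v))) 1 32768 = true := by decide +kernel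

set_option maxRecDepth 1000000 in
theorem a2_ok_2 : allC (eqAt (a2T) (fun v => sapp gT (gT v))) 2 32768 = true := by decide +kernel

set_option maxRecDepth 1000000 in
theorem a2_ok_3 : allC (eqAt (a2T) (fun v => sapp gT (gT v))) 3 32768 = true := by decide +kernel

set_option maxRecDepth 1000000 in
theorem a3_ok_0 : allC (eqAt (a3T) (fun v => sapp gT (a2T v))) 0 32768 = true := by decide +kernel

set_option maxRecDepth 1000000 in
theorem a3_ok_1 : allC (eqAt (a3T) (fun v => sapp gT (a2T v))) 1 32768 = true := by decide +kernel

set_option maxRecDepth 1000000 in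
theorem a3_ok_2 : allC (eqAt (a3T) (fun v => sapp gT (a2T v))) 2 32768 = true := by decide +kernel

set_option maxRecDepth 1000000 in
theorem a3_ok_3 : allC (eqAt (a3T) (fun v => sapp gT (a2T v))) 3 32768 = true := by decide +kernel

set_option maxRecDepth 1000000 in
theorem a4_ok_0 : allC (eqAt (a4T) (fun v => sapp gT (a3T v))) 0 32768 = true := by decide +kernel

set_option maxRecDepth 1000000 in
theorem a4_ok_1 : allC (eqAt (a4T) (fun v => sapp gT (a3T v))) 1 32768 = true := by decide +kernel

set_option maxRecDepth 1000000 in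
theorem a4_ok_2 : allC (eqAt (a4T) (fun v => sapp gT (a3T v))) 2 32768 = true := by decide +kernel

set_option maxRecDepth 1000000 in
theorem a4_ok_3 : allC (eqAt (a4T) (fun v => sapp gT (a3T v))) 3 32768 = true := by decide +kernel

set_option maxRecDepth 1000000 in
theorem a5_ok_0 : allC (eqAt (a5T) (fun v => sapp gT (a4T v))) 0 32768 = true := by decide +kernel

set_option maxRecDepth 1000000 in
theorem a5_ok_1 : allC (eqAt (a5T) (fun v => sapp gT (a4T v))) 1 32768 = true := by decide +kernel

set_option maxRecDepth 1000000 in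
theorem a5_ok_2 : allC (eqAt (a5T) (fun v => sapp gT (a4T v))) 2 32768 = true := by decide +kernel

set_option maxRecDepth 1000000 in
theorem a5_ok_3 : allC (eqAt (a5T) (fun v => sapp gT (a4T v))) 3 32768 = true := by decide +kernel

set_option maxRecDepth 1000000 in
theorem a6_ok_0 : allC (eqAt (a6T) (fun v => sapp gT (a5T v))) 0 32768 = true := by decide +kernel

set_option maxRecDepth 1000000 in
theorem a6_ok_1 : allC (eqAt (a6T) (fun v => sapp gT (a5T v))) 1 32768 = true := by decide +kernel

set_option maxRecDepth 1000000 in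
theorem a6_ok_2 : allC (eqAt (a6T) (fun v => sapp gT (a5T v))) 2 32768 = true := by decide +kernel

set_option maxRecDepth 1000000 in
theorem a6_ok_3 : allC (eqAt (a6T) (fun v => sapp gT (a5T v))) 3 32768 = true := by decide +kernel

set_option maxRecDepth 1000000 in
theorem a7_ok_0 : allC (eqAt (a7T) (fun v => sapp gT (a6T v))) 0 32768 = true := by decide +kernel

set_option maxRecDepth 1000000 in
theorem a7_ok_1 : allC (eqAt (a7T) (fun v => sapp gT (a6T v))) 1 32768 = true := by decide +kernel

set_option maxRecDepth 1000000 in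
theorem a7_ok_2 : allC (eqAt (a7T) (fun v => sapp gT (a6T v))) 2 32768 = true := by decide +kernel

set_option maxRecDepth 1000000 in
theorem a7_ok_3 : allC (eqAt (a7T) (fun v => sapp gT (a6T v))) 3 32768 = true := by decide +kernel

set_option maxRecDepth 1000000 in
theorem a8_ok_0 : allC (eqAt (a8T) (fun v => sapp gT (a7T v))) 0 32768 = true := by decide +kernel

set_option maxRecDepth 1000000 in
theorem a8_ok_1 : allC (eqAt (a8T) (fun v => sapp gT (a7T v))) 1 32768 = true := by decide +kernel

set_option maxRecDepth 1000000 in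
theorem a8_ok_2 : allC (eqAt (a8T) (fun v => sapp gT (a7T v))) 2 32768 = true := by decide +kernel

set_option maxRecDepth 1000000 in
theorem a8_ok_3 : allC (eqAt (a8T) (fun v => sapp gT (a7T v))) 3 32768 = true := by decide +kernel

set_option maxRecDepth 1000000 in
theorem a9_ok_0 : allC (eqAt (a9T) (fun v => sapp gT (a8T v))) 0 32768 = true := by decide +kernel

set_option maxRecDepth 1000000 in
theorem a9_ok_1 : allC (eqAt (a9T) (fun v => sapp gT (a8T v))) 1 32768 = true := by decide +kernel

end Cfsg.Agent.Helper9.ONO
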