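import Mathlib
import Cfsg.Agent.Helper9.ONO.PowDefs

set_option autoImplicit false
set_option Elab.async false

/-! Checks of the kernel on the points, in chunks. -/

namespace Cfsg.Agent.Helper9.ONO

open Cfsg.Agent.Helper9.ONS Cfsg.Agent.Helper9.ONS.M11D Cfsg.Agent.Helper9.J3

set_option maxRecDepth 1000000 in
theorem a9_ok_2 : allC (eqAt (a9T) (fun v => sapp gT (a8T v))) 2 32768 = true := by decide +kernel

set_option maxRecDepth 1000000 in
theorem a9_ok_3 : allC (eqAt (a9T) (fun v => sapp gT (a8T v))) 3 32768 = true := by decide +kernel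

set_option maxRecDepth 1000000 in
theorem a10_ok_0 : allC (eqAt (a10T) (fun v => sapp gT (a9T v))) 0 32768 = true := by decide +kernel

set_option maxRecDepth 1000000 in
theorem a10_ok_1 : allC (eqAt (a10T) (fun v => sapp gT (a9T v))) 1 32768 = true := by decide +kernel

set_option maxRecDepth 1000000 in
theorem a10_ok_2 : allC (eqAt (a10T) (fun v => sapp gT (a9T v))) 2 32768 = true := by decide +kernel

set_option maxRecDepth 1000000 in
theorem a10_ok_3 : allC (eqAt (a10T) (fun v => sapp gT (a9T v))) 3 32768 = true := by decide +kernel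

set_option maxRecDepth 1000000 in
theorem a11_ok_0 : allC (eqAt (fun v => sapp gT (a10T v)) (fun v => v)) 0 32768 = true := by decide +kernel

set_option maxRecDepth 1000000 in
theorem a11_ok_1 : allC (eqAt (fun v => sapp gT (a10T v)) (fun v => v)) 1 32768 = true := by decide +kernel

set_option maxRecDepth 1000000 in
theorem a11_ok_2 : allC (eqAt (fun v => sapp gT (a10T v)) (fun v => v)) 2 32768 = true := by decide +kernel

set_option maxRecDepth 1000000 in
theorem a11_ok_3 : allC (eqAt (fun v => sapp gT (a10T v)) (fun v => v)) 3 32768 = true := by decide +kernel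

end Cfsg.Agent.Helper9.ONO
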