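import Mathlib
import Cfsg.Agent.Helper9.ONO.PowChk0
import Cfsg.Agent.Helper9.ONO.PowChk1

set_option autoImplicit false

/-! The checks of the kernel on all the points, assembled from the chunks. -/

namespace Cfsg.Agent.Helper9.ONO

open Cfsg.Agent.Helper9.ONS Cfsg.Agent.Helper9.ONS.M11D Cfsg.Agent.Helper9.J3 Cfsg.Agent.Helper9.ON

theorem a2_ok_all : ∀ k, k < 4 → allC (eqAt (a2T) (fun v => sapp gT (gT v))) k 32768 = true := by
  intro k hk
  interval_cases k
  · exact a2_ok_0
  · exact a2_ok_1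
  · exact a2_ok_2
  · exact a2_ok_3

theorem a2_ok_spec : ∀ v, v < nP → (a2T) v = (fun v => sapp gT (gT v)) v :=
  eq_of_chunks 32768 4 (by norm_num) a2_ok_all

theorem a3_ok_all : ∀ k, k < 4 → allC (eqAt (a3T) (fun v => sapp gT (a2T v))) k 32768 = true := by
  intro k hk
  interval_cases k
  · exact a3_ok_0
  · exact a3_ok_1
  · exact a3_ok_2
  · exact a3_ok_3

theorem a3_ok_spec : ∀ v, v < nP → (a3T) v = (fun v => sapp gT (a2T v)) v :=
  eq_of_chunks 32768 4 (by norm_num) a3_ok_all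

theorem a4_ok_all : ∀ k, k < 4 → allC (eqAt (a4T) (fun v => sapp gT (a3T v))) k 32768 = true := by
  intro k hk
  interval_cases k
  · exact a4_ok_0
  · exact a4_ok_1
  · exact a4_ok_2
  · exact a4_ok_3

theorem a4_ok_spec : ∀ v, v < nP → (a4T) v = (fun v => sapp gT (a3T v)) v :=
  eq_of_chunks 32768 4 (by norm_num) a4_ok_all

theorem a5_ok_all : ∀ k, k < 4 → allC (eqAt (a5T) (fun v => sapp gT (a4T v))) k 32768 = true := by
  intro k hk
  interval_cases k
  · exact a5_ok_0
  · exact a5_ok_1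
  · exact a5_ok_2
  · exact a5_ok_3

theorem a5_ok_spec : ∀ v, v < nP → (a5T) v = (fun v => sapp gT (a4T v)) v :=
  eq_of_chunks 32768 4 (by norm_num) a5_ok_all

theorem a6_ok_all : ∀ k, k < 4 → allC (eqAt (a6T) (fun v => sapp gT (a5T v))) k 32768 = true := by
  intro k hk
  interval_cases k
  · exact a6_ok_0
  · exact a6_ok_1
  · exact a6_ok_2
  · exact a6_ok_3

theorem a6_ok_spec : ∀ v, v < nP → (a6T) v = (fun v => sapp gT (a5T v)) v :=
  eq_of_chunks 32768 4 (by norm_num) a6_ok_all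

theorem a7_ok_all : ∀ k, k < 4 → allC (eqAt (a7T) (fun v => sapp gT (a6T v))) k 32768 = true := by
  intro k hk
  interval_cases k
  · exact a7_ok_0
  · exact a7_ok_1
  · exact a7_ok_2
  · exact a7_ok_3

theorem a7_ok_spec : ∀ v, v < nP → (a7T) v = (fun v => sapp gT (a6T v)) v :=
  eq_of_chunks 32768 4 (by norm_num) a7_ok_all

theorem a8_ok_all : ∀ k, k < 4 → allC (eqAt (a8T) (fun v => sapp gT (a7T v))) k 32768 = true := by
  intro k hk
  interval_cases k
  · exact a8_ok_0
  · exact a8_ok_1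
  · exact a8_ok_2
  · exact a8_ok_3

theorem a8_ok_spec : ∀ v, v < nP → (a8T) v = (fun v => sapp gT (a7T v)) v :=
  eq_of_chunks 32768 4 (by norm_num) a8_ok_all

theorem a9_ok_all : ∀ k, k < 4 → allC (eqAt (a9T) (fun v => sapp gT (a8T v))) k 32768 = true := by
  intro k hk
  interval_cases k
  · exact a9_ok_0
  · exact a9_ok_1
  · exact a9_ok_2
  · exact a9_ok_3

theorem a9_ok_spec : ∀ v, v < nP → (a9T) v = (fun v => sapp gT (a8T v)) v :=
  eq_of_chunks 32768 4 (by norm_num) a9_ok_all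

theorem a10_ok_all : ∀ k, k < 4 → allC (eqAt (a10T) (fun v => sapp gT (a9T v))) k 32768 = true := by
  intro k hk
  interval_cases k
  · exact a10_ok_0
  · exact a10_ok_1
  · exact a10_ok_2
  · exact a10_ok_3

theorem a10_ok_spec : ∀ v, v < nP → (a10T) v = (fun v => sapp gT (a9T v)) v :=
  eq_of_chunks 32768 4 (by norm_num) a10_ok_all

theorem a11_ok_all : ∀ k, k < 4 → allC (eqAt (fun v => sapp gT (a10T v)) (fun v => v)) k 32768 = true := by
  intro k hk
  interval_cases k
  · exact a11_ok_0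
  · exact a11_ok_1
  · exact a11_ok_2
  · exact a11_ok_3

theorem a11_ok_spec : ∀ v, v < nP → (fun v => sapp gT (a10T v)) v = (fun v => v) v :=
  eq_of_chunks 32768 4 (by norm_num) a11_ok_all


end Cfsg.Agent.Helper9.ONO
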