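import Mathlib
import Cfsg.Agent.Helper9.ONS.M11Main
import Cfsg.Agent.Helper9.ONO.PowChkSum
import Cfsg.Agent.Helper9.ONO.Base

set_option autoImplicit false

/-!
The powers of the element of order 11 of the group on the 122760 points: the functions of the
tables compute them, the element has order 11, and it is in the group.
-/

namespace Cfsg.Agent.Helper9.ONO

open Cfsg Cfsg.Agent.Helper9.J3 Cfsg.Agent.Helper9.ON Cfsg.Agent.Helper9.ONS
open Cfsg.Agent.Helper9.ONS.M11D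

theorem gE_mem : M11D.gE ∈ ONP := pW_mem gw (by decide)

theorem cp_pow_succ {k : ℕ} {f g : ℕ → ℕ} (h : Cp (M11D.gE ^ k) f)
    (hs : ∀ v, v < nP → g v = (fun v => sapp gT (f v)) v) : Cp (M11D.gE ^ (k + 1)) g := by
  rw [pow_succ']
  refine (Cp.mul cp_gE h).congr ?_
  intro v hv
  rw [hs v hv]
  exact sapp_eq _ _

theorem cp_p1 : Cp (M11D.gE ^ 1) gT := by
  rw [pow_one]
  exact cp_gE

theorem cp_p2 : Cp (M11D.gE ^ 2) a2T := cp_pow_succ cp_p1 a2_ok_spec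
theorem cp_p3 : Cp (M11D.gE ^ 3) a3T := cp_pow_succ cp_p2 a3_ok_spec
theorem cp_p4 : Cp (M11D.gE ^ 4) a4T := cp_pow_succ cp_p3 a4_ok_spec
theorem cp_p5 : Cp (M11D.gE ^ 5) a5T := cp_pow_succ cp_p4 a5_ok_spec
theorem cp_p6 : Cp (M11D.gE ^ 6) a6T := cp_pow_succ cp_p5 a6_ok_spec
theorem cp_p7 : Cp (M11D.gE ^ 7) a7T := cp_pow_succ cp_p6 a7_ok_spec
theorem cp_p8 : Cp (M11D.gE ^ 8) a8T := cp_pow_succ cp_p7 a8_ok_spec
theorem cp_p9 : Cp (M11D.gE ^ 9) a9T := cp_pow_succ cp_p8 a9_ok_spec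
theorem cp_p10 : Cp (M11D.gE ^ 10) a10T := cp_pow_succ cp_p9 a10_ok_spec

theorem gE_pow11 : M11D.gE ^ 11 = 1 := by
  have h : Cp (M11D.gE ^ (10 + 1)) (fun v => v) := cp_pow_succ cp_p10 (fun v hv => (a11_ok_spec v hv).symm)
  exact h.eq_one (fun _ _ => rfl)

/-- the functions of the tables compute the powers of the element of order 11. -/
theorem cp_aF : ∀ e, e < 11 → Cp (M11D.gE ^ e) (aF e) := by
  intro e he
  interval_cases e
  · rw [pow_zero]
    exact Cp.one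
  · exact cp_p1
  · exact cp_p2
  · exact cp_p3
  · exact cp_p4
  · exact cp_p5
  · exact cp_p6
  · exact cp_p7
  · exact cp_p8
  · exact cp_p9
  · exact cp_p10

/-- the exponent of the inverse of a power. -/
def ngE (e : ℕ) : ℕ := Nat.mod (Nat.sub 11 e) 11

theorem ngE_lt (e : ℕ) : ngE e < 11 := Nat.mod_lt _ (by norm_num)

theorem gE_pow_mod (m : ℕ) : M11D.gE ^ m = M11D.gE ^ (m % 11) := by
  conv_lhs => rw [← Nat.div_add_mod m 11, pow_add, pow_mul, gE_pow11, one_pow, one_mul]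

theorem gE_pow_ngE {e : ℕ} (he : e < 11) : (M11D.gE ^ e)⁻¹ = M11D.gE ^ ngE e := by
  rw [inv_eq_iff_mul_eq_one]
  have h : ngE e = (11 - e) % 11 := rfl
  rw [h, ← gE_pow_mod, ← pow_add, Nat.add_sub_cancel' (le_of_lt he), gE_pow11]

theorem cp_aF_inv {e : ℕ} (he : e < 11) : Cp (M11D.gE ^ e)⁻¹ (aF (ngE e)) := by
  rw [gE_pow_ngE he]
  exact cp_aF _ (ngE_lt e)

theorem gT_zero_ne : gT 0 ≠ 0 := by decide +kernel

theorem gE_ne_one : M11D.gE ≠ 1 := cp_gE.ne_one (v := 0) (by norm_num [nP]) gT_zero_ne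

theorem orderOf_gE : orderOf M11D.gE = 11 := by
  have : Fact (Nat.Prime 11) := ⟨by norm_num⟩
  exact orderOf_eq_prime gE_pow11 gE_ne_one

theorem gE_pow_mem (e : ℕ) : M11D.gE ^ e ∈ ONP := ONP.pow_mem gE_mem e

end Cfsg.Agent.Helper9.ONO
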