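import Mathlib
import Cfsg.Agent.Helper9.ONO.Pow

set_option autoImplicit false

/-!
The conjugates of the second generator given by codes: a code holds a shift, a depth and moves,
each move being a letter and a power of the element of order 11; the functions that compute the
conjugates, and the conjugates of these by the powers of the element of order 11.
-/

namespace Cfsg.Agent.Helper9.ONO

open Cfsg Cfsg.Agent.Helper9.J3 Cfsg.Agent.Helper9.ON Cfsg.Agent.Helper9.ONS
open Cfsg.Agent.Helper9.ONS.M11D Cfsg.Agent.Helper5.ONTC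

/-- the inverse letter. -/
def invL (x : ℕ) : ℕ := Bool.rec x (Nat.sub 13 x) (Nat.ble 6 x)

theorem invL_eq {x : ℕ} (hx : x < 8) : invL x = iota x := by
  interval_cases x <;> rfl

theorem invL_lt {x : ℕ} (hx : x < 8) : invL x < 8 := by
  interval_cases x <;> decide

theorem sg_invL {x : ℕ} (hx : x < 8) : (sg x)⁻¹ = sg (invL x) := by
  rw [invL_eq hx, sg_inv]

theorem cp_sg_inv {x : ℕ} (hx : x < 8) : Cp (sg x)⁻¹ (ctF (invL x)) := by
  rw [sg_invL hx]
  exact cp_sg (invL_lt hx)

/-- the shift of a code. -/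
def cdS (c : ℕ) : ℕ := Nat.mod (Nat.land c 15) 11

/-- the depth of a code. -/
def cdD (c : ℕ) : ℕ := Nat.land (Nat.shiftRight c 4) 7

/-- the letter of a move of a code. -/
def mvL (c k : ℕ) : ℕ := Nat.land (Nat.shiftRight c (Nat.add 7 (Nat.mul 7 k))) 7

/-- the exponent of a move of a code. -/
def mvE (c k : ℕ) : ℕ := Nat.mod (Nat.land (Nat.shiftRight c (Nat.add 10 (Nat.mul 7 k))) 15) 11

theorem cdS_lt (c : ℕ) : cdS c < 11 := Nat.mod_lt _ (by norm_num)

theorem mvE_lt (c k : ℕ) : mvE c k < 11 := Nat.mod_lt _ (by norm_num)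

theorem mvL_lt (c k : ℕ) : mvL c k < 8 := Nat.lt_succ_of_le Nat.and_le_right

/-- the function of the conjugate of the second generator by the first moves of a code. -/
def coreF (c d : ℕ) : ℕ → ℕ :=
  Nat.rec (motive := fun _ => ℕ → ℕ) (fun v => sapp (ctF 1) v)
    (fun k ih v => sapp (fun x => sapp (fun e =>
      sapp (ctF x) (sapp (aF e) (ih (sapp (aF (ngE e)) (sapp (ctF (invL x)) v)))))
      (mvE c k)) (mvL c k)) d

theorem coreF_zero (c v : ℕ) : coreF c 0 v = ctF 1 v := sapp_eq _ _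

theorem coreF_succ (c k v : ℕ) : coreF c (k + 1) v =
    ctF (mvL c k) (aF (mvE c k) (coreF c k (aF (ngE (mvE c k)) (ctF (invL (mvL c k)) v)))) := by
  change sapp (fun x => sapp (fun e => sapp (ctF x) (sapp (aF e)
    (coreF c k (sapp (aF (ngE e)) (sapp (ctF (invL x)) v))))) (mvE c k)) (mvL c k) = _
  simp only [sapp_eq]

/-- the conjugate of the second generator by the first moves of a code. -/
noncomputable def coreP (c d : ℕ) : Equiv.Perm (Fin nP) :=
  Nat.rec (sg 1) (fun k ih => sg (mvL c k) * (M11D.gE ^ mvE c k * (ih *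
    ((M11D.gE ^ mvE c k)⁻¹ * (sg (mvL c k))⁻¹)))) d

theorem coreP_zero (c : ℕ) : coreP c 0 = sg 1 := rfl

theorem coreP_succ (c k : ℕ) : coreP c (k + 1) = sg (mvL c k) * (M11D.gE ^ mvE c k * (coreP c k *
    ((M11D.gE ^ mvE c k)⁻¹ * (sg (mvL c k))⁻¹))) := rfl

theorem cp_coreP (c d : ℕ) : Cp (coreP c d) (coreF c d) := by
  induction d with
  | zero =>
    intro v
    rw [coreP_zero, coreF_zero]
    exact cp_sg (by norm_num) v
  | succ k ih =>
    intro v
    rw [coreP_succ, coreF_succ]
    exact Cp.mul (cp_sg (mvL_lt c k)) (Cp.mul (cp_aF _ (mvE_lt c k)) (Cp.mul ih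
      (Cp.mul (cp_aF_inv (mvE_lt c k)) (cp_sg_inv (mvL_lt c k))))) v

theorem coreP_mem (c d : ℕ) : coreP c d ∈ ONP := by
  induction d with
  | zero => exact sg_mem (by norm_num)
  | succ k ih =>
    rw [coreP_succ]
    exact ONP.mul_mem (sg_mem (mvL_lt c k)) (ONP.mul_mem (gE_pow_mem _) (ONP.mul_mem ih
      (ONP.mul_mem (ONP.inv_mem (gE_pow_mem _)) (ONP.inv_mem (sg_mem (mvL_lt c k))))))

/-- the conjugating element of the first moves of a code. -/
noncomputable def coreW (c d : ℕ) : Equiv.Perm (Fin nP) :=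
  Nat.rec 1 (fun k ih => sg (mvL c k) * M11D.gE ^ mvE c k * ih) d

theorem coreW_mem (c d : ℕ) : coreW c d ∈ ONP := by
  induction d with
  | zero => exact ONP.one_mem
  | succ k ih => exact ONP.mul_mem (ONP.mul_mem (sg_mem (mvL_lt c k)) (gE_pow_mem _)) ih

theorem coreP_eq (c d : ℕ) : coreP c d = coreW c d * sg 1 * (coreW c d)⁻¹ := by
  induction d with
  | zero =>
    change sg 1 = 1 * sg 1 * 1⁻¹
    rw [one_mul, inv_one, mul_one]
  | succ k ih =>
    have e : coreW c (k + 1) = sg (mvL c k) * M11D.gE ^ mvE c k * coreW c k := rfl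
    rw [coreP_succ, ih, e]
    group

/-- the function of the conjugate of the core of a code by a power of the element of order
11. -/
def shF (c s : ℕ) (v : ℕ) : ℕ := sapp (aF s) (coreF c (cdD c) (sapp (aF (ngE s)) v))

theorem shF_eq (c s v : ℕ) : shF c s v = aF s (coreF c (cdD c) (aF (ngE s) v)) := by
  unfold shF
  simp only [sapp_eq]

/-- the conjugate of the core of a code by a power of the element of order 11. -/
noncomputable def shP (c s : ℕ) : Equiv.Perm (Fin nP) :=
  M11D.gE ^ s * (coreP c (cdD c) * (M11D.gE ^ s)⁻¹)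

theorem cp_shP (c : ℕ) {s : ℕ} (hs : s < 11) : Cp (shP c s) (shF c s) := by
  intro v
  rw [shF_eq]
  exact Cp.mul (cp_aF s hs) (Cp.mul (cp_coreP c (cdD c)) (cp_aF_inv hs)) v

theorem shP_mem (c s : ℕ) : shP c s ∈ ONP :=
  ONP.mul_mem (gE_pow_mem _) (ONP.mul_mem (coreP_mem _ _) (ONP.inv_mem (gE_pow_mem _)))

/-- the function of the conjugate of the second generator given by a code. -/
def repF (c : ℕ) (v : ℕ) : ℕ := sapp (fun s => shF c s v) (cdS c)

/-- the conjugate of the second generator given by a code. -/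
noncomputable def repP (c : ℕ) : Equiv.Perm (Fin nP) := shP c (cdS c)

theorem cp_repP (c : ℕ) : Cp (repP c) (repF c) := by
  intro v
  unfold repF
  rw [sapp_eq]
  exact cp_shP c (cdS_lt c) v

theorem repP_mem (c : ℕ) : repP c ∈ ONP := shP_mem _ _

/-- the function of the conjugate, by a power of the element of order 11, of the conjugate of
the second generator given by a code. -/
def cjF (c k : ℕ) (v : ℕ) : ℕ := sapp (fun s => shF c s v) (Nat.mod (Nat.add (cdS c) k) 11)

theorem shP_conj (c s k : ℕ) : M11D.gE ^ k * shP c s * (M11D.gE ^ k)⁻¹ = shP c ((s + k) % 11) := by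
  unfold shP
  rw [← gE_pow_mod, Nat.add_comm s k, pow_add]
  group

theorem cp_cjP (c k : ℕ) : Cp (M11D.gE ^ k * repP c * (M11D.gE ^ k)⁻¹) (cjF c k) := by
  intro v
  unfold cjF repP
  rw [sapp_eq, shP_conj]
  exact cp_shP c (Nat.mod_lt _ (by norm_num)) v

theorem repP_isConj (c : ℕ) : ∃ g ∈ ONP, g * sg 1 * g⁻¹ = repP c := by
  refine ⟨M11D.gE ^ cdS c * coreW c (cdD c), ONP.mul_mem (gE_pow_mem _) (coreW_mem _ _), ?_⟩
  unfold repP shP
  rw [coreP_eq]
  group

end Cfsg.Agent.Helper9.ONO
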