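import Mathlib
import Cfsg.Agent.Helper9.ONO.Rep
import Cfsg.Agent.Helper9.ONO.CodeDefs

set_option autoImplicit false

/-!
The checks of the codes for the kernel: the conjugate given by a code has a smaller key than its
conjugates by the powers of the element of order 11 and than the conjugate of the next code; the
test of a code is a relation that does not hold for the element of order 11 and the conjugate.
-/

namespace Cfsg.Agent.Helper9.ONO

open Cfsg Cfsg.Agent.Helper9.J3 Cfsg.Agent.Helper9.ON Cfsg.Agent.Helper9.ONS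
open Cfsg.Agent.Helper9.ONS.M11D Cfsg.Agent.Helper5.ONTC Cfsg.Agent.Helper9.OutG

/-- the strict lexicographic order of the images of the base under two functions. -/
def lex3 (f g : ℕ → ℕ) : Prop :=
  f 0 < g 0 ∨ (f 0 = g 0 ∧ (f 15 < g 15 ∨ (f 15 = g 15 ∧ f 130 < g 130)))

/-- the check of the strict lexicographic order, the first image under the first function being
given. -/
def lexLt (u0 : ℕ) (f g : ℕ → ℕ) : Bool :=
  sapp (fun w0 => iteB (ltB u0 w0) true (iteB (ltB w0 u0) false
    (sapp (fun u1 => sapp (fun w1 => iteB (ltB u1 w1) true (iteB (ltB w1 u1) false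
      (ltB (f 130) (g 130)))) (g 15)) (f 15)))) (g 0)

theorem lexLt_spec {f g : ℕ → ℕ} (h : lexLt (f 0) f g = true) : lex3 f g := by
  unfold lexLt at h
  simp only [sapp_eq] at h
  cases h1 : ltB (f 0) (g 0) with
  | true => exact Or.inl (ltB_true h1)
  | false =>
    have h2 := iteB_neg h h1
    cases h3 : ltB (g 0) (f 0) with
    | true => exact absurd (iteB_pos h2 h3) Bool.false_ne_true
    | false =>
      have h4 := iteB_neg h2 h3
      have e0 : f 0 = g 0 := le_antisymm (not_lt.1 (ltB_false h3)) (not_lt.1 (ltB_false h1))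
      refine Or.inr ⟨e0, ?_⟩
      cases h5 : ltB (f 15) (g 15) with
      | true => exact Or.inl (ltB_true h5)
      | false =>
        have h6 := iteB_neg h4 h5
        cases h7 : ltB (g 15) (f 15) with
        | true => exact absurd (iteB_pos h6 h7) Bool.false_ne_true
        | false =>
          have h8 := iteB_neg h6 h7
          have e1 : f 15 = g 15 :=
            le_antisymm (not_lt.1 (ltB_false h7)) (not_lt.1 (ltB_false h5))
          exact Or.inr ⟨e1, ltB_true h8⟩

/-- the check of the key of a code. -/
def p6At (j : ℕ) : Bool :=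
  iteB (Nat.ble nR j) true
    (sapp (fun c => sapp (fun u0 =>
      andB (allB (fun k => lexLt u0 (repF c) (cjF c (Nat.succ k))) 10)
        (iteB (Nat.ble nR (Nat.succ j)) true
          (sapp (fun c' => lexLt u0 (repF c) (repF c')) (cdF (Nat.succ j))))) (repF c 0)) (cdF j))

theorem ble_false {a b : ℕ} (h : b < a) : Nat.ble a b = false := by
  cases hc : Nat.ble a b with
  | false => rfl
  | true => have := Nat.le_of_ble_eq_true hc; omega

theorem p6At_spec {j : ℕ} (h : p6At j = true) (hj : j < nR) :
    (∀ k, 0 < k → k < 11 → lex3 (repF (cdF j)) (cjF (cdF j) k)) ∧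
      (j + 1 < nR → lex3 (repF (cdF j)) (repF (cdF (j + 1)))) := by
  unfold p6At at h
  have h1 := iteB_neg h (ble_false hj)
  simp only [sapp_eq] at h1
  obtain ⟨h2, h3⟩ := andB_true h1
  constructor
  · intro k hk0 hk
    obtain ⟨k', rfl⟩ : ∃ k', k = k' + 1 := ⟨k - 1, by omega⟩
    exact lexLt_spec (allB_true h2 (i := k') (by omega))
  · intro hj1
    have h4 := iteB_neg h3 (ble_false (a := nR) (b := Nat.succ j) hj1)
    exact lexLt_spec h4

/-- the relations of the two generators: the exponents of the syllables and the order. -/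
def relsD : List (List ℕ × ℕ) := [([1], 7), ([4, 7], 3), ([1, 10], 4)]

/-- the entry of the list of relations with a given index. -/
def nthD (l : List (List ℕ × ℕ)) (i : ℕ) : List ℕ × ℕ :=
  List.rec (motive := fun _ => ℕ → List ℕ × ℕ) (fun _ => ([], 0))
    (fun w _ ih i => Nat.rec w (fun i' _ => ih i') i) l i

theorem nthD_mem (l : List (List ℕ × ℕ)) (i : ℕ) : nthD l i ∈ l ∨ nthD l i = ([], 0) := by
  induction l generalizing i with
  | nil => exact Or.inr rfl
  | cons w l ih =>
    cases i with
    | zero => exact Or.inl List.mem_cons_self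
    | succ i =>
      rcases ih i with h1 | h1
      · exact Or.inl (List.mem_cons_of_mem _ h1)
      · exact Or.inr h1

/-- the function of a product of syllables. -/
def sylF (sy : List ℕ) (bf : ℕ → ℕ) : ℕ → ℕ :=
  List.rec (motive := fun _ => ℕ → ℕ) (fun v => v) (fun i _ ih v => sapp (aF i) (bf (ih v))) sy

theorem sylF_cons (i : ℕ) (sy : List ℕ) (bf : ℕ → ℕ) (v : ℕ) :
    sylF (i :: sy) bf v = aF i (bf (sylF sy bf v)) := by
  change sapp (aF i) (bf (sylF sy bf v)) = _
  rw [sapp_eq]

/-- the function of a power. -/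
def iterF (f : ℕ → ℕ) (m v : ℕ) : ℕ := Nat.rec v (fun _ acc => f acc) m

theorem iterF_succ (f : ℕ → ℕ) (m v : ℕ) : iterF f (m + 1) v = f (iterF f m v) := rfl

/-- the image of a point under the word of a relation. -/
def relF (ri : ℕ) (bf : ℕ → ℕ) (p : ℕ) : ℕ :=
  iterF (sylF (nthD relsD ri).1 bf) (nthD relsD ri).2 p

theorem cp_syl {B : Equiv.Perm (Fin nP)} {bf : ℕ → ℕ} (hB : Cp B bf) (sy : List ℕ)
    (hsy : ∀ i ∈ sy, i < 11) : Cp ((sy.map (fun i => M11D.gE ^ i * B)).prod) (sylF sy bf) := by
  induction sy with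
  | nil => exact Cp.one
  | cons i sy ih =>
    intro v
    rw [List.map_cons, List.prod_cons, sylF_cons]
    exact Cp.mul (Cp.mul (cp_aF i (hsy i List.mem_cons_self)) hB)
      (ih (fun k hk => hsy k (List.mem_cons_of_mem _ hk))) v

theorem cp_iter {g : Equiv.Perm (Fin nP)} {f : ℕ → ℕ} (h : Cp g f) (m : ℕ) :
    Cp (g ^ m) (iterF f m) := by
  induction m with
  | zero =>
    rw [pow_zero]
    exact Cp.one
  | succ m ih =>
    intro v
    rw [pow_succ', iterF_succ]
    exact Cp.mul h ih v

/-- the index of the second generator among the codes. -/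
def j0 : ℕ := 134

/-- the index of the image of the second generator under the further automorphism among the
codes. -/
def j1 : ℕ := 9032

/-- the test of a code. -/
def p7At (j : ℕ) : Bool :=
  iteB (orB (Nat.ble nR j) (orB (Nat.beq j j0) (Nat.beq j j1))) true
    (sapp (fun c => sapp (fun t => sapp (fun p => andB (ltB p nP)
      (notB (Nat.beq (relF (Nat.shiftRight t 17) (repF c) p) p))) (Nat.land t 131071))
      (tsF j)) (cdF j))

theorem beq_false {a b : ℕ} (h : a ≠ b) : Nat.beq a b = false := by
  cases hc : Nat.beq a b with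
  | false => rfl
  | true => exact absurd (Nat.eq_of_beq_eq_true hc) h

theorem p7At_spec {j : ℕ} (h : p7At j = true) (hj : j < nR) (h0 : j ≠ j0) (h1 : j ≠ j1) :
    ∃ ri p, p < nP ∧ relF ri (repF (cdF j)) p ≠ p := by
  unfold p7At at h
  have hc : orB (Nat.ble nR j) (orB (Nat.beq j j0) (Nat.beq j j1)) = false := by
    rw [ble_false hj, beq_false h0, beq_false h1]
    rfl
  have h2 := iteB_neg h hc
  simp only [sapp_eq] at h2
  obtain ⟨h3, h4⟩ := andB_true h2
  refine ⟨Nat.shiftRight (tsF j) 17, Nat.land (tsF j) 131071, ltB_true h3, ?_⟩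
  intro e
  have h5 := notB_true h4
  rw [e] at h5
  have : Nat.beq (Nat.land (tsF j) 131071) (Nat.land (tsF j) 131071) = true := Nat.beq_refl _
  rw [this] at h5
  exact Bool.noConfusion h5

end Cfsg.Agent.Helper9.ONO
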