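import Mathlib
import Cfsg.Agent.Helper9.ONO.Chk

set_option autoImplicit false

/-!
The key of a permutation of the 122760 points: the number made of the images of the points of the
base; the strict lexicographic order of the images gives the order of the keys.
-/

namespace Cfsg.Agent.Helper9.ONO

open Cfsg Cfsg.Agent.Helper9.J3 Cfsg.Agent.Helper9.ON Cfsg.Agent.Helper9.ONS

/-- the key of a permutation. -/
def keyP (p : Equiv.Perm (Fin nP)) : ℕ :=
  (p ⟨0, by norm_num⟩).val * 17179869184 + (p ⟨15, by norm_num⟩).val * 131072 +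
    (p ⟨130, by norm_num⟩).val

theorem keyP_lt {p q : Equiv.Perm (Fin nP)} {f g : ℕ → ℕ} (hp : Cp p f) (hq : Cp q g)
    (h : lex3 f g) : keyP p < keyP q := by
  unfold keyP
  have e0 := hp ⟨0, by norm_num⟩
  have e1 := hp ⟨15, by norm_num⟩
  have e2 := hp ⟨130, by norm_num⟩
  have d0 := hq ⟨0, by norm_num⟩
  have d1 := hq ⟨15, by norm_num⟩
  have d2 := hq ⟨130, by norm_num⟩
  have b1 : (p ⟨15, by norm_num⟩).val < 122760 := Fin.isLt _
  have b2 : (p ⟨130, by norm_num⟩).val < 122760 := Fin.isLt _
  have c1 : (q ⟨15, by norm_num⟩).val < 122760 := Fin.isLt _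
  have c2 : (q ⟨130, by norm_num⟩).val < 122760 := Fin.isLt _
  change _ = f 0 at e0
  change _ = f 15 at e1
  change _ = f 130 at e2
  change _ = g 0 at d0
  change _ = g 15 at d1
  change _ = g 130 at d2
  unfold lex3 at h
  rw [← e0, ← e1, ← e2, ← d0, ← d1, ← d2] at h
  omega

end Cfsg.Agent.Helper9.ONO
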