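import Mathlib
import Cfsg.Agent.Helper9.ONO.Key
import Cfsg.Agent.Helper9.ONO.Abs
import Cfsg.Agent.Helper9.ONO.SylDat
import Cfsg.Agent.Helper9.OutG.Abs

set_option autoImplicit false
set_option Elab.async false

/-!
A subgroup of order 512 of the group on the 122760 points, given by words: its elements, and the
involutions among them, which are conjugates of the second generator; hence every involution of
the group is a conjugate of the second generator.
-/

namespace Cfsg.Agent.Helper9.ONO

open Cfsg Cfsg.Agent.Helper9.J3 Cfsg.Agent.Helper9.ON Cfsg.Agent.Helper9.ONS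
open Cfsg.Agent.Helper9.ONS.M11D Cfsg.Agent.Helper5.ONTC Cfsg.Agent.Helper9.OutG

/-- the entry of a list of words with a given index. -/
def wAt (l : List (List ℕ)) (i : ℕ) : List ℕ :=
  List.rec (motive := fun _ => ℕ → List ℕ) (fun _ => [])
    (fun w _ ih i => Nat.rec w (fun i' _ => ih i') i) l i

theorem wAt_mem (l : List (List ℕ)) (i : ℕ) : wAt l i ∈ l ∨ wAt l i = [] := by
  induction l generalizing i with
  | nil => exact Or.inr rfl
  | cons w l ih =>
    cases i with
    | zero => exact Or.inl List.mem_cons_self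
    | succ i =>
      rcases ih i with h1 | h1
      · exact Or.inl (List.mem_cons_of_mem _ h1)
      · exact Or.inr h1

/-- the entry of a list of numbers with a given index. -/
def nAt (l : List ℕ) (i : ℕ) : ℕ :=
  List.rec (motive := fun _ => ℕ → ℕ) (fun _ => 0)
    (fun w _ ih i => Nat.rec w (fun i' _ => ih i') i) l i

/-- the function of a generator of the subgroup. -/
def gsF (k v : ℕ) : ℕ := evC (wAt sgW k) v

/-- a generator of the subgroup. -/
noncomputable def gsP (k : ℕ) : Equiv.Perm (Fin nP) := pW (wAt sgW k)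

theorem sgW_ok : ∀ w ∈ sgW, ∀ x ∈ w, x < 8 := by decide

theorem wAt_sgW_ok (k : ℕ) : ∀ x ∈ wAt sgW k, x < 8 := by
  rcases wAt_mem sgW k with h | h
  · exact sgW_ok _ h
  · rw [h]
    intro x hx
    exact absurd hx List.not_mem_nil

theorem cp_gsP (k : ℕ) : Cp (gsP k) (gsF k) := cp_pW _ (wAt_sgW_ok k)

theorem gsP_mem (k : ℕ) : gsP k ∈ ONP := pW_mem _ (wAt_sgW_ok k)

/-- the function of an element of the subgroup. -/
def elF (i v : ℕ) : ℕ := evL gsF (wAt sEl i) v

/-- an element of the subgroup. -/
noncomputable def elP (i : ℕ) : Equiv.Perm (Fin nP) := pL gsP (wAt sEl i)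

theorem cp_elP (i : ℕ) : Cp (elP i) (elF i) := cp_pL _ (fun x _ => cp_gsP x)

theorem elP_mem (i : ℕ) : elP i ∈ ONP := pL_mem _ (fun x _ => gsP_mem x)

/-- the subgroup. -/
noncomputable def S0 : Subgroup (Equiv.Perm (Fin nP)) :=
  Subgroup.closure (Set.range fun k : Fin 6 => gsP k.val)

theorem gsP_mem_S0 (k : ℕ) : gsP k ∈ S0 := by
  by_cases hk : k < 6
  · exact Subgroup.subset_closure ⟨⟨k, hk⟩, rfl⟩
  · have e : wAt sgW k = [] := by
      obtain ⟨m, rfl⟩ : ∃ m, k = m + 6 := ⟨k - 6, by omega⟩
      rfl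
    unfold gsP
    rw [e]
    exact S0.one_mem

theorem elP_mem_S0 (i : ℕ) : elP i ∈ S0 := by
  apply Subgroup.list_prod_mem
  intro p hp
  obtain ⟨x, -, rfl⟩ := List.mem_map.1 hp
  exact gsP_mem_S0 x

theorem S0_le : S0 ≤ ONP := by
  unfold S0
  rw [Subgroup.closure_le]
  rintro _ ⟨k, rfl⟩
  exact gsP_mem k.val

/-- the index of the product of a generator and an element. -/
def sMulF (t : ℕ) : ℕ := lkF 9 511 sMulT t

/-- the check of a product of a generator and an element. -/
def clChk (t : ℕ) : Bool :=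
  sapp (fun m => andB (ltB m 512)
    (agr3 (fun v => gsF (Nat.shiftRight t 9) (elF (Nat.land t 511) v)) (elF m))) (sMulF t)

set_option maxRecDepth 1000000 in
theorem cl_0 : allC clChk 0 512 = true := by decide +kernel

set_option maxRecDepth 1000000 in
theorem cl_1 : allC clChk 1 512 = true := by decide +kernel

set_option maxRecDepth 1000000 in
theorem cl_2 : allC clChk 2 512 = true := by decide +kernel

set_option maxRecDepth 1000000 in
theorem cl_3 : allC clChk 3 512 = true := by decide +kernel

set_option maxRecDepth 1000000 in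
theorem cl_4 : allC clChk 4 512 = true := by decide +kernel

set_option maxRecDepth 1000000 in
theorem cl_5 : allC clChk 5 512 = true := by decide +kernel

theorem cl_all : ∀ k, k < 6 → allC clChk k 512 = true := by
  intro k hk
  interval_cases k
  · exact cl_0
  · exact cl_1
  · exact cl_2
  · exact cl_3
  · exact cl_4
  · exact cl_5

theorem cl_spec {k i : ℕ} (hk : k < 6) (hi : i < 512) :
    sMulF (k * 512 + i) < 512 ∧ gsP k * elP i = elP (sMulF (k * 512 + i)) := by
  have h : clChk (k * 512 + i) = true :=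
    allC_true cl_all (v := k * 512 + i) (by omega)
  unfold clChk at h
  rw [sapp_eq] at h
  obtain ⟨h1, h2⟩ := andB_true h
  have e1 : Nat.shiftRight (k * 512 + i) 9 = k := by
    change (k * 512 + i) >>> 9 = k
    rw [Nat.shiftRight_eq_div_pow]
    omega
  have e2 : Nat.land (k * 512 + i) 511 = i := by
    change (k * 512 + i) &&& 511 = i
    have : (511 : ℕ) = 2 ^ 9 - 1 := by norm_num
    rw [this, Nat.and_two_pow_sub_one_eq_mod]
    omega
  rw [e1, e2] at h2
  refine ⟨ltB_true h1, ?_⟩
  exact eq_of_agr3 (ONP.mul_mem (gsP_mem k) (elP_mem i)) (elP_mem _)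
    (Cp.mul (cp_gsP k) (cp_elP i)) (cp_elP _) h2

theorem wAt_sEl_zero : wAt sEl sI1 = [] := by decide

theorem elP_zero : elP sI1 = 1 := by
  unfold elP
  rw [wAt_sEl_zero]
  rfl

/-- every element of the subgroup is one of the 512 elements. -/
theorem mem_S0 : ∀ g ∈ S0, ∃ j, j < 512 ∧ g = elP j := by
  have key : ∀ g ∈ S0, ∀ i, i < 512 → ∃ j, j < 512 ∧ g * elP i = elP j := by
    apply closure_induction_fin (P := fun g => ∀ i, i < 512 → ∃ j, j < 512 ∧ g * elP i = elP j)
    · intro i hi
      exact ⟨i, hi, one_mul _⟩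
    · rintro _ ⟨k, rfl⟩ i hi
      obtain ⟨h1, h2⟩ := cl_spec k.isLt hi
      exact ⟨_, h1, h2⟩
    · intro x y hx hy i hi
      obtain ⟨j, hj, e⟩ := hy i hi
      obtain ⟨j', hj', e'⟩ := hx j hj
      exact ⟨j', hj', by rw [mul_assoc, e, e']⟩
  intro g hg
  obtain ⟨j, hj, e⟩ := key g hg sI1 (by decide)
  rw [elP_zero, mul_one] at e
  exact ⟨j, hj, e⟩

/-- the check that the keys of the elements increase. -/
def srtChk (i : ℕ) : Bool := lexLt (elF i 0) (elF i) (elF (Nat.succ i))

set_option maxRecDepth 1000000 in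
theorem srt_ok : allB srtChk 511 = true := by decide +kernel

theorem key_elP_lt {i j : ℕ} (hij : i < j) (hj : j < 512) : keyP (elP i) < keyP (elP j) := by
  induction j with
  | zero => omega
  | succ m ih =>
    have hstep : keyP (elP m) < keyP (elP (m + 1)) :=
      keyP_lt (cp_elP m) (cp_elP (m + 1)) (lexLt_spec (allB_true srt_ok (i := m) (by omega)))
    rcases Nat.lt_succ_iff_lt_or_eq.1 hij with h1 | h1
    · exact lt_trans (ih h1 (by omega)) hstep
    · rw [h1]
      exact hstep

theorem elP_inj {i j : ℕ} (hi : i < 512) (hj : j < 512) (h : elP i = elP j) : i = j := by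
  rcases Nat.lt_trichotomy i j with h1 | h1 | h1
  · have := key_elP_lt h1 hj
    rw [h] at this
    omega
  · exact h1
  · have := key_elP_lt h1 hi
    rw [h] at this
    omega

theorem card_S0 : Nat.card ↥S0 = 512 := by
  have e : Fin 512 ≃ ↥S0 := Equiv.ofBijective (fun i => ⟨elP i.val, elP_mem_S0 i.val⟩) (by
    constructor
    · intro i j hij
      exact Fin.ext (elP_inj i.isLt j.isLt (congrArg Subtype.val hij))
    · rintro ⟨g, hg⟩
      obtain ⟨j, hj, rfl⟩ := mem_S0 g hg
      exact ⟨⟨j, hj⟩, rfl⟩)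
  rw [← Nat.card_congr e, Nat.card_fin]

/-- a conjugate of the core of a code by a power of the element of order 11 is a conjugate of the
second generator. -/
theorem shP_isConj (c s : ℕ) : ∃ g ∈ ONP, g * sg 1 * g⁻¹ = shP c s := by
  refine ⟨M11D.gE ^ s * coreW c (cdD c), ONP.mul_mem (gE_pow_mem _) (coreW_mem _ _), ?_⟩
  unfold shP
  rw [coreP_eq]
  group

/-- the check of the kind of an element. -/
def clsChk (i : ℕ) : Bool :=
  sapp (fun t => Nat.rec (motive := fun _ => Bool) (Nat.beq i sI1)
    (fun k1 _ => Nat.rec (motive := fun _ => Bool)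
      (sapp (fun p => andB (ltB p nP) (notB (Nat.beq (elF i (elF i p)) p))) (Nat.shiftRight t 2))
      (fun _ _ => sapp (fun s => andB (ltB s 11) (agr3 (shF (Nat.shiftRight t 6) s) (elF i)))
        (Nat.land (Nat.shiftRight t 2) 15)) k1) (Nat.land t 3)) (nAt sKind i)

set_option maxRecDepth 1000000 in
theorem cls_ok : allB clsChk 512 = true := by decide +kernel

theorem cls_spec {i : ℕ} (hi : i < 512) :
    elP i = 1 ∨ elP i * elP i ≠ 1 ∨ ∃ g ∈ ONP, g * sg 1 * g⁻¹ = elP i := by
  have h : clsChk i = true := allB_true cls_ok hi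
  unfold clsChk at h
  rw [sapp_eq] at h
  generalize nAt sKind i = t at h
  rcases hk : Nat.land t 3 with _ | _ | k2
  · rw [hk] at h
    have e : i = sI1 := Nat.eq_of_beq_eq_true h
    left
    rw [e]
    exact elP_zero
  · rw [hk] at h
    right
    left
    have h' : andB (ltB (Nat.shiftRight t 2) nP)
        (notB (Nat.beq (elF i (elF i (Nat.shiftRight t 2))) (Nat.shiftRight t 2))) = true := by
      have := h
      simp only [sapp_eq] at this
      exact this
    obtain ⟨h1, h2⟩ := andB_true h'
    refine (Cp.mul (cp_elP i) (cp_elP i)).ne_one (ltB_true h1) ?_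
    intro e
    have h3 := notB_true h2
    rw [e] at h3
    have : Nat.beq (Nat.shiftRight t 2) (Nat.shiftRight t 2) = true := Nat.beq_refl _
    rw [this] at h3
    exact Bool.noConfusion h3
  · rw [hk] at h
    right
    right
    have h' : andB (ltB (Nat.land (Nat.shiftRight t 2) 15) 11)
        (agr3 (shF (Nat.shiftRight t 6) (Nat.land (Nat.shiftRight t 2) 15)) (elF i)) = true := by
      have := h
      simp only [sapp_eq] at this
      exact this
    obtain ⟨h1, h2⟩ := andB_true h'
    have e : shP (Nat.shiftRight t 6) (Nat.land (Nat.shiftRight t 2) 15) = elP i :=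
      eq_of_agr3 (shP_mem _ _) (elP_mem i) (cp_shP _ (ltB_true h1)) (cp_elP i) h2
    rw [← e]
    exact shP_isConj _ _

/-- every involution of the subgroup is a conjugate of the second generator. -/
theorem S0_invol {s : Equiv.Perm (Fin nP)} (hs : s ∈ S0) (h2 : s * s = 1) (h1 : s ≠ 1) :
    ∃ g ∈ ONP, g * sg 1 * g⁻¹ = s := by
  obtain ⟨j, hj, rfl⟩ := mem_S0 s hs
  rcases cls_spec hj with h | h | h
  · exact absurd h h1
  · exact absurd h2 h
  · exact h

theorem fac_two : Nat.card ↥(S0.subgroupOf ONP) = 2 ^ (Nat.card ↥ONP).factorization 2 := by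
  rw [Nat.card_congr (Subgroup.subgroupOfEquivOfLe S0_le).toEquiv, card_S0, card_ONP']
  have h1 : (460815505920 : ℕ) = 2 ^ 9 * 900030285 := by norm_num
  rw [h1, Nat.factorization_mul (by norm_num) (by norm_num)]
  simp only [Finsupp.coe_add, Pi.add_apply]
  rw [Nat.factorization_eq_zero_of_not_dvd (n := 900030285) (by norm_num)]
  have : (2 ^ 9).factorization 2 = 9 := by
    rw [Nat.factorization_pow]
    simp [Nat.Prime.factorization_self Nat.prime_two]
  rw [this]
  norm_num

/-- the second generator as an element of the group. -/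
noncomputable def bG : ↥ONP := ⟨sg 1, sg_mem (by norm_num)⟩

/-- **every involution of the group on the 122760 points is a conjugate of the second
generator.** -/
theorem invol_conj (t : ↥ONP) (ht2 : t * t = 1) (ht1 : t ≠ 1) : ∃ g : ↥ONP, g * bG * g⁻¹ = t := by
  have : Finite ↥ONP := Nat.finite_of_card_ne_zero (by rw [card_ONP']; norm_num)
  apply invol_conj_of_sylow (S0.subgroupOf ONP) fac_two bG ?_ t ht2 ht1
  intro s hs hs2 hs1
  have hs' : s.1 ∈ S0 := Subgroup.mem_subgroupOf.1 hs
  have h2 : s.1 * s.1 = 1 := by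
    have := congrArg Subtype.val hs2
    exact this
  have h1 : s.1 ≠ 1 := by
    intro e
    apply hs1
    exact Subtype.ext e
  obtain ⟨g, hg, e⟩ := S0_invol hs' h2 h1
  exact ⟨⟨g, hg⟩, Subtype.ext e⟩

end Cfsg.Agent.Helper9.ONO
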