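import Mathlib
import Cfsg.Agent.Helper9.ONO.Syl
import Cfsg.Agent.Helper9.ONO.GenDat

set_option autoImplicit false
set_option Elab.async false

/-!
The group on the 122760 points is generated by the element of order 11 and the second generator;
an element that normalizes the subgroup of order 11; the relations of the two generators.
-/

namespace Cfsg.Agent.Helper9.ONO

open Cfsg Cfsg.Spor Cfsg.Agent.Helper9.J3 Cfsg.Agent.Helper9.ON Cfsg.Agent.Helper9.ONS
open Cfsg.Agent.Helper9.ONS.M11D Cfsg.Agent.Helper5.ONTC Cfsg.Agent.Helper9.OutG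
open Cfsg.Agent.Helper9.OutL

/-- the function of a letter of the larger alphabet: the letters of the group and, from 8 on, the
powers of the element of order 11. -/
def yF (l v : ℕ) : ℕ := Bool.rec (ctF l v) (aF (Nat.sub l 8) v) (Nat.ble 8 l)

/-- a letter of the larger alphabet. -/
noncomputable def yP (l : ℕ) : Equiv.Perm (Fin nP) :=
  Bool.rec (sg l) (M11D.gE ^ (l - 8)) (Nat.ble 8 l)

theorem yP_mem (l : ℕ) : yP l ∈ ONP := by
  unfold yP
  cases h : Nat.ble 8 l with
  | false =>
    have : l < 8 := by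
      by_contra hc
      have := Nat.ble_eq_true_of_le (not_lt.1 hc)
      rw [h] at this
      exact Bool.noConfusion this
    exact sg_mem this
  | true => exact gE_pow_mem _

theorem cp_yP {l : ℕ} (hl : l < 19) : Cp (yP l) (yF l) := by
  interval_cases l
  · exact cp_sg (x := 0) (by norm_num)
  · exact cp_sg (x := 1) (by norm_num)
  · exact cp_sg (x := 2) (by norm_num)
  · exact cp_sg (x := 3) (by norm_num)
  · exact cp_sg (x := 4) (by norm_num)
  · exact cp_sg (x := 5) (by norm_num)
  · exact cp_sg (x := 6) (by norm_num)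
  · exact cp_sg (x := 7) (by norm_num)
  · exact cp_aF 0 (by norm_num)
  · exact cp_aF 1 (by norm_num)
  · exact cp_aF 2 (by norm_num)
  · exact cp_aF 3 (by norm_num)
  · exact cp_aF 4 (by norm_num)
  · exact cp_aF 5 (by norm_num)
  · exact cp_aF 6 (by norm_num)
  · exact cp_aF 7 (by norm_num)
  · exact cp_aF 8 (by norm_num)
  · exact cp_aF 9 (by norm_num)
  · exact cp_aF 10 (by norm_num)

/-- the check that the letters of a word are letters of the larger alphabet. -/
def lt19 (w : List ℕ) : Bool := List.rec true (fun x _ ih => andB (ltB x 19) ih) w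

theorem lt19_true {w : List ℕ} (h : lt19 w = true) : ∀ x ∈ w, x < 19 := by
  induction w with
  | nil => intro x hx; exact absurd hx List.not_mem_nil
  | cons y w ih =>
    obtain ⟨h1, h2⟩ := andB_true (show andB (ltB y 19) (lt19 w) = true from h)
    intro x hx
    rcases List.mem_cons.1 hx with rfl | hx'
    · exact ltB_true h1
    · exact ih h2 x hx'

theorem cp_yW {w : List ℕ} (h : lt19 w = true) : Cp (pL yP w) (evL yF w) :=
  cp_pL w (fun x hx => cp_yP (lt19_true h x hx))

theorem yW_mem (w : List ℕ) : pL yP w ∈ ONP := pL_mem w (fun x _ => yP_mem x)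

/-- the check that the letters of a word are the second generator and powers of the element of
order 11. -/
def abL (w : List ℕ) : Bool :=
  List.rec true (fun x _ ih => andB (orB (Nat.beq x 1) (Nat.ble 8 x)) ih) w

theorem abL_true {w : List ℕ} (h : abL w = true) :
    pL yP w ∈ Subgroup.closure ({M11D.gE, sg 1} : Set (Equiv.Perm (Fin nP))) := by
  induction w with
  | nil => exact Subgroup.one_mem _
  | cons y w ih =>
    obtain ⟨h1, h2⟩ := andB_true
      (show andB (orB (Nat.beq y 1) (Nat.ble 8 y)) (abL w) = true from h)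
    have e : pL yP (y :: w) = yP y * pL yP w := by
      unfold pL
      rw [List.map_cons, List.prod_cons]
    rw [e]
    refine (Subgroup.closure ({M11D.gE, sg 1} : Set (Equiv.Perm (Fin nP)))).mul_mem ?_ (ih h2)
    rcases orB_true h1 with h3 | h3
    · rw [Nat.eq_of_beq_eq_true h3]
      exact Subgroup.subset_closure (Or.inr rfl)
    · unfold yP
      rw [h3]
      exact (Subgroup.closure ({M11D.gE, sg 1} : Set (Equiv.Perm (Fin nP)))).pow_mem
        (Subgroup.subset_closure (Or.inl rfl)) _

/-- the check of the word of a letter. -/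
def ltChk (x : ℕ) : Bool :=
  andB (lt19 (wAt ltW x)) (andB (abL (wAt ltW x)) (agr3 (ctF x) (evL yF (wAt ltW x))))

set_option maxRecDepth 1000000 in
theorem lt_ok : allB ltChk 7 = true := by decide +kernel

theorem sg_mem_closure {x : ℕ} (hx : x < 7) :
    sg x ∈ Subgroup.closure ({M11D.gE, sg 1} : Set (Equiv.Perm (Fin nP))) := by
  have h : ltChk x = true := allB_true lt_ok hx
  obtain ⟨h1, h2⟩ := andB_true h
  obtain ⟨h2, h3⟩ := andB_true h2
  have e : sg x = pL yP (wAt ltW x) :=
    eq_of_agr3 (sg_mem (by omega)) (yW_mem _) (cp_sg (by omega)) (cp_yW h1) h3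
  rw [e]
  exact abL_true h2

theorem closure_perm :
    Subgroup.closure ({M11D.gE, sg 1} : Set (Equiv.Perm (Fin nP))) = ONP := by
  apply le_antisymm
  · rw [Subgroup.closure_le]
    rintro x (rfl | rfl)
    · exact gE_mem
    · exact sg_mem (by norm_num)
  · unfold ONP
    rw [MonoidHom.range_eq_map, ← PresentedGroup.closure_range_of, MonoidHom.map_closure,
      Subgroup.closure_le]
    rintro _ ⟨_, ⟨z, rfl⟩, rfl⟩
    rw [phi_of]
    apply sg_mem_closure
    cases z <;> decide

/-- the element of order 11 as an element of the group. -/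
noncomputable def aG : ↥ONP := ⟨M11D.gE, gE_mem⟩

/-- the group is generated by the element of order 11 and the second generator. -/
theorem closure_ab : Subgroup.closure ({aG, bG} : Set ↥ONP) = ⊤ := by
  apply Subgroup.map_injective ONP.subtype_injective
  rw [MonoidHom.map_closure, ← MonoidHom.range_eq_map, Subgroup.range_subtype]
  have e : (ONP.subtype '' ({aG, bG} : Set ↥ONP)) = {M11D.gE, sg 1} := by
    rw [Set.image_pair]
    rfl
  rw [e]
  exact closure_perm

theorem finite_ONP : Finite ↥ONP := Nat.finite_of_card_ne_zero (by rw [card_ONP']; norm_num)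

theorem orderOf_aG : orderOf aG = 11 := by
  have h : orderOf (aG : Equiv.Perm (Fin nP)) = orderOf aG := Subgroup.orderOf_coe aG
  rw [← h]
  exact orderOf_gE

theorem aG_pow11 : aG ^ 11 = 1 := by
  rw [← orderOf_aG]
  exact pow_orderOf_eq_one aG

/-- the normalizing element. -/
noncomputable def nG : ↥ONP := ⟨pL yP nW, yW_mem nW⟩

theorem nW_ok : andB (lt19 nW)
    (agr3 (fun v => evL yF nW (gT v)) (fun v => aF 6 (evL yF nW v))) = true := by
  decide +kernel

theorem nG_conj : nG * aG * nG⁻¹ = aG ^ 6 := by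
  rw [mul_inv_eq_iff_eq_mul]
  apply Subtype.ext
  obtain ⟨h1, h2⟩ := andB_true nW_ok
  change pL yP nW * M11D.gE = M11D.gE ^ 6 * pL yP nW
  exact eq_of_agr3 (ONP.mul_mem (yW_mem _) gE_mem) (ONP.mul_mem (gE_pow_mem _) (yW_mem _))
    (Cp.mul (cp_yW h1) cp_gE) (Cp.mul (cp_aF 6 (by norm_num)) (cp_yW h1)) h2

/-- the relations. -/
def relsW : List (List Bool × ℕ) := relsD.map (fun e => (sylW e.1, e.2))

theorem hom_evalW {G H : Type*} [Monoid G] [Monoid H] (φ : G →* H) (w : List Bool) (x y : G) :
    φ (evalW w x y) = evalW w (φ x) (φ y) := by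
  unfold evalW
  rw [map_list_prod, List.map_map]
  congr 1
  apply List.map_congr_left
  intro c _
  simp only [Function.comp_apply]
  split_ifs <;> rfl

/-- the permutation of the word of a relation in two elements of the group. -/
theorem rel_coe (A B : ↥ONP) (sy : List ℕ) (m : ℕ) :
    ((evalW (sylW sy) A B ^ m : ↥ONP) : Equiv.Perm (Fin nP)) =
      (sy.map (fun i => A.1 ^ i * B.1)).prod ^ m := by
  have h1 : ((evalW (sylW sy) A B ^ m : ↥ONP) : Equiv.Perm (Fin nP)) =
      ONP.subtype (evalW (sylW sy) A B ^ m) := rfl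
  rw [h1, map_pow, hom_evalW, evalW_sylW]
  rfl

theorem relsD_lt : ∀ e ∈ relsD, ∀ i ∈ e.1, i < 11 := by decide

theorem cp_rel {B : ↥ONP} {bf : ℕ → ℕ} (hB : Cp B.1 bf) {e : List ℕ × ℕ} (he : e ∈ relsD) :
    Cp ((evalW (sylW e.1) (aG ^ 1) B ^ e.2 : ↥ONP) : Equiv.Perm (Fin nP))
      (iterF (sylF e.1 bf) e.2) := by
  rw [rel_coe, pow_one]
  exact cp_iter (cp_syl hB e.1 (relsD_lt e he)) e.2

theorem rels_ok : allB (fun ri => agr3 (relF ri (ctF 1)) (fun v => v)) 3 = true := by
  decide +kernel

theorem nthD_relsD {e : List ℕ × ℕ} (he : e ∈ relsD) : ∃ ri, ri < 3 ∧ nthD relsD ri = e := by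
  have h : e = ([1], 7) ∨ e = ([4, 7], 3) ∨ e = ([1, 10], 4) := by
    simpa [relsD] using he
  rcases h with rfl | rfl | rfl
  · exact ⟨0, by norm_num, rfl⟩
  · exact ⟨1, by norm_num, rfl⟩
  · exact ⟨2, by norm_num, rfl⟩

/-- the relations hold for the two generators. -/
theorem hrels : ∀ e ∈ relsW, evalW e.1 aG bG ^ e.2 = 1 := by
  intro e he
  obtain ⟨d, hd, rfl⟩ := List.mem_map.1 he
  obtain ⟨ri, hri, hn⟩ := nthD_relsD hd
  apply Subtype.ext
  have hc := cp_rel (B := bG) (bf := ctF 1) (cp_sg (by norm_num)) hd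
  rw [pow_one] at hc
  have hk : agr3 (relF ri (ctF 1)) (fun v => v) = true := allB_true rels_ok hri
  unfold relF at hk
  rw [hn] at hk
  exact eq_one_of_agr3 (Subtype.mem _) hc hk

end Cfsg.Agent.Helper9.ONO
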