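import Mathlib

set_option autoImplicit false

/-! The words of the images of the letters of the group on the 122760 points under the further
automorphism. -/

namespace Cfsg.Agent.Helper9.ONO

/-- the words of the images of the letters. -/
def tauW : List (List ℕ) := [[0, 1, 7, 2, 1, 7, 3, 4, 2, 3, 2, 0, 1, 6, 0, 1, 2, 3, 0, 1, 2, 3, 4, 5, 3, 0, 1, 2, 0, 1, 0], [6, 1, 2, 6, 2, 3, 0, 1, 2, 3, 1, 0], [2, 6, 1, 2, 3, 4, 2, 3, 1, 6, 4, 3, 0, 1, 2, 3, 4, 0, 1, 2, 3, 2, 3, 4, 1, 2, 3, 0, 1, 2, 3, 4, 5, 0, 1, 2, 3, 4], [7, 3, 4, 5, 3, 2, 3, 4, 3, 1, 2, 1, 6, 0, 1, 2, 3, 4, 1, 2, 3, 1, 2, 3, 4, 3, 2, 3, 1, 2, 3, 4, 5, 2, 3, 1, 2, 3], [6, 4, 1, 2, 3, 2, 1, 6, 4, 3, 6, 4, 6, 1, 2, 3, 2, 3, 4, 1, 2, 3, 0, 1, 2, 3, 4, 3, 2, 3, 1, 2, 3, 0, 1, 2,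 3, 4, 5], [7, 4, 1, 6, 4, 1, 2, 3, 2, 1, 6, 0, 1, 2, 3, 4, 3, 2, 3, 1, 2, 3, 4, 5, 1, 2, 3, 4, 2, 3, 1, 2, 3, 0, 1, 2, 3, 0], [3, 6, 4, 2, 3, 7, 4, 0, 1, 2, 3, 2, 1, 6, 3, 2, 3, 0, 1, 2, 3, 4, 0, 1, 2, 3, 2, 3, 1, 2, 3, 4, 2, 3, 2, 3, 1, 2], [2, 1, 3, 2, 3, 2, 4, 3, 2, 1, 3, 2, 3, 2, 1, 0, 4, 3, 2, 1, 0, 3, 2, 3, 7, 1, 2, 3, 2, 1, 0, 4, 6, 3, 2, 4, 7, 3]]

/-- a point fixed by the image of the witness. -/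
def tauFix : ℕ := 37215

end Cfsg.Agent.Helper9.ONO
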