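import Mathlib
import Cfsg.Agent.Helper9.ONO.Gen
import Cfsg.Agent.Helper9.ONO.TauDat

set_option autoImplicit false
set_option Elab.async false

/-!
The further automorphism of the group on the 122760 points: the images of the letters, given by
words, satisfy the relators of the presentation on the base, hence everywhere; the automorphism
fixes the element of order 11 and maps the second generator to the conjugate given by a code.
-/

namespace Cfsg.Agent.Helper9.ONO

open Cfsg Cfsg.Spor Cfsg.Agent.Helper9.J3 Cfsg.Agent.Helper9.ON Cfsg.Agent.Helper9.ONS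
open Cfsg.Agent.Helper9.ONS.M11D Cfsg.Agent.Helper5.ONTC Cfsg.Agent.Helper9.OutG
open Cfsg.Agent.Helper5.TC Cfsg.Agent.S1692

/-- the function of the image of a letter. -/
def tauF (x v : ℕ) : ℕ := evC (wAt tauW x) v

/-- the image of a letter. -/
noncomputable def gm (x : ℕ) : Equiv.Perm (Fin nP) := pW (wAt tauW x)

theorem tauW_ok : ∀ w ∈ tauW, ∀ x ∈ w, x < 8 := by decide

theorem wAt_tauW_ok (k : ℕ) : ∀ x ∈ wAt tauW k, x < 8 := by
  rcases wAt_mem tauW k with h | h
  · exact tauW_ok _ h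
  · rw [h]
    intro x hx
    exact absurd hx List.not_mem_nil

theorem cp_gm (x : ℕ) : Cp (gm x) (tauF x) := cp_pW _ (wAt_tauW_ok x)

theorem gm_mem (x : ℕ) : gm x ∈ ONP := pW_mem _ (wAt_tauW_ok x)

theorem gm_ge {x : ℕ} (hx : 8 ≤ x) : gm x = 1 := by
  obtain ⟨m, rfl⟩ : ∃ m, x = m + 8 := ⟨x - 8, by omega⟩
  rfl

theorem inv_ok : allB (fun x => agr3 (fun v => tauF x (tauF (iota x) v)) (fun v => v)) 8 = true := by
  decide +kernel

theorem gm_mul (x : ℕ) : gm x * gm (iota x) = 1 := by
  rcases Nat.lt_or_ge x 8 with h | h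
  · exact eq_one_of_agr3 (ONP.mul_mem (gm_mem _) (gm_mem _)) (Cp.mul (cp_gm x) (cp_gm (iota x)))
      (allB_true inv_ok h)
  · rw [iota_ge h, gm_ge h, one_mul]

/-- the image of a point under a word, the first letter acting first. -/
def evR (fs : ℕ → ℕ → ℕ) (l : List ℕ) (v : ℕ) : ℕ :=
  List.rec (motive := fun _ => ℕ → ℕ) (fun v => v) (fun x _ ih v => ih (sapp (fs x) v)) l v

theorem evR_cons (fs : ℕ → ℕ → ℕ) (x : ℕ) (l : List ℕ) (v : ℕ) :
    evR fs (x :: l) v = evR fs l (fs x v) := by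
  change evR fs l (sapp (fs x) v) = _
  rw [sapp_eq]

theorem cp_rprod {ps : ℕ → Equiv.Perm (Fin nP)} {fs : ℕ → ℕ → ℕ} (h : ∀ x, Cp (ps x) (fs x))
    (l : List ℕ) : Cp (rprod ps l) (evR fs l) := by
  induction l with
  | nil => exact Cp.one
  | cons x l ih =>
    intro v
    have e : rprod ps (x :: l) = rprod ps l * ps x := rfl
    rw [e, evR_cons]
    exact Cp.mul ih (h x) v

theorem rprod_mem {ps : ℕ → Equiv.Perm (Fin nP)} (h : ∀ x, ps x ∈ ONP) (l : List ℕ) :
    rprod ps l ∈ ONP := by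
  induction l with
  | nil => exact ONP.one_mem
  | cons x l ih => exact ONP.mul_mem ih (h x)

/-- the check of a relator on the base. -/
def relChk (wi : ℕ) : Bool :=
  agr3 (evR tauF (unpack (E.D.wlen wi) (E.D.wordP wi))) (fun v => v)

set_option maxRecDepth 1000000 in
theorem rel_ok : allB relChk 45 = true := by decide +kernel

theorem gm_rel (wi : ℕ) (hwi : wi < E.D.nrel) :
    rprod gm (unpack (E.D.wlen wi) (E.D.wordP wi)) = 1 :=
  eq_one_of_agr3 (rprod_mem gm_mem _) (cp_rprod cp_gm _) (allB_true rel_ok (show wi < 45 from hwi))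

theorem gm_rels : ∀ r ∈ rels, FreeGroup.lift (fun z => gm (enc z)) r = 1 := by
  intro r hr
  obtain ⟨wi, hwi, hm⟩ := relC r hr
  rw [hm _ gm gm_mul]
  exact gm_rel wi hwi

/-- the homomorphism from the presented group that maps the letters to their images. -/
noncomputable def tau0 : ON →* Equiv.Perm (Fin nP) := PresentedGroup.toGroup gm_rels

theorem tau0_of (z : ON.Gen) : tau0 (PresentedGroup.of z) = gm (enc z) :=
  PresentedGroup.toGroup.of gm_rels

theorem tau0_mem (x : ON) : tau0 x ∈ ONP := by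
  have h : tau0.range ≤ ONP := by
    rw [MonoidHom.range_eq_map, ← PresentedGroup.closure_range_of, MonoidHom.map_closure,
      Subgroup.closure_le]
    rintro _ ⟨_, ⟨z, rfl⟩, rfl⟩
    rw [tau0_of]
    exact gm_mem _
  exact h ⟨x, rfl⟩

/-- the homomorphism into the group. -/
noncomputable def tau1 : ON →* ↥ONP := tau0.codRestrict ONP tau0_mem

theorem tauF_move : tauF 1 0 ≠ 0 := by decide +kernel

theorem tau1_injective : Function.Injective tau1 := by
  have hs : IsSimpleGroup ON := Cfsg.Agent.Helper5.ONLP.spor_is.1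
  rw [← MonoidHom.ker_eq_bot_iff]
  rcases hs.eq_bot_or_eq_top_of_normal tau1.ker inferInstance with h | h
  · exact h
  · exfalso
    have hm : PresentedGroup.of ON.Gen.b ∈ tau1.ker := by
      rw [h]
      trivial
    rw [MonoidHom.mem_ker] at hm
    have h2 : tau0 (PresentedGroup.of ON.Gen.b) = 1 := congrArg Subtype.val hm
    rw [tau0_of] at h2
    exact (cp_gm 1).ne_one (v := 0) (by norm_num [nP]) tauF_move h2

theorem tau1_bijective : Function.Bijective tau1 := by
  have : Finite ↥ONP := finite_ONP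
  have hc : Nat.card ON = Nat.card ↥ONP := by
    rw [card_ONP', Cfsg.Agent.Helper5.ONLP.spor_is.2]
  have : Finite ON := Nat.finite_of_card_ne_zero (by
    rw [Cfsg.Agent.Helper5.ONLP.spor_is.2]
    norm_num)
  exact (Nat.bijective_iff_injective_and_card tau1).2 ⟨tau1_injective, hc⟩

/-- the isomorphism of the presented group and the group on the points. -/
noncomputable def e0 : ON ≃* ↥ONP :=
  MonoidHom.ofInjective (phi_injective Cfsg.Agent.Helper5.ONLP.spor_is.1)

theorem e0_of (z : ON.Gen) : ((e0 (PresentedGroup.of z) : ↥ONP) : Equiv.Perm (Fin nP)) =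
    sg (enc z) := phi_of z

/-- the further automorphism. -/
noncomputable def tauG : MulAut ↥ONP := e0.symm.trans (MulEquiv.ofBijective tau1 tau1_bijective)

theorem tauG_e0 (x : ON) : tauG (e0 x) = tau1 x := by
  unfold tauG
  rw [MulEquiv.trans_apply, MulEquiv.symm_apply_apply]
  rfl

theorem tauG_letter {x : ℕ} (hx : x < 8) (h : sg x ∈ ONP) :
    ((tauG ⟨sg x, h⟩ : ↥ONP) : Equiv.Perm (Fin nP)) = gm x := by
  have key : ∀ z : ON.Gen, ∀ h' : sg (enc z) ∈ ONP,
      ((tauG ⟨sg (enc z), h'⟩ : ↥ONP) : Equiv.Perm (Fin nP)) = gm (enc z) := by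
    intro z h'
    have e : (⟨sg (enc z), h'⟩ : ↥ONP) = e0 (PresentedGroup.of z) := Subtype.ext (e0_of z).symm
    rw [e, tauG_e0]
    exact tau0_of z
  interval_cases x
  · exact key ON.Gen.a h
  · exact key ON.Gen.b h
  · exact key ON.Gen.c h
  · exact key ON.Gen.d h
  · exact key ON.Gen.e h
  · exact key ON.Gen.f h
  · exact key ON.Gen.g h
  · have h6 : sg 6 ∈ ONP := sg_mem (by norm_num)
    have e : (⟨sg 7, h⟩ : ↥ONP) = (⟨sg 6, h6⟩ : ↥ONP)⁻¹ := by
      apply Subtype.ext
      change sg 7 = (sg 6)⁻¹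
      rw [sg_inv]
      rfl
    rw [e, map_inv]
    change (((tauG ⟨sg 6, h6⟩ : ↥ONP) : Equiv.Perm (Fin nP)))⁻¹ = gm 7
    have k6 : ((tauG ⟨sg 6, h6⟩ : ↥ONP) : Equiv.Perm (Fin nP)) = gm 6 := key ON.Gen.g h6
    rw [k6]
    have := gm_mul 6
    exact inv_eq_of_mul_eq_one_right this

theorem tauG_word (w : List ℕ) (hw : ∀ x ∈ w, x < 8) :
    ((tauG ⟨pW w, pW_mem w hw⟩ : ↥ONP) : Equiv.Perm (Fin nP)) = pL gm w := by
  induction w with
  | nil =>
    have e : (⟨pW [], pW_mem [] hw⟩ : ↥ONP) = 1 := rfl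
    rw [e, map_one]
    rfl
  | cons x w ih =>
    have hx : x < 8 := hw x List.mem_cons_self
    have hw' : ∀ y ∈ w, y < 8 := fun y hy => hw y (List.mem_cons_of_mem _ hy)
    have e : (⟨pW (x :: w), pW_mem (x :: w) hw⟩ : ↥ONP) =
        ⟨sg x, sg_mem hx⟩ * ⟨pW w, pW_mem w hw'⟩ := by
      apply Subtype.ext
      change pW (x :: w) = sg x * pW w
      unfold pW
      rw [List.map_cons, List.prod_cons]
    rw [e, map_mul]
    change ((tauG ⟨sg x, sg_mem hx⟩ : ↥ONP) : Equiv.Perm (Fin nP)) *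
      ((tauG ⟨pW w, pW_mem w hw'⟩ : ↥ONP) : Equiv.Perm (Fin nP)) = pL gm (x :: w)
    rw [tauG_letter hx, ih hw']
    unfold pL
    rw [List.map_cons, List.prod_cons]

theorem tauA_ok : agr3 (evL tauF gw) gT = true := by decide +kernel

/-- the further automorphism fixes the element of order 11. -/
theorem tauG_aG : tauG aG = aG := by
  apply Subtype.ext
  have e : aG = ⟨pW gw, pW_mem gw (by decide)⟩ := rfl
  rw [e, tauG_word gw (by decide)]
  exact eq_of_agr3 (pL_mem _ (fun x _ => gm_mem x)) gE_mem (cp_pL gw (fun x _ => cp_gm x)) cp_gE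
    tauA_ok

theorem tauB_ok : agr3 (tauF 1) (repF (cdF j1)) = true := by decide +kernel

/-- the further automorphism maps the second generator to the conjugate given by a code. -/
theorem tauG_bG : ((tauG bG : ↥ONP) : Equiv.Perm (Fin nP)) = repP (cdF j1) := by
  unfold bG
  rw [tauG_letter (by norm_num)]
  exact eq_of_agr3 (gm_mem 1) (repP_mem _) (cp_gm 1) (cp_repP _) tauB_ok

end Cfsg.Agent.Helper9.ONO
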