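import Mathlib

set_option autoImplicit false

/-! The data of the centralizer of an involution in the group on the 122760 points: words that
commute with the involution, for the levels of a chain of stabilisers. -/

namespace Cfsg.Agent.Helper9.ONO

/-- the words of the first level: they map the point 0 to different points. -/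
def cz0 : List (List ℕ) := [[], [6], [2, 6], [3, 6], [3, 2, 6], [6, 2, 6], [6, 3, 6], [6, 3, 2, 6], [6, 3, 6, 1, 2, 3, 0, 1, 2, 3, 4, 3, 2, 3, 1, 2, 0, 1, 3, 6], [6, 3, 6, 0, 1, 2, 3, 0, 1, 2, 3, 4, 3, 2, 3, 1, 2, 0, 1, 3, 6], [6, 3, 2, 6, 1, 2, 3, 0, 1, 2, 3, 4, 3, 2, 3, 1, 2, 0, 1, 3, 2, 6], [6, 2, 3, 6, 1, 2, 3, 0, 1, 2, 3, 4, 3, 2, 3, 1, 2, 0, 1, 3, 2, 6], [1, 2, 3, 0, 1, 2, 3, 4, 3, 2, 3, 1, 2, 0, 1, 6, 3, 6], [0, 1, 2, 3, 0, 1, 2, 3, 4, 3, 2, 3, 1, 2, 0, 1, 6, 3, 6], [3, 6, 2, 6, 1, 2, 3, 0, 1, 2, 3, 4, 3, 2, 3, 1, 2, 0, 1, 6, 2, 6], [6, 2, 6, 3, 1, 2, 3, 0, 1, 2, 3, 4, 3, 2, 3, 1, 2, 0, 1, 6, 2, 6], [6, 3, 6, 1, 2, 3, 0, 1, 2,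 3, 4, 3, 2, 3, 1, 2, 0, 1, 3, 2, 6], [2, 6, 3, 6, 1, 2, 3, 0, 1, 2, 3, 4, 3, 2, 3, 1, 2, 0, 1, 3, 6], [3, 6, 1, 2, 3, 0, 1, 2, 3, 4, 3, 2, 3, 1, 2, 0, 1, 3, 6], [3, 6, 0, 1, 2, 3, 0, 1, 2, 3, 4, 3, 2, 3, 1, 2, 0, 1, 3, 6], [0, 1, 2, 3, 0, 1, 2, 3, 4, 3, 2, 3, 1, 2, 0, 1, 6, 2, 6], [6, 2, 6, 0, 1, 2, 3, 0, 1, 2, 3, 4, 3, 2, 3, 1, 2, 0, 1, 3, 6], [6, 2, 3, 6, 1, 2, 3, 0, 1, 2, 3, 4, 3, 2, 3, 1, 2, 0, 1, 3, 6], [6, 3, 2, 6, 1, 2, 3, 0, 1, 2, 3, 4, 3, 2, 3, 1, 2, 0, 1, 3, 6], [3, 2, 6, 1, 2, 3, 0, 1, 2, 3, 4, 3, 2, 3, 1, 2, 0, 1, 3, 2, 6], [2, 3, 6, 1, 2, 3, 0, 1, 2, 3, 4, 3, 2, 3, 1, 2, 0, 1, 3, 2, 6], [3, 1, 2, 3, 0, 1, 2, 3, 4, 3, 2,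 3, 1, 2, 0, 1, 6, 3, 6], [6, 1, 2, 3, 0, 1, 2, 3, 4, 3, 2, 3, 1, 2, 0, 1, 6, 3, 6], [3, 0, 1, 2, 3, 0, 1, 2, 3, 4, 3, 2, 3, 1, 2, 0, 1, 6, 3, 6], [6, 0, 1, 2, 3, 0, 1, 2, 3, 4, 3, 2, 3, 1, 2, 0, 1, 6, 3, 6], [6, 2, 6, 1, 2, 3, 0, 1, 2, 3, 4, 3, 2, 3, 1, 2, 0, 1, 6, 2, 6], [3, 6, 3, 1, 2, 3, 0, 1, 2, 3, 4, 3, 2, 3, 1, 2, 0, 1, 6, 3, 6], [6, 3, 6, 1, 2, 3, 0, 1, 2, 3, 4, 3, 2, 3, 1, 2, 0, 1, 6, 3, 6], [2, 6, 3, 1, 2, 3, 0, 1, 2, 3, 4, 3, 2, 3, 1, 2, 0, 1, 6, 2, 6], [1, 2, 3, 0, 1, 2, 3, 4, 3, 2, 3, 1, 2, 0, 1, 6, 2, 6], [6, 2, 6, 1, 2, 3, 0, 1, 2, 3, 4, 3, 2, 3, 1, 2, 0, 1, 3, 6], [2, 6, 1, 2, 3, 0, 1, 2, 3, 4, 3, 2, 3, 1, 2, 0, 1, 3,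 2, 6], [6, 1, 2, 3, 0, 1, 2, 3, 4, 3, 2, 3, 1, 2, 0, 1, 3, 6], [3, 6, 1, 2, 3, 0, 1, 2, 3, 4, 3, 2, 3, 1, 2, 0, 1, 3, 2, 6], [3, 6, 0, 1, 2, 3, 0, 1, 2, 3, 4, 3, 2, 3, 1, 2, 0, 1, 3, 2, 6], [2, 3, 6, 1, 2, 3, 0, 1, 2, 3, 4, 3, 2, 3, 1, 2, 0, 1, 3, 6], [1, 2, 3, 0, 1, 2, 3, 4, 3, 2, 3, 1, 2, 0, 1, 3, 6], [6, 2, 6, 1, 2, 3, 0, 1, 2, 3, 4, 3, 2, 3, 1, 2, 0, 1, 3, 2, 6], [3, 2, 6, 1, 2, 3, 0, 1, 2, 3, 4, 3, 2, 3, 1, 2, 0, 1, 3, 6], [6, 0, 1, 2, 3, 0, 1, 2, 3, 4, 3, 2, 3, 1, 2, 0, 1, 3, 6], [0, 1, 2, 3, 0, 1, 2, 3, 4, 3, 2, 3, 1, 2, 0, 1, 3, 6], [2, 6, 2, 6, 1, 2, 3, 0, 1, 2, 3, 4, 3, 2, 3, 1, 2, 0, 1, 3, 6], [3, 0, 1, 2, 3, 0, 1, 2, 3,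 4, 3, 2, 3, 1, 2, 0, 1, 6, 2, 6], [6, 0, 1, 2, 3, 0, 1, 2, 3, 4, 3, 2, 3, 1, 2, 0, 1, 6, 2, 6], [2, 6, 0, 1, 2, 3, 0, 1, 2, 3, 4, 3, 2, 3, 1, 2, 0, 1, 3, 6], [2, 6, 0, 1, 2, 3, 0, 1, 2, 3, 4, 3, 2, 3, 1, 2, 0, 1, 3, 2, 6], [3, 6, 1, 2, 3, 0, 1, 2, 3, 4, 3, 2, 3, 1, 2, 0, 1, 6, 3, 2, 6], [3, 6, 1, 2, 3, 0, 1, 2, 3, 4, 3, 2, 3, 1, 2, 0, 1, 6, 2, 6], [6, 3, 1, 2, 3, 0, 1, 2, 3, 4, 3, 2, 3, 1, 2, 0, 1, 6, 3, 6], [3, 6, 1, 2, 3, 0, 1, 2, 3, 4, 3, 2, 3, 1, 2, 0, 1, 6, 3, 6], [2, 6, 1, 2, 3, 0, 1, 2, 3, 4, 3, 2, 3, 1, 2, 0, 1, 6, 3, 2, 6], [3, 1, 2, 3, 0, 1, 2, 3, 4, 3, 2, 3, 1, 2, 0, 1, 6, 3, 2, 6], [3, 6, 0, 1, 2, 3, 0, 1, 2, 3, 4, 3, 2,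 3, 1, 2, 0, 1, 6, 2, 6], [2, 6, 1, 2, 3, 0, 1, 2, 3, 4, 3, 2, 3, 1, 2, 0, 1, 6, 2, 6], [3, 0, 1, 2, 3, 0, 1, 2, 3, 4, 3, 2, 3, 1, 2, 0, 1, 6, 3, 2, 6], [3, 1, 2, 3, 0, 1, 2, 3, 4, 3, 2, 3, 1, 2, 0, 1, 6, 2, 6], [6, 3, 1, 2, 3, 0, 1, 2, 3, 4, 3, 2, 3, 1, 2, 0, 1, 6, 2, 6], [0, 1, 2, 3, 0, 1, 2, 3, 4, 3, 2, 3, 1, 2, 0, 1, 6, 3, 2, 6], [6, 1, 2, 3, 0, 1, 2, 3, 4, 3, 2, 3, 1, 2, 0, 1, 6, 2, 6], [0, 1, 2, 3, 0, 1, 2, 3, 4, 3, 2, 3, 1, 2, 0, 1, 3, 2, 6], [2, 6, 1, 2, 3, 0, 1, 2, 3, 4, 3, 2, 3, 1, 2, 0, 1, 3, 6], [1, 2, 3, 0, 1, 2, 3, 4, 3, 2, 3, 1, 2, 0, 1, 6, 3, 2, 6], [6, 1, 2, 3, 0, 1, 2, 3, 4, 3, 2, 3, 1, 2, 0, 1, 3, 2, 6], [6, 0, 1,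 2, 3, 0, 1, 2, 3, 4, 3, 2, 3, 1, 2, 0, 1, 3, 2, 6], [1, 2, 3, 0, 1, 2, 3, 4, 3, 2, 3, 1, 2, 0, 1, 3, 2, 6], [6, 1, 2, 3, 0, 1, 2, 3, 4, 3, 2, 3, 1, 2, 0, 1, 6, 3, 2, 6], [6, 0, 1, 2, 3, 0, 1, 2, 3, 4, 3, 2, 3, 1, 2, 0, 1, 6, 3, 2, 6], [6, 0, 1, 2, 3, 0, 1, 2, 3, 4, 3, 2, 3, 1, 2, 0, 1, 2, 6], [2, 6, 3, 0, 1, 2, 3, 0, 1, 2, 3, 4, 3, 2, 3, 1, 2, 0, 1, 6], [6, 3, 1, 2, 3, 0, 1, 2, 3, 4, 3, 2, 3, 1, 2, 0, 1, 2, 6], [0, 1, 2, 3, 0, 1, 2, 3, 4, 3, 2, 3, 1, 2, 0, 1, 2, 6], [3, 6, 0, 1, 2, 3, 0, 1, 2, 3, 4, 3, 2, 3, 1, 2, 0, 1, 2, 6], [6, 3, 0, 1, 2, 3, 0, 1, 2, 3, 4, 3, 2, 3, 1, 2, 0, 1, 6], [6, 2, 3, 1, 2, 3, 0, 1, 2, 3, 4, 3, 2, 3, 1, 2,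 0, 1, 6], [3, 0, 1, 2, 3, 0, 1, 2, 3, 4, 3, 2, 3, 1, 2, 0, 1, 6], [1, 2, 3, 0, 1, 2, 3, 4, 3, 2, 3, 1, 2, 0, 1, 6], [6, 1, 2, 3, 0, 1, 2, 3, 4, 3, 2, 3, 1, 2, 0, 1, 2, 6], [2, 6, 0, 1, 2, 3, 0, 1, 2, 3, 4, 3, 2, 3, 1, 2, 0, 1, 2, 6], [3, 6, 3, 1, 2, 3, 0, 1, 2, 3, 4, 3, 2, 3, 1, 2, 0, 1, 2, 6], [2, 6, 2, 3, 1, 2, 3, 0, 1, 2, 3, 4, 3, 2, 3, 1, 2, 0, 1, 6], [3, 2, 6, 3, 1, 2, 3, 0, 1, 2, 3, 4, 3, 2, 3, 1, 2, 0, 1, 2, 6], [2, 3, 6, 1, 2, 3, 0, 1, 2, 3, 4, 3, 2, 3, 1, 2, 0, 1, 2, 6], [2, 6, 1, 2, 3, 0, 1, 2, 3, 4, 3, 2, 3, 1, 2, 0, 1, 2, 6], [1, 2, 3, 0, 1, 2, 3, 4, 3, 2, 3, 1, 2, 0, 1, 2, 6, 3, 1, 2, 3, 0, 1, 2, 3, 4, 3, 2, 3, 1, 2, 0,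 1, 6], [2, 6, 3, 1, 2, 3, 0, 1, 2, 3, 4, 3, 2, 3, 1, 2, 0, 1, 6], [2, 3, 6, 3, 1, 2, 3, 0, 1, 2, 3, 4, 3, 2, 3, 1, 2, 0, 1, 6], [2, 6, 3, 1, 2, 3, 0, 1, 2, 3, 4, 3, 2, 3, 1, 2, 0, 1, 2, 6], [3, 1, 2, 3, 0, 1, 2, 3, 4, 3, 2, 3, 1, 2, 0, 1, 2, 6], [0, 1, 2, 3, 0, 1, 2, 3, 4, 3, 2, 3, 1, 2, 0, 1, 6, 1, 2, 3, 0, 1, 2, 3, 4, 3, 2, 3, 1, 2, 0, 1, 3, 6], [1, 2, 3, 0, 1, 2, 3, 4, 3, 2, 3, 1, 2, 0, 1, 2, 6], [0, 1, 2, 3, 0, 1, 2, 3, 4, 3, 2, 3, 1, 2, 0, 1, 6], [2, 3, 1, 2, 3, 0, 1, 2, 3, 4, 3, 2, 3, 1, 2, 0, 1, 6], [0, 1, 2, 3, 0, 1, 2, 3, 4, 3, 2, 3, 1, 2, 0, 1, 6, 1, 2, 3, 0, 1, 2, 3, 4, 3, 2, 3, 1, 2, 0, 1, 2, 6], [3, 6, 1, 2, 3, 0, 1, 2,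 3, 4, 3, 2, 3, 1, 2, 0, 1, 2, 6], [3, 2, 6, 1, 2, 3, 0, 1, 2, 3, 4, 3, 2, 3, 1, 2, 0, 1, 2, 6], [3, 6, 3, 1, 2, 3, 0, 1, 2, 3, 4, 3, 2, 3, 1, 2, 0, 1, 6], [3, 2, 6, 3, 1, 2, 3, 0, 1, 2, 3, 4, 3, 2, 3, 1, 2, 0, 1, 6], [6, 3, 1, 2, 3, 0, 1, 2, 3, 4, 3, 2, 3, 1, 2, 0, 1, 6], [3, 6, 3, 0, 1, 2, 3, 0, 1, 2, 3, 4, 3, 2, 3, 1, 2, 0, 1, 6], [2, 3, 1, 2, 3, 0, 1, 2, 3, 4, 3, 2, 3, 1, 2, 0, 1, 6, 1, 2, 3, 0, 1, 2, 3, 4, 3, 2, 3, 1, 2, 0, 1, 3, 6], [3, 6, 2, 3, 1, 2, 3, 0, 1, 2, 3, 4, 3, 2, 3, 1, 2, 0, 1, 6], [3, 1, 2, 3, 0, 1, 2, 3, 4, 3, 2, 3, 1, 2, 0, 1, 6], [1, 2, 3, 0, 1, 2, 3, 4, 3, 2, 3, 1, 2, 0, 1, 2, 6, 1, 2, 3, 0, 1, 2, 3, 4, 3, 2, 3,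 1, 2, 0, 1, 2, 6], [2, 3, 6, 3, 1, 2, 3, 0, 1, 2, 3, 4, 3, 2, 3, 1, 2, 0, 1, 2, 6], [2, 3, 1, 2, 3, 0, 1, 2, 3, 4, 3, 2, 3, 1, 2, 0, 1, 6, 1, 2, 3, 0, 1, 2, 3, 4, 3, 2, 3, 1, 2, 0, 1, 2, 6], [1, 2, 3, 0, 1, 2, 3, 4, 3, 2, 3, 1, 2, 0, 1, 6, 3, 1, 2, 3, 0, 1, 2, 3, 4, 3, 2, 3, 1, 2, 0, 1, 6], [6, 3, 1, 2, 3, 0, 1, 2, 3, 4, 3, 2, 3, 1, 2, 0, 1, 6, 1, 2, 3, 0, 1, 2, 3, 4, 3, 2, 3, 1, 2, 0, 1, 2, 6], [1, 2, 3, 0, 1, 2, 3, 4, 3, 2, 3, 1, 2, 0, 1, 6, 1, 2, 3, 0, 1, 2, 3, 4, 3, 2, 3, 1, 2, 0, 1, 3, 6], [3, 0, 1, 2, 3, 0, 1, 2, 3, 4, 3, 2, 3, 1, 2, 0, 1, 6, 1, 2, 3, 0, 1, 2, 3, 4, 3, 2, 3, 1, 2, 0, 1, 3, 6], [3, 1, 2, 3, 0, 1, 2, 3, 4, 3, 2,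 3, 1, 2, 0, 1, 2, 6, 1, 2, 3, 0, 1, 2, 3, 4, 3, 2, 3, 1, 2, 0, 1, 3, 6], [1, 2, 3, 0, 1, 2, 3, 4, 3, 2, 3, 1, 2, 0, 1, 6, 1, 2, 3, 0, 1, 2, 3, 4, 3, 2, 3, 1, 2, 0, 1, 2, 6], [0, 1, 2, 3, 0, 1, 2, 3, 4, 3, 2, 3, 1, 2, 0, 1, 2, 6, 1, 2, 3, 0, 1, 2, 3, 4, 3, 2, 3, 1, 2, 0, 1, 2, 6], [3, 1, 2, 3, 0, 1, 2, 3, 4, 3, 2, 3, 1, 2, 0, 1, 6, 1, 2, 3, 0, 1, 2, 3, 4, 3, 2, 3, 1, 2, 0, 1, 3, 6], [3, 1, 2, 3, 0, 1, 2, 3, 4, 3, 2, 3, 1, 2, 0, 1, 6, 1, 2, 3, 0, 1, 2, 3, 4, 3, 2, 3, 1, 2, 0, 1, 2, 6], [1, 2, 3, 0, 1, 2, 3, 4, 3, 2, 3, 1, 2, 0, 1, 2, 6, 1, 2, 3, 0, 1, 2, 3, 4, 3, 2, 3, 1, 2, 0, 1, 3, 6]]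

/-- the words of the second level: they fix the point 0 and map the point 15 to different
points. -/
def cz1 : List (List ℕ) := [[], [1, 2, 3, 0, 1, 2, 3, 4, 3, 2, 3, 1, 2, 0, 1, 3, 1, 2, 3, 0, 1, 2, 3, 4, 3, 2, 3, 1, 2, 0, 1, 2, 3, 1, 2, 3, 0, 1, 2, 3, 4, 3, 2, 3, 1, 2, 0, 1, 3, 1, 2, 3, 0, 1, 2, 3, 4, 3, 2, 3, 1, 2, 0, 1, 3, 0, 1, 2, 3, 0, 1, 2, 3, 4, 3, 2, 3, 1, 2, 0, 1], [1, 2, 3, 0, 1, 2, 3, 4, 3, 2, 3, 1, 2, 0, 1, 3, 1, 2, 3, 0, 1, 2, 3, 4, 3, 2, 3, 1, 2, 0, 1, 3, 1, 2, 3, 0, 1, 2, 3, 4, 3, 2, 3, 1, 2, 0, 1, 3, 1, 2, 3, 0, 1, 2, 3, 4, 3, 2, 3, 1, 2, 0, 1], [0, 1, 2, 3, 0, 1, 2, 3, 4, 3, 2, 3, 1, 2, 0, 1, 3, 1, 2, 3, 0, 1, 2,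 3, 4, 3, 2, 3, 1, 2, 0, 1, 3, 1, 2, 3, 0, 1, 2, 3, 4, 3, 2, 3, 1, 2, 0, 1, 3, 1, 2, 3, 0, 1, 2, 3, 4, 3, 2, 3, 1, 2, 0, 1], [3, 1, 2, 3, 0, 1, 2, 3, 4, 3, 2, 3, 1, 2, 0, 1, 2, 3, 1, 2, 3, 0, 1, 2, 3, 4, 3, 2, 3, 1, 2, 0, 1, 3, 1, 2, 3, 0, 1, 2, 3, 4, 3, 2, 3, 1, 2, 0, 1, 3, 0, 1, 2, 3, 0, 1, 2, 3, 4, 3, 2, 3, 1, 2, 0, 1], [3, 1, 2, 3, 0, 1, 2, 3, 4, 3, 2, 3, 1, 2, 0, 1, 3, 7, 3, 1, 2, 3, 0, 1, 2, 3, 4, 3, 2, 3, 1, 2, 0, 1, 3, 0, 1, 2, 3, 0, 1, 2, 3, 4, 3, 2, 3, 1, 2, 0, 1, 3, 6], [6, 1, 2, 3, 0, 1, 2, 3, 4, 3, 2, 3, 1, 2, 0, 1, 6, 2, 3, 1, 2, 3, 0, 1, 2, 3, 4, 3, 2, 3, 1, 2, 0, 1, 3, 6, 0, 1, 2, 3, 0, 1, 2, 3, 4, 3, 2, 3, 1, 2, 0, 1,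 6], [1, 2, 3, 0, 1, 2, 3, 4, 3, 2, 3, 1, 2, 0, 1, 2, 3, 1, 2, 3, 0, 1, 2, 3, 4, 3, 2, 3, 1, 2, 0, 1, 3, 1, 2, 3, 0, 1, 2, 3, 4, 3, 2, 3, 1, 2, 0, 1, 3, 1, 2, 3, 0, 1, 2, 3, 4, 3, 2, 3, 1, 2, 0, 1], [0, 1, 2, 3, 0, 1, 2, 3, 4, 3, 2, 3, 1, 2, 0, 1], [0, 1, 2, 3, 0, 1, 2, 3, 4, 3, 2, 3, 1, 2, 0, 1, 3, 0, 1, 2, 3, 0, 1, 2, 3, 4, 3, 2, 3, 1, 2, 0, 1, 3, 1, 2, 3, 0, 1, 2, 3, 4, 3, 2, 3, 1, 2, 0, 1, 3, 1, 2, 3, 0, 1, 2, 3, 4, 3, 2, 3, 1, 2, 0, 1], [2, 3, 1, 2, 3, 0, 1, 2, 3, 4, 3, 2, 3, 1, 2, 0, 1, 3, 1, 2, 3, 0, 1, 2, 3, 4, 3, 2, 3, 1, 2, 0, 1, 3, 0, 1, 2, 3, 0, 1, 2, 3, 4, 3, 2, 3, 1, 2, 0, 1], [3, 1, 2, 3, 0, 1, 2, 3, 4, 3, 2, 3, 1, 2,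 0, 1, 3, 0, 1, 2, 3, 0, 1, 2, 3, 4, 3, 2, 3, 1, 2, 0, 1, 3, 1, 2, 3, 0, 1, 2, 3, 4, 3, 2, 3, 1, 2, 0, 1], [1, 2, 3, 0, 1, 2, 3, 4, 3, 2, 3, 1, 2, 0, 1, 2, 3, 1, 2, 3, 0, 1, 2, 3, 4, 3, 2, 3, 1, 2, 0, 1, 3, 1, 2, 3, 0, 1, 2, 3, 4, 3, 2, 3, 1, 2, 0, 1, 3, 0, 1, 2, 3, 0, 1, 2, 3, 4, 3, 2, 3, 1, 2, 0, 1], [1, 2, 3, 0, 1, 2, 3, 4, 3, 2, 3, 1, 2, 0, 1, 3, 7, 3, 1, 2, 3, 0, 1, 2, 3, 4, 3, 2, 3, 1, 2, 0, 1, 3, 0, 1, 2, 3, 0, 1, 2, 3, 4, 3, 2, 3, 1, 2, 0, 1, 3, 6], [0, 1, 2, 3, 0, 1, 2, 3, 4, 3, 2, 3, 1, 2, 0, 1, 3, 1, 2, 3, 0, 1, 2, 3, 4, 3, 2, 3, 1, 2, 0, 1], [1, 2, 3, 0, 1, 2, 3, 4, 3, 2, 3, 1, 2, 0, 1, 3, 1, 2, 3, 0, 1, 2, 3, 4, 3, 2, 3,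 1, 2, 0, 1], [1, 2, 3, 0, 1, 2, 3, 4, 3, 2, 3, 1, 2, 0, 1], [1, 2, 3, 0, 1, 2, 3, 4, 3, 2, 3, 1, 2, 0, 1, 3, 0, 1, 2, 3, 0, 1, 2, 3, 4, 3, 2, 3, 1, 2, 0, 1, 3, 1, 2, 3, 0, 1, 2, 3, 4, 3, 2, 3, 1, 2, 0, 1, 3, 1, 2, 3, 0, 1, 2, 3, 4, 3, 2, 3, 1, 2, 0, 1], [2, 6, 2, 3, 1, 2, 3, 0, 1, 2, 3, 4, 3, 2, 3, 1, 2, 0, 1, 3, 1, 2, 3, 0, 1, 2, 3, 4, 3, 2, 3, 1, 2, 0, 1, 3, 2, 6], [3, 0, 1, 2, 3, 0, 1, 2, 3, 4, 3, 2, 3, 1, 2, 0, 1, 3, 1, 2, 3, 0, 1, 2, 3, 4, 3, 2, 3, 1, 2, 0, 1, 3, 0, 1, 2, 3, 0, 1, 2, 3, 4, 3, 2, 3, 1, 2, 0, 1], [3, 7, 3, 1, 2, 3, 0, 1, 2, 3, 4, 3, 2, 3, 1, 2, 0, 1, 3, 0, 1, 2, 3, 0, 1, 2, 3, 4, 3, 2, 3, 1, 2, 0, 1, 3, 6], [3, 7,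 3, 1, 2, 3, 0, 1, 2, 3, 4, 3, 2, 3, 1, 2, 0, 1, 3, 0, 1, 2, 3, 0, 1, 2, 3, 4, 3, 2, 3, 1, 2, 0, 1, 3, 6, 3, 1, 2, 3, 0, 1, 2, 3, 4, 3, 2, 3, 1, 2, 0, 1], [7, 3, 1, 2, 3, 0, 1, 2, 3, 4, 3, 2, 3, 1, 2, 0, 1, 3, 0, 1, 2, 3, 0, 1, 2, 3, 4, 3, 2, 3, 1, 2, 0, 1, 3, 6, 3, 1, 2, 3, 0, 1, 2, 3, 4, 3, 2, 3, 1, 2, 0, 1], [3, 0, 1, 2, 3, 0, 1, 2, 3, 4, 3, 2, 3, 1, 2, 0, 1], [1, 2, 3, 0, 1, 2, 3, 4, 3, 2, 3, 1, 2, 0, 1, 3, 0, 1, 2, 3, 0, 1, 2, 3, 4, 3, 2, 3, 1, 2, 0, 1, 3, 1, 2, 3, 0, 1, 2, 3, 4, 3, 2, 3, 1, 2, 0, 1], [0, 1, 2, 3, 0, 1, 2, 3, 4, 3, 2, 3, 1, 2, 0, 1, 3, 0, 1, 2, 3, 0, 1, 2, 3, 4, 3, 2, 3, 1, 2, 0, 1], [3, 0, 1, 2, 3, 0, 1, 2, 3,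 4, 3, 2, 3, 1, 2, 0, 1, 3, 1, 2, 3, 0, 1, 2, 3, 4, 3, 2, 3, 1, 2, 0, 1], [3, 1, 2, 3, 0, 1, 2, 3, 4, 3, 2, 3, 1, 2, 0, 1, 3, 1, 2, 3, 0, 1, 2, 3, 4, 3, 2, 3, 1, 2, 0, 1], [3, 1, 2, 3, 0, 1, 2, 3, 4, 3, 2, 3, 1, 2, 0, 1], [1, 2, 3, 0, 1, 2, 3, 4, 3, 2, 3, 1, 2, 0, 1, 3, 0, 1, 2, 3, 0, 1, 2, 3, 4, 3, 2, 3, 1, 2, 0, 1], [6, 2, 3, 1, 2, 3, 0, 1, 2, 3, 4, 3, 2, 3, 1, 2, 0, 1, 3, 1, 2, 3, 0, 1, 2, 3, 4, 3, 2, 3, 1, 2, 0, 1, 3, 2, 6], [7, 3, 1, 2, 3, 0, 1, 2, 3, 4, 3, 2, 3, 1, 2, 0, 1, 3, 0, 1, 2, 3, 0, 1, 2, 3, 4, 3, 2, 3, 1, 2, 0, 1, 3, 6], [2, 3, 1, 2, 3, 0, 1, 2, 3, 4, 3, 2, 3, 1, 2, 0, 1, 3, 1, 2, 3, 0, 1, 2, 3, 4, 3, 2, 3, 1, 2, 0, 1],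 [3, 1, 2, 3, 0, 1, 2, 3, 4, 3, 2, 3, 1, 2, 0, 1, 3, 0, 1, 2, 3, 0, 1, 2, 3, 4, 3, 2, 3, 1, 2, 0, 1], [3, 1, 2, 3, 0, 1, 2, 3, 4, 3, 2, 3, 1, 2, 0, 1, 3, 1, 2, 3, 0, 1, 2, 3, 4, 3, 2, 3, 1, 2, 0, 1, 3, 1, 2, 3, 0, 1, 2, 3, 4, 3, 2, 3, 1, 2, 0, 1], [3, 0, 1, 2, 3, 0, 1, 2, 3, 4, 3, 2, 3, 1, 2, 0, 1, 3, 1, 2, 3, 0, 1, 2, 3, 4, 3, 2, 3, 1, 2, 0, 1, 3, 1, 2, 3, 0, 1, 2, 3, 4, 3, 2, 3, 1, 2, 0, 1], [1, 2, 3, 0, 1, 2, 3, 4, 3, 2, 3, 1, 2, 0, 1, 3, 1, 2, 3, 0, 1, 2, 3, 4, 3, 2, 3, 1, 2, 0, 1, 3, 1, 2, 3, 0, 1, 2, 3, 4, 3, 2, 3, 1, 2, 0, 1], [3, 1, 2, 3, 0, 1, 2, 3, 4, 3, 2, 3, 1, 2, 0, 1, 2, 3, 1, 2, 3, 0, 1, 2, 3, 4, 3, 2, 3, 1, 2, 0, 1, 3,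 1, 2, 3, 0, 1, 2, 3, 4, 3, 2, 3, 1, 2, 0, 1], [0, 1, 2, 3, 0, 1, 2, 3, 4, 3, 2, 3, 1, 2, 0, 1, 2, 3, 1, 2, 3, 0, 1, 2, 3, 4, 3, 2, 3, 1, 2, 0, 1, 3, 1, 2, 3, 0, 1, 2, 3, 4, 3, 2, 3, 1, 2, 0, 1], [2, 3, 1, 2, 3, 0, 1, 2, 3, 4, 3, 2, 3, 1, 2, 0, 1, 3, 1, 2, 3, 0, 1, 2, 3, 4, 3, 2, 3, 1, 2, 0, 1, 3, 1, 2, 3, 0, 1, 2, 3, 4, 3, 2, 3, 1, 2, 0, 1], [0, 1, 2, 3, 0, 1, 2, 3, 4, 3, 2, 3, 1, 2, 0, 1, 3, 1, 2, 3, 0, 1, 2, 3, 4, 3, 2, 3, 1, 2, 0, 1, 3, 1, 2, 3, 0, 1, 2, 3, 4, 3, 2, 3, 1, 2, 0, 1], [1, 2, 3, 0, 1, 2, 3, 4, 3, 2, 3, 1, 2, 0, 1, 2, 3, 1, 2, 3, 0, 1, 2, 3, 4, 3, 2, 3, 1, 2, 0, 1, 3, 1, 2, 3, 0, 1, 2, 3, 4, 3, 2, 3, 1, 2, 0, 1]]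

/-- the words of the third level: they fix the points 0 and 15 and map the point 91252 to
different points. -/
def cz2 : List (List ℕ) := [[2, 0], [3, 2], [3, 2, 0], [6, 6, 2, 3, 2, 0], [2, 3, 2, 3], [3, 2, 3, 2], [6, 6, 2, 3, 2], [2, 3, 2], [3, 2, 3, 2, 0], [2, 3, 2, 3, 0], [3], [6, 6, 3], [6, 6, 2, 0], [0], [2], [6, 6, 2], [2, 3, 2, 3, 2, 0], [3, 2, 3, 0], [6, 6, 3, 2, 0], [2, 3, 2, 0], [6, 6, 3, 2], [3, 2, 3], [2, 3, 2, 3, 2], [3, 0], [6, 6, 3, 0], [6, 6, 0], [2, 3], [], [6, 6, 2, 3], [6, 6], [6, 6, 2, 3, 0], [2, 3, 0]]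

/-- the code of the involution as a conjugate of the second generator. -/
def zCode : ℕ := 174909109

/-- the shift of the involution as a conjugate of the second generator. -/
def zShift : ℕ := 5

end Cfsg.Agent.Helper9.ONO
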