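import Mathlib
import Cfsg.Agent.Helper9.ONO.Syl
import Cfsg.Agent.Helper9.ONO.CentDat

set_option autoImplicit false
set_option Elab.async false

/-!
The centralizer of an involution in the group on the 122760 points has at least 161280 elements:
words that commute with the involution reach 120, 42 and 32 points along a chain of stabilisers.
-/

namespace Cfsg.Agent.Helper9.ONO

open Cfsg Cfsg.Agent.Helper9.J3 Cfsg.Agent.Helper9.ON Cfsg.Agent.Helper9.ONS
open Cfsg.Agent.Helper9.ONS.M11D Cfsg.Agent.Helper5.ONTC Cfsg.Agent.Helper9.OutG MulAction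

/-- the word of the involution. -/
def zW : List ℕ := [0, 5]

/-- the involution. -/
noncomputable def zP : Equiv.Perm (Fin nP) := pW zW

theorem cp_zP : Cp zP (evC zW) := cp_pW zW (by decide)

theorem zP_mem : zP ∈ ONP := pW_mem zW (by decide)

/-- the elements of the group that commute with the involution. -/
noncomputable def CZ : Subgroup (Equiv.Perm (Fin nP)) := ONP ⊓ Subgroup.centralizer {zP}

/-- the check that the letters of a word are letters. -/
def ltL (w : List ℕ) : Bool := List.rec true (fun x _ ih => andB (ltB x 8) ih) w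

theorem ltL_true {w : List ℕ} (h : ltL w = true) : ∀ x ∈ w, x < 8 := by
  induction w with
  | nil => intro x hx; exact absurd hx List.not_mem_nil
  | cons y w ih =>
    obtain ⟨h1, h2⟩ := andB_true (show andB (ltB y 8) (ltL w) = true from h)
    intro x hx
    rcases List.mem_cons.1 hx with rfl | hx'
    · exact ltB_true h1
    · exact ih h2 x hx'

/-- the check that a word fixes the points of a list. -/
def fixL (w : List ℕ) (pre : List ℕ) : Bool :=
  List.rec true (fun p _ ih => andB (Nat.beq (evC w p) p) ih) pre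

theorem fixL_true {w pre : List ℕ} (h : fixL w pre = true) : ∀ p ∈ pre, evC w p = p := by
  induction pre with
  | nil => intro p hp; exact absurd hp List.not_mem_nil
  | cons q pre ih =>
    obtain ⟨h1, h2⟩ := andB_true (show andB (Nat.beq (evC w q) q) (fixL w pre) = true from h)
    intro p hp
    rcases List.mem_cons.1 hp with rfl | hp'
    · exact Nat.eq_of_beq_eq_true h1
    · exact ih h2 p hp'

/-- the check of the words of a level: the letters are letters, the words commute with the
involution on the base and fix the former points, and the images of the point increase. -/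
def lvChk (pre : List ℕ) (β : ℕ) (ws : List (List ℕ)) : ℕ → Bool :=
  List.rec (motive := fun _ => ℕ → Bool) (fun _ => true)
    (fun w _ ih lo => sapp (fun q => andB (Nat.ble lo q) (andB (ltL w)
      (andB (agr3 (fun v => evC zW (evC w v)) (fun v => evC w (evC zW v)))
        (andB (fixL w pre) (ih (Nat.succ q)))))) (evC w β)) ws

theorem lvChk_cons (pre : List ℕ) (β : ℕ) (w : List ℕ) (ws : List (List ℕ)) (lo : ℕ) :
    lvChk pre β (w :: ws) lo = andB (Nat.ble lo (evC w β)) (andB (ltL w)
      (andB (agr3 (fun v => evC zW (evC w v)) (fun v => evC w (evC zW v)))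
        (andB (fixL w pre) (lvChk pre β ws (Nat.succ (evC w β)))))) := by
  change sapp (fun q => andB (Nat.ble lo q) (andB (ltL w)
    (andB (agr3 (fun v => evC zW (evC w v)) (fun v => evC w (evC zW v)))
      (andB (fixL w pre) (lvChk pre β ws (Nat.succ q)))))) (evC w β) = _
  rw [sapp_eq]

theorem pW_mem_CZ {w pre : List ℕ} (h1 : ltL w = true)
    (h2 : agr3 (fun v => evC zW (evC w v)) (fun v => evC w (evC zW v)) = true)
    (h3 : fixL w pre = true) : pW w ∈ CZ ⊓ fixN (n := nP) pre := by
  have hw := ltL_true h1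
  refine Subgroup.mem_inf.2 ⟨Subgroup.mem_inf.2 ⟨pW_mem w hw, ?_⟩, ?_⟩
  · rw [Subgroup.mem_centralizer_iff]
    intro h hh
    rw [Set.mem_singleton_iff] at hh
    rw [hh]
    exact eq_of_agr3 (ONP.mul_mem zP_mem (pW_mem w hw)) (ONP.mul_mem (pW_mem w hw) zP_mem)
      (Cp.mul cp_zP (cp_pW w hw)) (Cp.mul (cp_pW w hw) cp_zP) h2
  · intro x hx
    apply Fin.ext
    rw [cp_pW w hw x]
    exact fixL_true h3 x.val hx

theorem lvChk_spec (pre : List ℕ) (β : ℕ) (ws : List (List ℕ)) :
    ∀ lo, lvChk pre β ws lo = true →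
      (∀ w ∈ ws, pW w ∈ CZ ⊓ fixN (n := nP) pre ∧ (∀ x ∈ w, x < 8) ∧ lo ≤ evC w β) ∧
        (ws.map (fun w => evC w β)).Pairwise (· < ·) := by
  induction ws with
  | nil =>
    intro lo _
    exact ⟨fun w hw => absurd hw List.not_mem_nil, List.Pairwise.nil⟩
  | cons w ws ih =>
    intro lo h
    rw [lvChk_cons] at h
    obtain ⟨h1, h⟩ := andB_true h
    obtain ⟨h2, h⟩ := andB_true h
    obtain ⟨h3, h⟩ := andB_true h
    obtain ⟨h4, h5⟩ := andB_true h
    obtain ⟨i1, i2⟩ := ih _ h5
    have hlo : lo ≤ evC w β := Nat.le_of_ble_eq_true h1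
    constructor
    · intro u hu
      rcases List.mem_cons.1 hu with rfl | hu'
      · exact ⟨pW_mem_CZ h2 h3 h4, ltL_true h2, hlo⟩
      · obtain ⟨j1, j2, j3⟩ := i1 u hu'
        exact ⟨j1, j2, by omega⟩
    · rw [List.map_cons, List.pairwise_cons]
      refine ⟨?_, i2⟩
      intro q hq
      obtain ⟨u, hu, rfl⟩ := List.mem_map.1 hq
      have := (i1 u hu).2.2
      omega

/-- one level of the chain of stabilisers from checked words. -/
theorem words_level (pre : List ℕ) (β : ℕ) (hβ : β < nP) (ws : List (List ℕ))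
    (h : lvChk pre β ws 0 = true) (c : ℕ)
    (hc : c ≤ Nat.card ↥(CZ ⊓ fixN (n := nP) (pre ++ [β]))) :
    ws.length * c ≤ Nat.card ↥(CZ ⊓ fixN (n := nP) pre) := by
  obtain ⟨h1, h2⟩ := lvChk_spec pre β ws 0 h
  have himg : ∀ w ∈ ws, (pW w ⟨β, hβ⟩).val = evC w β := fun w hw => cp_pW w (h1 w hw).2.1 _
  let O : Finset (Fin nP) := (ws.map (fun w => pW w ⟨β, hβ⟩)).toFinset
  have hnd : (ws.map (fun w => pW w ⟨β, hβ⟩)).Nodup := by
    have h3 : ((ws.map (fun w => pW w ⟨β, hβ⟩)).map Fin.val).Nodup := by
      rw [List.map_map]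
      have e : ws.map (Fin.val ∘ fun w => pW w ⟨β, hβ⟩) = ws.map (fun w => evC w β) := by
        apply List.map_congr_left
        intro w hw
        exact himg w hw
      rw [e]
      exact h2.imp (fun hab => ne_of_lt hab)
    exact List.Nodup.of_map _ h3
  have hcard : O.card = ws.length := by
    rw [List.toFinset_card_of_nodup hnd, List.length_map]
  have key := card_ge_stepN CZ pre (⟨β, hβ⟩ : Fin nP) O (by
    intro y hy
    obtain ⟨w, hw, rfl⟩ := List.mem_map.1 (List.mem_toFinset.1 hy)
    exact ⟨pW w, (h1 w hw).1, rfl⟩) c hc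
  rw [hcard] at key
  exact key

set_option maxRecDepth 1000000 in
theorem cz0_ok : lvChk [] 0 cz0 0 = true := by decide +kernel

set_option maxRecDepth 1000000 in
theorem cz1_ok : lvChk [0] 15 cz1 0 = true := by decide +kernel

set_option maxRecDepth 1000000 in
theorem cz2_ok : lvChk [0, 15] 91252 cz2 0 = true := by decide +kernel

theorem len_cz : cz0.length = 120 ∧ cz1.length = 42 ∧ cz2.length = 32 := by decide

/-- the centralizer of the involution has at least 161280 elements. -/
theorem card_CZ_ge : 161280 ≤ Nat.card ↥CZ := by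
  have h2 := words_level [0, 15] 91252 (by norm_num) cz2 cz2_ok 1 Nat.card_pos
  have h1 := words_level [0] 15 (by norm_num) cz1 cz1_ok _ h2
  have h0 := words_level [] 0 (by norm_num) cz0 cz0_ok _ h1
  rw [fixN_nil, inf_top_eq, len_cz.1, len_cz.2.1, len_cz.2.2] at h0
  omega

/-- the involution is a conjugate of the second generator. -/
theorem zP_isConj : ∃ g ∈ ONP, g * sg 1 * g⁻¹ = zP := by
  have h : agr3 (shF zCode zShift) (evC zW) = true := by decide +kernel
  have e : shP zCode zShift = zP :=
    eq_of_agr3 (shP_mem _ _) zP_mem (cp_shP _ (by decide)) cp_zP h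
  rw [← e]
  exact shP_isConj _ _

end Cfsg.Agent.Helper9.ONO
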