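import Mathlib
import Cfsg.Agent.Helper9.ONO.Chk

set_option autoImplicit false
set_option Elab.async false

/-! The checks of the keys of the codes, in chunks. -/

namespace Cfsg.Agent.Helper9.ONO

open Cfsg.Agent.Helper9.J3

set_option maxRecDepth 1000000 in
theorem p6_0 : allC p6At 0 800 = true := by decide +kernel

set_option maxRecDepth 1000000 in
theorem p6_1 : allC p6At 1 800 = true := by decide +kernel

set_option maxRecDepth 1000000 in
theorem p6_2 : allC p6At 2 800 = true := by decide +kernel

set_option maxRecDepth 1000000 in
theorem p6_3 : allC p6At 3 800 = true := by decide +kernel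

set_option maxRecDepth 1000000 in
theorem p6_4 : allC p6At 4 800 = true := by decide +kernel

set_option maxRecDepth 1000000 in
theorem p6_5 : allC p6At 5 800 = true := by decide +kernel

set_option maxRecDepth 1000000 in
theorem p6_6 : allC p6At 6 800 = true := by decide +kernel

set_option maxRecDepth 1000000 in
theorem p6_7 : allC p6At 7 800 = true := by decide +kernel

theorem p6F0 : ∀ k, 0 ≤ k → k < 8 → allC p6At k 800 = true := by
  intro k h1 h2
  interval_cases k
  · exact p6_0
  · exact p6_1
  · exact p6_2
  · exact p6_3
  · exact p6_4
  · exact p6_5
  · exact p6_6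
  · exact p6_7

end Cfsg.Agent.Helper9.ONO
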