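import Mathlib
import Cfsg.Agent.Helper9.ONO.Chk

set_option autoImplicit false
set_option Elab.async false

/-! The checks of the keys of the codes, in chunks. -/

namespace Cfsg.Agent.Helper9.ONO

open Cfsg.Agent.Helper9.J3

set_option maxRecDepth 1000000 in
theorem p6_8 : allC p6At 8 800 = true := by decide +kernel

set_option maxRecDepth 1000000 in
theorem p6_9 : allC p6At 9 800 = true := by decide +kernel

set_option maxRecDepth 1000000 in
theorem p6_10 : allC p6At 10 800 = true := by decide +kernel

set_option maxRecDepth 1000000 in
theorem p6_11 : allC p6At 11 800 = true := by decide +kernel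

set_option maxRecDepth 1000000 in
theorem p6_12 : allC p6At 12 800 = true := by decide +kernel

set_option maxRecDepth 1000000 in
theorem p6_13 : allC p6At 13 800 = true := by decide +kernel

set_option maxRecDepth 1000000 in
theorem p6_14 : allC p6At 14 800 = true := by decide +kernel

set_option maxRecDepth 1000000 in
theorem p6_15 : allC p6At 15 800 = true := by decide +kernel

theorem p6F1 : ∀ k, 8 ≤ k → k < 16 → allC p6At k 800 = true := by
  intro k h1 h2
  interval_cases k
  · exact p6_8
  · exact p6_9
  · exact p6_10
  · exact p6_11
  · exact p6_12
  · exact p6_13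
  · exact p6_14
  · exact p6_15

end Cfsg.Agent.Helper9.ONO
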