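import Mathlib
import Cfsg.Agent.Helper9.ONO.Chk

set_option autoImplicit false
set_option Elab.async false

/-! The checks of the keys of the codes, in chunks. -/

namespace Cfsg.Agent.Helper9.ONO

open Cfsg.Agent.Helper9.J3

set_option maxRecDepth 1000000 in
theorem p6_80 : allC p6At 80 800 = true := by decide +kernel

set_option maxRecDepth 1000000 in
theorem p6_81 : allC p6At 81 800 = true := by decide +kernel

set_option maxRecDepth 1000000 in
theorem p6_82 : allC p6At 82 800 = true := by decide +kernel

set_option maxRecDepth 1000000 in
theorem p6_83 : allC p6At 83 800 = true := by decide +kernel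

set_option maxRecDepth 1000000 in
theorem p6_84 : allC p6At 84 800 = true := by decide +kernel

set_option maxRecDepth 1000000 in
theorem p6_85 : allC p6At 85 800 = true := by decide +kernel

set_option maxRecDepth 1000000 in
theorem p6_86 : allC p6At 86 800 = true := by decide +kernel

set_option maxRecDepth 1000000 in
theorem p6_87 : allC p6At 87 800 = true := by decide +kernel

theorem p6F10 : ∀ k, 80 ≤ k → k < 88 → allC p6At k 800 = true := by
  intro k h1 h2
  interval_cases k
  · exact p6_80
  · exact p6_81
  · exact p6_82
  · exact p6_83
  · exact p6_84
  · exact p6_85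
  · exact p6_86
  · exact p6_87

end Cfsg.Agent.Helper9.ONO
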