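import Mathlib
import Cfsg.Agent.Helper9.ONO.Chk

set_option autoImplicit false
set_option Elab.async false

/-! The checks of the keys of the codes, in chunks. -/

namespace Cfsg.Agent.Helper9.ONO

open Cfsg.Agent.Helper9.J3

set_option maxRecDepth 1000000 in
theorem p6_88 : allC p6At 88 800 = true := by decide +kernel

set_option maxRecDepth 1000000 in
theorem p6_89 : allC p6At 89 800 = true := by decide +kernel

set_option maxRecDepth 1000000 in
theorem p6_90 : allC p6At 90 800 = true := by decide +kernel

set_option maxRecDepth 1000000 in
theorem p6_91 : allC p6At 91 800 = true := by decide +kernel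

set_option maxRecDepth 1000000 in
theorem p6_92 : allC p6At 92 800 = true := by decide +kernel

set_option maxRecDepth 1000000 in
theorem p6_93 : allC p6At 93 800 = true := by decide +kernel

set_option maxRecDepth 1000000 in
theorem p6_94 : allC p6At 94 800 = true := by decide +kernel

set_option maxRecDepth 1000000 in
theorem p6_95 : allC p6At 95 800 = true := by decide +kernel

theorem p6F11 : ∀ k, 88 ≤ k → k < 96 → allC p6At k 800 = true := by
  intro k h1 h2
  interval_cases k
  · exact p6_88
  · exact p6_89
  · exact p6_90
  · exact p6_91
  · exact p6_92
  · exact p6_93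
  · exact p6_94
  · exact p6_95

end Cfsg.Agent.Helper9.ONO
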