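import Mathlib
import Cfsg.Agent.Helper9.ONO.Chk

set_option autoImplicit false
set_option Elab.async false

/-! The checks of the keys of the codes, in chunks. -/

namespace Cfsg.Agent.Helper9.ONO

open Cfsg.Agent.Helper9.J3

set_option maxRecDepth 1000000 in
theorem p6_104 : allC p6At 104 800 = true := by decide +kernel

set_option maxRecDepth 1000000 in
theorem p6_105 : allC p6At 105 800 = true := by decide +kernel

set_option maxRecDepth 1000000 in
theorem p6_106 : allC p6At 106 800 = true := by decide +kernel

set_option maxRecDepth 1000000 in
theorem p6_107 : allC p6At 107 800 = true := by decide +kernel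

set_option maxRecDepth 1000000 in
theorem p6_108 : allC p6At 108 800 = true := by decide +kernel

set_option maxRecDepth 1000000 in
theorem p6_109 : allC p6At 109 800 = true := by decide +kernel

set_option maxRecDepth 1000000 in
theorem p6_110 : allC p6At 110 800 = true := by decide +kernel

set_option maxRecDepth 1000000 in
theorem p6_111 : allC p6At 111 800 = true := by decide +kernel

theorem p6F13 : ∀ k, 104 ≤ k → k < 112 → allC p6At k 800 = true := by
  intro k h1 h2
  interval_cases k
  · exact p6_104
  · exact p6_105
  · exact p6_106
  · exact p6_107
  · exact p6_108
  · exact p6_109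
  · exact p6_110
  · exact p6_111

end Cfsg.Agent.Helper9.ONO
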