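import Mathlib
import Cfsg.Agent.Helper9.ONO.Chk

set_option autoImplicit false
set_option Elab.async false

/-! The checks of the keys of the codes, in chunks. -/

namespace Cfsg.Agent.Helper9.ONO

open Cfsg.Agent.Helper9.J3

set_option maxRecDepth 1000000 in
theorem p6_112 : allC p6At 112 800 = true := by decide +kernel

set_option maxRecDepth 1000000 in
theorem p6_113 : allC p6At 113 800 = true := by decide +kernel

set_option maxRecDepth 1000000 in
theorem p6_114 : allC p6At 114 800 = true := by decide +kernel

set_option maxRecDepth 1000000 in
theorem p6_115 : allC p6At 115 800 = true := by decide +kernel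

set_option maxRecDepth 1000000 in
theorem p6_116 : allC p6At 116 800 = true := by decide +kernel

set_option maxRecDepth 1000000 in
theorem p6_117 : allC p6At 117 800 = true := by decide +kernel

set_option maxRecDepth 1000000 in
theorem p6_118 : allC p6At 118 800 = true := by decide +kernel

set_option maxRecDepth 1000000 in
theorem p6_119 : allC p6At 119 800 = true := by decide +kernel

theorem p6F14 : ∀ k, 112 ≤ k → k < 120 → allC p6At k 800 = true := by
  intro k h1 h2
  interval_cases k
  · exact p6_112
  · exact p6_113
  · exact p6_114
  · exact p6_115
  · exact p6_116
  · exact p6_117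
  · exact p6_118
  · exact p6_119

end Cfsg.Agent.Helper9.ONO
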