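import Mathlib
import Cfsg.Agent.Helper9.ONO.Chk

set_option autoImplicit false
set_option Elab.async false

/-! The checks of the keys of the codes, in chunks. -/

namespace Cfsg.Agent.Helper9.ONO

open Cfsg.Agent.Helper9.J3

set_option maxRecDepth 1000000 in
theorem p6_120 : allC p6At 120 800 = true := by decide +kernel

set_option maxRecDepth 1000000 in
theorem p6_121 : allC p6At 121 800 = true := by decide +kernel

set_option maxRecDepth 1000000 in
theorem p6_122 : allC p6At 122 800 = true := by decide +kernel

set_option maxRecDepth 1000000 in
theorem p6_123 : allC p6At 123 800 = true := by decide +kernel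

set_option maxRecDepth 1000000 in
theorem p6_124 : allC p6At 124 800 = true := by decide +kernel

set_option maxRecDepth 1000000 in
theorem p6_125 : allC p6At 125 800 = true := by decide +kernel

set_option maxRecDepth 1000000 in
theorem p6_126 : allC p6At 126 800 = true := by decide +kernel

set_option maxRecDepth 1000000 in
theorem p6_127 : allC p6At 127 800 = true := by decide +kernel

theorem p6F15 : ∀ k, 120 ≤ k → k < 128 → allC p6At k 800 = true := by
  intro k h1 h2
  interval_cases k
  · exact p6_120
  · exact p6_121
  · exact p6_122
  · exact p6_123
  · exact p6_124
  · exact p6_125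
  · exact p6_126
  · exact p6_127

end Cfsg.Agent.Helper9.ONO
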