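import Mathlib
import Cfsg.Agent.Helper9.ONO.Chk

set_option autoImplicit false
set_option Elab.async false

/-! The checks of the keys of the codes, in chunks. -/

namespace Cfsg.Agent.Helper9.ONO

open Cfsg.Agent.Helper9.J3

set_option maxRecDepth 1000000 in
theorem p6_128 : allC p6At 128 800 = true := by decide +kernel

set_option maxRecDepth 1000000 in
theorem p6_129 : allC p6At 129 800 = true := by decide +kernel

set_option maxRecDepth 1000000 in
theorem p6_130 : allC p6At 130 800 = true := by decide +kernel

set_option maxRecDepth 1000000 in
theorem p6_131 : allC p6At 131 800 = true := by decide +kernel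

set_option maxRecDepth 1000000 in
theorem p6_132 : allC p6At 132 800 = true := by decide +kernel

set_option maxRecDepth 1000000 in
theorem p6_133 : allC p6At 133 800 = true := by decide +kernel

set_option maxRecDepth 1000000 in
theorem p6_134 : allC p6At 134 800 = true := by decide +kernel

set_option maxRecDepth 1000000 in
theorem p6_135 : allC p6At 135 800 = true := by decide +kernel

theorem p6F16 : ∀ k, 128 ≤ k → k < 136 → allC p6At k 800 = true := by
  intro k h1 h2
  interval_cases k
  · exact p6_128
  · exact p6_129
  · exact p6_130
  · exact p6_131
  · exact p6_132
  · exact p6_133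
  · exact p6_134
  · exact p6_135

end Cfsg.Agent.Helper9.ONO
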