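import Mathlib
import Cfsg.Agent.Helper9.ONO.Chk

set_option autoImplicit false
set_option Elab.async false

/-! The checks of the keys of the codes, in chunks. -/

namespace Cfsg.Agent.Helper9.ONO

open Cfsg.Agent.Helper9.J3

set_option maxRecDepth 1000000 in
theorem p6_136 : allC p6At 136 800 = true := by decide +kernel

set_option maxRecDepth 1000000 in
theorem p6_137 : allC p6At 137 800 = true := by decide +kernel

set_option maxRecDepth 1000000 in
theorem p6_138 : allC p6At 138 800 = true := by decide +kernel

set_option maxRecDepth 1000000 in
theorem p6_139 : allC p6At 139 800 = true := by decide +kernel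

set_option maxRecDepth 1000000 in
theorem p6_140 : allC p6At 140 800 = true := by decide +kernel

set_option maxRecDepth 1000000 in
theorem p6_141 : allC p6At 141 800 = true := by decide +kernel

set_option maxRecDepth 1000000 in
theorem p6_142 : allC p6At 142 800 = true := by decide +kernel

set_option maxRecDepth 1000000 in
theorem p6_143 : allC p6At 143 800 = true := by decide +kernel

theorem p6F17 : ∀ k, 136 ≤ k → k < 144 → allC p6At k 800 = true := by
  intro k h1 h2
  interval_cases k
  · exact p6_136
  · exact p6_137
  · exact p6_138
  · exact p6_139
  · exact p6_140
  · exact p6_141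
  · exact p6_142
  · exact p6_143

end Cfsg.Agent.Helper9.ONO
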