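import Mathlib
import Cfsg.Agent.Helper9.ONO.Chk

set_option autoImplicit false
set_option Elab.async false

/-! The checks of the keys of the codes, in chunks. -/

namespace Cfsg.Agent.Helper9.ONO

open Cfsg.Agent.Helper9.J3

set_option maxRecDepth 1000000 in
theorem p6_144 : allC p6At 144 800 = true := by decide +kernel

set_option maxRecDepth 1000000 in
theorem p6_145 : allC p6At 145 800 = true := by decide +kernel

set_option maxRecDepth 1000000 in
theorem p6_146 : allC p6At 146 800 = true := by decide +kernel

set_option maxRecDepth 1000000 in
theorem p6_147 : allC p6At 147 800 = true := by decide +kernel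

set_option maxRecDepth 1000000 in
theorem p6_148 : allC p6At 148 800 = true := by decide +kernel

set_option maxRecDepth 1000000 in
theorem p6_149 : allC p6At 149 800 = true := by decide +kernel

set_option maxRecDepth 1000000 in
theorem p6_150 : allC p6At 150 800 = true := by decide +kernel

set_option maxRecDepth 1000000 in
theorem p6_151 : allC p6At 151 800 = true := by decide +kernel

theorem p6F18 : ∀ k, 144 ≤ k → k < 152 → allC p6At k 800 = true := by
  intro k h1 h2
  interval_cases k
  · exact p6_144
  · exact p6_145
  · exact p6_146
  · exact p6_147
  · exact p6_148
  · exact p6_149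
  · exact p6_150
  · exact p6_151

end Cfsg.Agent.Helper9.ONO
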