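import Mathlib
import Cfsg.Agent.Helper9.ONO.Chk

set_option autoImplicit false
set_option Elab.async false

/-! The checks of the keys of the codes, in chunks. -/

namespace Cfsg.Agent.Helper9.ONO

open Cfsg.Agent.Helper9.J3

set_option maxRecDepth 1000000 in
theorem p6_152 : allC p6At 152 800 = true := by decide +kernel

set_option maxRecDepth 1000000 in
theorem p6_153 : allC p6At 153 800 = true := by decide +kernel

set_option maxRecDepth 1000000 in
theorem p6_154 : allC p6At 154 800 = true := by decide +kernel

set_option maxRecDepth 1000000 in
theorem p6_155 : allC p6At 155 800 = true := by decide +kernel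

set_option maxRecDepth 1000000 in
theorem p6_156 : allC p6At 156 800 = true := by decide +kernel

set_option maxRecDepth 1000000 in
theorem p6_157 : allC p6At 157 800 = true := by decide +kernel

set_option maxRecDepth 1000000 in
theorem p6_158 : allC p6At 158 800 = true := by decide +kernel

set_option maxRecDepth 1000000 in
theorem p6_159 : allC p6At 159 800 = true := by decide +kernel

theorem p6F19 : ∀ k, 152 ≤ k → k < 160 → allC p6At k 800 = true := by
  intro k h1 h2
  interval_cases k
  · exact p6_152
  · exact p6_153
  · exact p6_154
  · exact p6_155
  · exact p6_156
  · exact p6_157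
  · exact p6_158
  · exact p6_159

end Cfsg.Agent.Helper9.ONO
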