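import Mathlib
import Cfsg.Agent.Helper9.ONO.Chk

set_option autoImplicit false
set_option Elab.async false

/-! The checks of the keys of the codes, in chunks. -/

namespace Cfsg.Agent.Helper9.ONO

open Cfsg.Agent.Helper9.J3

set_option maxRecDepth 1000000 in
theorem p6_16 : allC p6At 16 800 = true := by decide +kernel

set_option maxRecDepth 1000000 in
theorem p6_17 : allC p6At 17 800 = true := by decide +kernel

set_option maxRecDepth 1000000 in
theorem p6_18 : allC p6At 18 800 = true := by decide +kernel

set_option maxRecDepth 1000000 in
theorem p6_19 : allC p6At 19 800 = true := by decide +kernel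

set_option maxRecDepth 1000000 in
theorem p6_20 : allC p6At 20 800 = true := by decide +kernel

set_option maxRecDepth 1000000 in
theorem p6_21 : allC p6At 21 800 = true := by decide +kernel

set_option maxRecDepth 1000000 in
theorem p6_22 : allC p6At 22 800 = true := by decide +kernel

set_option maxRecDepth 1000000 in
theorem p6_23 : allC p6At 23 800 = true := by decide +kernel

theorem p6F2 : ∀ k, 16 ≤ k → k < 24 → allC p6At k 800 = true := by
  intro k h1 h2
  interval_cases k
  · exact p6_16
  · exact p6_17
  · exact p6_18
  · exact p6_19
  · exact p6_20
  · exact p6_21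
  · exact p6_22
  · exact p6_23

end Cfsg.Agent.Helper9.ONO
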