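import Mathlib
import Cfsg.Agent.Helper9.ONO.Chk

set_option autoImplicit false
set_option Elab.async false

/-! The checks of the keys of the codes, in chunks. -/

namespace Cfsg.Agent.Helper9.ONO

open Cfsg.Agent.Helper9.J3

set_option maxRecDepth 1000000 in
theorem p6_160 : allC p6At 160 800 = true := by decide +kernel

set_option maxRecDepth 1000000 in
theorem p6_161 : allC p6At 161 800 = true := by decide +kernel

set_option maxRecDepth 1000000 in
theorem p6_162 : allC p6At 162 800 = true := by decide +kernel

set_option maxRecDepth 1000000 in
theorem p6_163 : allC p6At 163 800 = true := by decide +kernel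

set_option maxRecDepth 1000000 in
theorem p6_164 : allC p6At 164 800 = true := by decide +kernel

set_option maxRecDepth 1000000 in
theorem p6_165 : allC p6At 165 800 = true := by decide +kernel

set_option maxRecDepth 1000000 in
theorem p6_166 : allC p6At 166 800 = true := by decide +kernel

set_option maxRecDepth 1000000 in
theorem p6_167 : allC p6At 167 800 = true := by decide +kernel

theorem p6F20 : ∀ k, 160 ≤ k → k < 168 → allC p6At k 800 = true := by
  intro k h1 h2
  interval_cases k
  · exact p6_160
  · exact p6_161
  · exact p6_162
  · exact p6_163
  · exact p6_164
  · exact p6_165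
  · exact p6_166
  · exact p6_167

end Cfsg.Agent.Helper9.ONO
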