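import Mathlib
import Cfsg.Agent.Helper9.ONO.Chk

set_option autoImplicit false
set_option Elab.async false

/-! The checks of the keys of the codes, in chunks. -/

namespace Cfsg.Agent.Helper9.ONO

open Cfsg.Agent.Helper9.J3

set_option maxRecDepth 1000000 in
theorem p6_168 : allC p6At 168 800 = true := by decide +kernel

set_option maxRecDepth 1000000 in
theorem p6_169 : allC p6At 169 800 = true := by decide +kernel

set_option maxRecDepth 1000000 in
theorem p6_170 : allC p6At 170 800 = true := by decide +kernel

set_option maxRecDepth 1000000 in
theorem p6_171 : allC p6At 171 800 = true := by decide +kernel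

set_option maxRecDepth 1000000 in
theorem p6_172 : allC p6At 172 800 = true := by decide +kernel

set_option maxRecDepth 1000000 in
theorem p6_173 : allC p6At 173 800 = true := by decide +kernel

set_option maxRecDepth 1000000 in
theorem p6_174 : allC p6At 174 800 = true := by decide +kernel

set_option maxRecDepth 1000000 in
theorem p6_175 : allC p6At 175 800 = true := by decide +kernel

theorem p6F21 : ∀ k, 168 ≤ k → k < 176 → allC p6At k 800 = true := by
  intro k h1 h2
  interval_cases k
  · exact p6_168
  · exact p6_169
  · exact p6_170
  · exact p6_171
  · exact p6_172
  · exact p6_173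
  · exact p6_174
  · exact p6_175

end Cfsg.Agent.Helper9.ONO
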