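import Mathlib
import Cfsg.Agent.Helper9.ONO.Chk

set_option autoImplicit false
set_option Elab.async false

/-! The checks of the keys of the codes, in chunks. -/

namespace Cfsg.Agent.Helper9.ONO

open Cfsg.Agent.Helper9.J3

set_option maxRecDepth 1000000 in
theorem p6_176 : allC p6At 176 800 = true := by decide +kernel

set_option maxRecDepth 1000000 in
theorem p6_177 : allC p6At 177 800 = true := by decide +kernel

set_option maxRecDepth 1000000 in
theorem p6_178 : allC p6At 178 800 = true := by decide +kernel

set_option maxRecDepth 1000000 in
theorem p6_179 : allC p6At 179 800 = true := by decide +kernel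

set_option maxRecDepth 1000000 in
theorem p6_180 : allC p6At 180 800 = true := by decide +kernel

set_option maxRecDepth 1000000 in
theorem p6_181 : allC p6At 181 800 = true := by decide +kernel

set_option maxRecDepth 1000000 in
theorem p6_182 : allC p6At 182 800 = true := by decide +kernel

set_option maxRecDepth 1000000 in
theorem p6_183 : allC p6At 183 800 = true := by decide +kernel

theorem p6F22 : ∀ k, 176 ≤ k → k < 184 → allC p6At k 800 = true := by
  intro k h1 h2
  interval_cases k
  · exact p6_176
  · exact p6_177
  · exact p6_178
  · exact p6_179
  · exact p6_180
  · exact p6_181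
  · exact p6_182
  · exact p6_183

end Cfsg.Agent.Helper9.ONO
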