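import Mathlib
import Cfsg.Agent.Helper9.ONO.Chk

set_option autoImplicit false
set_option Elab.async false

/-! The checks of the keys of the codes, in chunks. -/

namespace Cfsg.Agent.Helper9.ONO

open Cfsg.Agent.Helper9.J3

set_option maxRecDepth 1000000 in
theorem p6_184 : allC p6At 184 800 = true := by decide +kernel

set_option maxRecDepth 1000000 in
theorem p6_185 : allC p6At 185 800 = true := by decide +kernel

set_option maxRecDepth 1000000 in
theorem p6_186 : allC p6At 186 800 = true := by decide +kernel

set_option maxRecDepth 1000000 in
theorem p6_187 : allC p6At 187 800 = true := by decide +kernel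

set_option maxRecDepth 1000000 in
theorem p6_188 : allC p6At 188 800 = true := by decide +kernel

set_option maxRecDepth 1000000 in
theorem p6_189 : allC p6At 189 800 = true := by decide +kernel

set_option maxRecDepth 1000000 in
theorem p6_190 : allC p6At 190 800 = true := by decide +kernel

set_option maxRecDepth 1000000 in
theorem p6_191 : allC p6At 191 800 = true := by decide +kernel

theorem p6F23 : ∀ k, 184 ≤ k → k < 192 → allC p6At k 800 = true := by
  intro k h1 h2
  interval_cases k
  · exact p6_184
  · exact p6_185
  · exact p6_186
  · exact p6_187
  · exact p6_188
  · exact p6_189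
  · exact p6_190
  · exact p6_191

end Cfsg.Agent.Helper9.ONO
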