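import Mathlib
import Cfsg.Agent.Helper9.ONO.Chk

set_option autoImplicit false
set_option Elab.async false

/-! The checks of the keys of the codes, in chunks. -/

namespace Cfsg.Agent.Helper9.ONO

open Cfsg.Agent.Helper9.J3

set_option maxRecDepth 1000000 in
theorem p6_192 : allC p6At 192 800 = true := by decide +kernel

set_option maxRecDepth 1000000 in
theorem p6_193 : allC p6At 193 800 = true := by decide +kernel

set_option maxRecDepth 1000000 in
theorem p6_194 : allC p6At 194 800 = true := by decide +kernel

set_option maxRecDepth 1000000 in
theorem p6_195 : allC p6At 195 800 = true := by decide +kernel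

set_option maxRecDepth 1000000 in
theorem p6_196 : allC p6At 196 800 = true := by decide +kernel

set_option maxRecDepth 1000000 in
theorem p6_197 : allC p6At 197 800 = true := by decide +kernel

set_option maxRecDepth 1000000 in
theorem p6_198 : allC p6At 198 800 = true := by decide +kernel

set_option maxRecDepth 1000000 in
theorem p6_199 : allC p6At 199 800 = true := by decide +kernel

theorem p6F24 : ∀ k, 192 ≤ k → k < 200 → allC p6At k 800 = true := by
  intro k h1 h2
  interval_cases k
  · exact p6_192
  · exact p6_193
  · exact p6_194
  · exact p6_195
  · exact p6_196
  · exact p6_197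
  · exact p6_198
  · exact p6_199

end Cfsg.Agent.Helper9.ONO
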