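import Mathlib
import Cfsg.Agent.Helper9.ONO.Chk

set_option autoImplicit false
set_option Elab.async false

/-! The checks of the keys of the codes, in chunks. -/

namespace Cfsg.Agent.Helper9.ONO

open Cfsg.Agent.Helper9.J3

set_option maxRecDepth 1000000 in
theorem p6_208 : allC p6At 208 800 = true := by decide +kernel

set_option maxRecDepth 1000000 in
theorem p6_209 : allC p6At 209 800 = true := by decide +kernel

set_option maxRecDepth 1000000 in
theorem p6_210 : allC p6At 210 800 = true := by decide +kernel

set_option maxRecDepth 1000000 in
theorem p6_211 : allC p6At 211 800 = true := by decide +kernel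

set_option maxRecDepth 1000000 in
theorem p6_212 : allC p6At 212 800 = true := by decide +kernel

set_option maxRecDepth 1000000 in
theorem p6_213 : allC p6At 213 800 = true := by decide +kernel

set_option maxRecDepth 1000000 in
theorem p6_214 : allC p6At 214 800 = true := by decide +kernel

set_option maxRecDepth 1000000 in
theorem p6_215 : allC p6At 215 800 = true := by decide +kernel

theorem p6F26 : ∀ k, 208 ≤ k → k < 216 → allC p6At k 800 = true := by
  intro k h1 h2
  interval_cases k
  · exact p6_208
  · exact p6_209
  · exact p6_210
  · exact p6_211
  · exact p6_212
  · exact p6_213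
  · exact p6_214
  · exact p6_215

end Cfsg.Agent.Helper9.ONO
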