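import Mathlib
import Cfsg.Agent.Helper9.ONO.Chk

set_option autoImplicit false
set_option Elab.async false

/-! The checks of the keys of the codes, in chunks. -/

namespace Cfsg.Agent.Helper9.ONO

open Cfsg.Agent.Helper9.J3

set_option maxRecDepth 1000000 in
theorem p6_216 : allC p6At 216 800 = true := by decide +kernel

set_option maxRecDepth 1000000 in
theorem p6_217 : allC p6At 217 800 = true := by decide +kernel

set_option maxRecDepth 1000000 in
theorem p6_218 : allC p6At 218 800 = true := by decide +kernel

set_option maxRecDepth 1000000 in
theorem p6_219 : allC p6At 219 800 = true := by decide +kernel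

set_option maxRecDepth 1000000 in
theorem p6_220 : allC p6At 220 800 = true := by decide +kernel

set_option maxRecDepth 1000000 in
theorem p6_221 : allC p6At 221 800 = true := by decide +kernel

set_option maxRecDepth 1000000 in
theorem p6_222 : allC p6At 222 800 = true := by decide +kernel

set_option maxRecDepth 1000000 in
theorem p6_223 : allC p6At 223 800 = true := by decide +kernel

theorem p6F27 : ∀ k, 216 ≤ k → k < 224 → allC p6At k 800 = true := by
  intro k h1 h2
  interval_cases k
  · exact p6_216
  · exact p6_217
  · exact p6_218
  · exact p6_219
  · exact p6_220
  · exact p6_221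
  · exact p6_222
  · exact p6_223

end Cfsg.Agent.Helper9.ONO
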