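import Mathlib
import Cfsg.Agent.Helper9.ONO.Chk

set_option autoImplicit false
set_option Elab.async false

/-! The checks of the keys of the codes, in chunks. -/

namespace Cfsg.Agent.Helper9.ONO

open Cfsg.Agent.Helper9.J3

set_option maxRecDepth 1000000 in
theorem p6_224 : allC p6At 224 800 = true := by decide +kernel

set_option maxRecDepth 1000000 in
theorem p6_225 : allC p6At 225 800 = true := by decide +kernel

set_option maxRecDepth 1000000 in
theorem p6_226 : allC p6At 226 800 = true := by decide +kernel

set_option maxRecDepth 1000000 in
theorem p6_227 : allC p6At 227 800 = true := by decide +kernel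

set_option maxRecDepth 1000000 in
theorem p6_228 : allC p6At 228 800 = true := by decide +kernel

set_option maxRecDepth 1000000 in
theorem p6_229 : allC p6At 229 800 = true := by decide +kernel

set_option maxRecDepth 1000000 in
theorem p6_230 : allC p6At 230 800 = true := by decide +kernel

set_option maxRecDepth 1000000 in
theorem p6_231 : allC p6At 231 800 = true := by decide +kernel

theorem p6F28 : ∀ k, 224 ≤ k → k < 232 → allC p6At k 800 = true := by
  intro k h1 h2
  interval_cases k
  · exact p6_224
  · exact p6_225
  · exact p6_226
  · exact p6_227
  · exact p6_228
  · exact p6_229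
  · exact p6_230
  · exact p6_231

end Cfsg.Agent.Helper9.ONO
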