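import Mathlib
import Cfsg.Agent.Helper9.ONO.Chk

set_option autoImplicit false
set_option Elab.async false

/-! The checks of the keys of the codes, in chunks. -/

namespace Cfsg.Agent.Helper9.ONO

open Cfsg.Agent.Helper9.J3

set_option maxRecDepth 1000000 in
theorem p6_232 : allC p6At 232 800 = true := by decide +kernel

set_option maxRecDepth 1000000 in
theorem p6_233 : allC p6At 233 800 = true := by decide +kernel

set_option maxRecDepth 1000000 in
theorem p6_234 : allC p6At 234 800 = true := by decide +kernel

set_option maxRecDepth 1000000 in
theorem p6_235 : allC p6At 235 800 = true := by decide +kernel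

set_option maxRecDepth 1000000 in
theorem p6_236 : allC p6At 236 800 = true := by decide +kernel

set_option maxRecDepth 1000000 in
theorem p6_237 : allC p6At 237 800 = true := by decide +kernel

set_option maxRecDepth 1000000 in
theorem p6_238 : allC p6At 238 800 = true := by decide +kernel

set_option maxRecDepth 1000000 in
theorem p6_239 : allC p6At 239 800 = true := by decide +kernel

theorem p6F29 : ∀ k, 232 ≤ k → k < 240 → allC p6At k 800 = true := by
  intro k h1 h2
  interval_cases k
  · exact p6_232
  · exact p6_233
  · exact p6_234
  · exact p6_235
  · exact p6_236
  · exact p6_237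
  · exact p6_238
  · exact p6_239

end Cfsg.Agent.Helper9.ONO
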