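import Mathlib
import Cfsg.Agent.Helper9.ONO.Chk

set_option autoImplicit false
set_option Elab.async false

/-! The checks of the keys of the codes, in chunks. -/

namespace Cfsg.Agent.Helper9.ONO

open Cfsg.Agent.Helper9.J3

set_option maxRecDepth 1000000 in
theorem p6_24 : allC p6At 24 800 = true := by decide +kernel

set_option maxRecDepth 1000000 in
theorem p6_25 : allC p6At 25 800 = true := by decide +kernel

set_option maxRecDepth 1000000 in
theorem p6_26 : allC p6At 26 800 = true := by decide +kernel

set_option maxRecDepth 1000000 in
theorem p6_27 : allC p6At 27 800 = true := by decide +kernel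

set_option maxRecDepth 1000000 in
theorem p6_28 : allC p6At 28 800 = true := by decide +kernel

set_option maxRecDepth 1000000 in
theorem p6_29 : allC p6At 29 800 = true := by decide +kernel

set_option maxRecDepth 1000000 in
theorem p6_30 : allC p6At 30 800 = true := by decide +kernel

set_option maxRecDepth 1000000 in
theorem p6_31 : allC p6At 31 800 = true := by decide +kernel

theorem p6F3 : ∀ k, 24 ≤ k → k < 32 → allC p6At k 800 = true := by
  intro k h1 h2
  interval_cases k
  · exact p6_24
  · exact p6_25
  · exact p6_26
  · exact p6_27
  · exact p6_28
  · exact p6_29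
  · exact p6_30
  · exact p6_31

end Cfsg.Agent.Helper9.ONO
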