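import Mathlib
import Cfsg.Agent.Helper9.ONO.Chk

set_option autoImplicit false
set_option Elab.async false

/-! The checks of the keys of the codes, in chunks. -/

namespace Cfsg.Agent.Helper9.ONO

open Cfsg.Agent.Helper9.J3

set_option maxRecDepth 1000000 in
theorem p6_240 : allC p6At 240 800 = true := by decide +kernel

set_option maxRecDepth 1000000 in
theorem p6_241 : allC p6At 241 800 = true := by decide +kernel

set_option maxRecDepth 1000000 in
theorem p6_242 : allC p6At 242 800 = true := by decide +kernel

set_option maxRecDepth 1000000 in
theorem p6_243 : allC p6At 243 800 = true := by decide +kernel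

set_option maxRecDepth 1000000 in
theorem p6_244 : allC p6At 244 800 = true := by decide +kernel

set_option maxRecDepth 1000000 in
theorem p6_245 : allC p6At 245 800 = true := by decide +kernel

set_option maxRecDepth 1000000 in
theorem p6_246 : allC p6At 246 800 = true := by decide +kernel

set_option maxRecDepth 1000000 in
theorem p6_247 : allC p6At 247 800 = true := by decide +kernel

theorem p6F30 : ∀ k, 240 ≤ k → k < 248 → allC p6At k 800 = true := by
  intro k h1 h2
  interval_cases k
  · exact p6_240
  · exact p6_241
  · exact p6_242
  · exact p6_243
  · exact p6_244
  · exact p6_245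
  · exact p6_246
  · exact p6_247

end Cfsg.Agent.Helper9.ONO
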