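import Mathlib
import Cfsg.Agent.Helper9.ONO.Chk

set_option autoImplicit false
set_option Elab.async false

/-! The checks of the keys of the codes, in chunks. -/

namespace Cfsg.Agent.Helper9.ONO

open Cfsg.Agent.Helper9.J3

set_option maxRecDepth 1000000 in
theorem p6_248 : allC p6At 248 800 = true := by decide +kernel

set_option maxRecDepth 1000000 in
theorem p6_249 : allC p6At 249 800 = true := by decide +kernel

set_option maxRecDepth 1000000 in
theorem p6_250 : allC p6At 250 800 = true := by decide +kernel

set_option maxRecDepth 1000000 in
theorem p6_251 : allC p6At 251 800 = true := by decide +kernel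

set_option maxRecDepth 1000000 in
theorem p6_252 : allC p6At 252 800 = true := by decide +kernel

set_option maxRecDepth 1000000 in
theorem p6_253 : allC p6At 253 800 = true := by decide +kernel

set_option maxRecDepth 1000000 in
theorem p6_254 : allC p6At 254 800 = true := by decide +kernel

set_option maxRecDepth 1000000 in
theorem p6_255 : allC p6At 255 800 = true := by decide +kernel

theorem p6F31 : ∀ k, 248 ≤ k → k < 256 → allC p6At k 800 = true := by
  intro k h1 h2
  interval_cases k
  · exact p6_248
  · exact p6_249
  · exact p6_250
  · exact p6_251
  · exact p6_252
  · exact p6_253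
  · exact p6_254
  · exact p6_255

end Cfsg.Agent.Helper9.ONO
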