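import Mathlib
import Cfsg.Agent.Helper9.ONO.Chk

set_option autoImplicit false
set_option Elab.async false

/-! The checks of the keys of the codes, in chunks. -/

namespace Cfsg.Agent.Helper9.ONO

open Cfsg.Agent.Helper9.J3

set_option maxRecDepth 1000000 in
theorem p6_256 : allC p6At 256 800 = true := by decide +kernel

set_option maxRecDepth 1000000 in
theorem p6_257 : allC p6At 257 800 = true := by decide +kernel

set_option maxRecDepth 1000000 in
theorem p6_258 : allC p6At 258 800 = true := by decide +kernel

set_option maxRecDepth 1000000 in
theorem p6_259 : allC p6At 259 800 = true := by decide +kernel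

set_option maxRecDepth 1000000 in
theorem p6_260 : allC p6At 260 800 = true := by decide +kernel

set_option maxRecDepth 1000000 in
theorem p6_261 : allC p6At 261 800 = true := by decide +kernel

set_option maxRecDepth 1000000 in
theorem p6_262 : allC p6At 262 800 = true := by decide +kernel

set_option maxRecDepth 1000000 in
theorem p6_263 : allC p6At 263 800 = true := by decide +kernel

theorem p6F32 : ∀ k, 256 ≤ k → k < 264 → allC p6At k 800 = true := by
  intro k h1 h2
  interval_cases k
  · exact p6_256
  · exact p6_257
  · exact p6_258
  · exact p6_259
  · exact p6_260
  · exact p6_261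
  · exact p6_262
  · exact p6_263

end Cfsg.Agent.Helper9.ONO
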