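import Mathlib
import Cfsg.Agent.Helper9.ONO.Chk

set_option autoImplicit false
set_option Elab.async false

/-! The checks of the keys of the codes, in chunks. -/

namespace Cfsg.Agent.Helper9.ONO

open Cfsg.Agent.Helper9.J3

set_option maxRecDepth 1000000 in
theorem p6_264 : allC p6At 264 800 = true := by decide +kernel

set_option maxRecDepth 1000000 in
theorem p6_265 : allC p6At 265 800 = true := by decide +kernel

set_option maxRecDepth 1000000 in
theorem p6_266 : allC p6At 266 800 = true := by decide +kernel

set_option maxRecDepth 1000000 in
theorem p6_267 : allC p6At 267 800 = true := by decide +kernel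

set_option maxRecDepth 1000000 in
theorem p6_268 : allC p6At 268 800 = true := by decide +kernel

set_option maxRecDepth 1000000 in
theorem p6_269 : allC p6At 269 800 = true := by decide +kernel

set_option maxRecDepth 1000000 in
theorem p6_270 : allC p6At 270 800 = true := by decide +kernel

set_option maxRecDepth 1000000 in
theorem p6_271 : allC p6At 271 800 = true := by decide +kernel

theorem p6F33 : ∀ k, 264 ≤ k → k < 272 → allC p6At k 800 = true := by
  intro k h1 h2
  interval_cases k
  · exact p6_264
  · exact p6_265
  · exact p6_266
  · exact p6_267
  · exact p6_268
  · exact p6_269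
  · exact p6_270
  · exact p6_271

end Cfsg.Agent.Helper9.ONO
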