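import Mathlib
import Cfsg.Agent.Helper9.ONO.Chk

set_option autoImplicit false
set_option Elab.async false

/-! The checks of the keys of the codes, in chunks. -/

namespace Cfsg.Agent.Helper9.ONO

open Cfsg.Agent.Helper9.J3

set_option maxRecDepth 1000000 in
theorem p6_272 : allC p6At 272 800 = true := by decide +kernel

set_option maxRecDepth 1000000 in
theorem p6_273 : allC p6At 273 800 = true := by decide +kernel

set_option maxRecDepth 1000000 in
theorem p6_274 : allC p6At 274 800 = true := by decide +kernel

set_option maxRecDepth 1000000 in
theorem p6_275 : allC p6At 275 800 = true := by decide +kernel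

set_option maxRecDepth 1000000 in
theorem p6_276 : allC p6At 276 800 = true := by decide +kernel

set_option maxRecDepth 1000000 in
theorem p6_277 : allC p6At 277 800 = true := by decide +kernel

set_option maxRecDepth 1000000 in
theorem p6_278 : allC p6At 278 800 = true := by decide +kernel

set_option maxRecDepth 1000000 in
theorem p6_279 : allC p6At 279 800 = true := by decide +kernel

theorem p6F34 : ∀ k, 272 ≤ k → k < 280 → allC p6At k 800 = true := by
  intro k h1 h2
  interval_cases k
  · exact p6_272
  · exact p6_273
  · exact p6_274
  · exact p6_275
  · exact p6_276
  · exact p6_277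
  · exact p6_278
  · exact p6_279

end Cfsg.Agent.Helper9.ONO
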