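import Mathlib
import Cfsg.Agent.Helper9.ONO.Chk

set_option autoImplicit false
set_option Elab.async false

/-! The checks of the keys of the codes, in chunks. -/

namespace Cfsg.Agent.Helper9.ONO

open Cfsg.Agent.Helper9.J3

set_option maxRecDepth 1000000 in
theorem p6_280 : allC p6At 280 800 = true := by decide +kernel

set_option maxRecDepth 1000000 in
theorem p6_281 : allC p6At 281 800 = true := by decide +kernel

set_option maxRecDepth 1000000 in
theorem p6_282 : allC p6At 282 800 = true := by decide +kernel

set_option maxRecDepth 1000000 in
theorem p6_283 : allC p6At 283 800 = true := by decide +kernel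

set_option maxRecDepth 1000000 in
theorem p6_284 : allC p6At 284 800 = true := by decide +kernel

set_option maxRecDepth 1000000 in
theorem p6_285 : allC p6At 285 800 = true := by decide +kernel

set_option maxRecDepth 1000000 in
theorem p6_286 : allC p6At 286 800 = true := by decide +kernel

set_option maxRecDepth 1000000 in
theorem p6_287 : allC p6At 287 800 = true := by decide +kernel

theorem p6F35 : ∀ k, 280 ≤ k → k < 288 → allC p6At k 800 = true := by
  intro k h1 h2
  interval_cases k
  · exact p6_280
  · exact p6_281
  · exact p6_282
  · exact p6_283
  · exact p6_284
  · exact p6_285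
  · exact p6_286
  · exact p6_287

end Cfsg.Agent.Helper9.ONO
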