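import Mathlib
import Cfsg.Agent.Helper9.ONO.Chk

set_option autoImplicit false
set_option Elab.async false

/-! The checks of the keys of the codes, in chunks. -/

namespace Cfsg.Agent.Helper9.ONO

open Cfsg.Agent.Helper9.J3

set_option maxRecDepth 1000000 in
theorem p6_288 : allC p6At 288 800 = true := by decide +kernel

set_option maxRecDepth 1000000 in
theorem p6_289 : allC p6At 289 800 = true := by decide +kernel

set_option maxRecDepth 1000000 in
theorem p6_290 : allC p6At 290 800 = true := by decide +kernel

set_option maxRecDepth 1000000 in
theorem p6_291 : allC p6At 291 800 = true := by decide +kernel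

set_option maxRecDepth 1000000 in
theorem p6_292 : allC p6At 292 800 = true := by decide +kernel

set_option maxRecDepth 1000000 in
theorem p6_293 : allC p6At 293 800 = true := by decide +kernel

set_option maxRecDepth 1000000 in
theorem p6_294 : allC p6At 294 800 = true := by decide +kernel

set_option maxRecDepth 1000000 in
theorem p6_295 : allC p6At 295 800 = true := by decide +kernel

theorem p6F36 : ∀ k, 288 ≤ k → k < 296 → allC p6At k 800 = true := by
  intro k h1 h2
  interval_cases k
  · exact p6_288
  · exact p6_289
  · exact p6_290
  · exact p6_291
  · exact p6_292
  · exact p6_293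
  · exact p6_294
  · exact p6_295

end Cfsg.Agent.Helper9.ONO
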