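import Mathlib
import Cfsg.Agent.Helper9.ONO.Chk

set_option autoImplicit false
set_option Elab.async false

/-! The checks of the keys of the codes, in chunks. -/

namespace Cfsg.Agent.Helper9.ONO

open Cfsg.Agent.Helper9.J3

set_option maxRecDepth 1000000 in
theorem p6_296 : allC p6At 296 800 = true := by decide +kernel

set_option maxRecDepth 1000000 in
theorem p6_297 : allC p6At 297 800 = true := by decide +kernel

set_option maxRecDepth 1000000 in
theorem p6_298 : allC p6At 298 800 = true := by decide +kernel

set_option maxRecDepth 1000000 in
theorem p6_299 : allC p6At 299 800 = true := by decide +kernel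

set_option maxRecDepth 1000000 in
theorem p6_300 : allC p6At 300 800 = true := by decide +kernel

set_option maxRecDepth 1000000 in
theorem p6_301 : allC p6At 301 800 = true := by decide +kernel

set_option maxRecDepth 1000000 in
theorem p6_302 : allC p6At 302 800 = true := by decide +kernel

set_option maxRecDepth 1000000 in
theorem p6_303 : allC p6At 303 800 = true := by decide +kernel

theorem p6F37 : ∀ k, 296 ≤ k → k < 304 → allC p6At k 800 = true := by
  intro k h1 h2
  interval_cases k
  · exact p6_296
  · exact p6_297
  · exact p6_298
  · exact p6_299
  · exact p6_300
  · exact p6_301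
  · exact p6_302
  · exact p6_303

end Cfsg.Agent.Helper9.ONO
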