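import Mathlib
import Cfsg.Agent.Helper9.ONO.Chk

set_option autoImplicit false
set_option Elab.async false

/-! The checks of the keys of the codes, in chunks. -/

namespace Cfsg.Agent.Helper9.ONO

open Cfsg.Agent.Helper9.J3

set_option maxRecDepth 1000000 in
theorem p6_312 : allC p6At 312 800 = true := by decide +kernel

set_option maxRecDepth 1000000 in
theorem p6_313 : allC p6At 313 800 = true := by decide +kernel

set_option maxRecDepth 1000000 in
theorem p6_314 : allC p6At 314 800 = true := by decide +kernel

set_option maxRecDepth 1000000 in
theorem p6_315 : allC p6At 315 800 = true := by decide +kernel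

set_option maxRecDepth 1000000 in
theorem p6_316 : allC p6At 316 800 = true := by decide +kernel

set_option maxRecDepth 1000000 in
theorem p6_317 : allC p6At 317 800 = true := by decide +kernel

set_option maxRecDepth 1000000 in
theorem p6_318 : allC p6At 318 800 = true := by decide +kernel

set_option maxRecDepth 1000000 in
theorem p6_319 : allC p6At 319 800 = true := by decide +kernel

theorem p6F39 : ∀ k, 312 ≤ k → k < 320 → allC p6At k 800 = true := by
  intro k h1 h2
  interval_cases k
  · exact p6_312
  · exact p6_313
  · exact p6_314
  · exact p6_315
  · exact p6_316
  · exact p6_317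
  · exact p6_318
  · exact p6_319

end Cfsg.Agent.Helper9.ONO
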