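import Mathlib
import Cfsg.Agent.Helper9.ONO.Chk

set_option autoImplicit false
set_option Elab.async false

/-! The checks of the keys of the codes, in chunks. -/

namespace Cfsg.Agent.Helper9.ONO

open Cfsg.Agent.Helper9.J3

set_option maxRecDepth 1000000 in
theorem p6_32 : allC p6At 32 800 = true := by decide +kernel

set_option maxRecDepth 1000000 in
theorem p6_33 : allC p6At 33 800 = true := by decide +kernel

set_option maxRecDepth 1000000 in
theorem p6_34 : allC p6At 34 800 = true := by decide +kernel

set_option maxRecDepth 1000000 in
theorem p6_35 : allC p6At 35 800 = true := by decide +kernel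

set_option maxRecDepth 1000000 in
theorem p6_36 : allC p6At 36 800 = true := by decide +kernel

set_option maxRecDepth 1000000 in
theorem p6_37 : allC p6At 37 800 = true := by decide +kernel

set_option maxRecDepth 1000000 in
theorem p6_38 : allC p6At 38 800 = true := by decide +kernel

set_option maxRecDepth 1000000 in
theorem p6_39 : allC p6At 39 800 = true := by decide +kernel

theorem p6F4 : ∀ k, 32 ≤ k → k < 40 → allC p6At k 800 = true := by
  intro k h1 h2
  interval_cases k
  · exact p6_32
  · exact p6_33
  · exact p6_34
  · exact p6_35
  · exact p6_36
  · exact p6_37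
  · exact p6_38
  · exact p6_39

end Cfsg.Agent.Helper9.ONO
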