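import Mathlib
import Cfsg.Agent.Helper9.ONO.Chk

set_option autoImplicit false
set_option Elab.async false

/-! The checks of the keys of the codes, in chunks. -/

namespace Cfsg.Agent.Helper9.ONO

open Cfsg.Agent.Helper9.J3

set_option maxRecDepth 1000000 in
theorem p6_320 : allC p6At 320 800 = true := by decide +kernel

set_option maxRecDepth 1000000 in
theorem p6_321 : allC p6At 321 800 = true := by decide +kernel

set_option maxRecDepth 1000000 in
theorem p6_322 : allC p6At 322 800 = true := by decide +kernel

set_option maxRecDepth 1000000 in
theorem p6_323 : allC p6At 323 800 = true := by decide +kernel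

set_option maxRecDepth 1000000 in
theorem p6_324 : allC p6At 324 800 = true := by decide +kernel

theorem p6F40 : ∀ k, 320 ≤ k → k < 325 → allC p6At k 800 = true := by
  intro k h1 h2
  interval_cases k
  · exact p6_320
  · exact p6_321
  · exact p6_322
  · exact p6_323
  · exact p6_324

end Cfsg.Agent.Helper9.ONO
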