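import Mathlib
import Cfsg.Agent.Helper9.ONO.Chk

set_option autoImplicit false
set_option Elab.async false

/-! The checks of the keys of the codes, in chunks. -/

namespace Cfsg.Agent.Helper9.ONO

open Cfsg.Agent.Helper9.J3

set_option maxRecDepth 1000000 in
theorem p6_40 : allC p6At 40 800 = true := by decide +kernel

set_option maxRecDepth 1000000 in
theorem p6_41 : allC p6At 41 800 = true := by decide +kernel

set_option maxRecDepth 1000000 in
theorem p6_42 : allC p6At 42 800 = true := by decide +kernel

set_option maxRecDepth 1000000 in
theorem p6_43 : allC p6At 43 800 = true := by decide +kernel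

set_option maxRecDepth 1000000 in
theorem p6_44 : allC p6At 44 800 = true := by decide +kernel

set_option maxRecDepth 1000000 in
theorem p6_45 : allC p6At 45 800 = true := by decide +kernel

set_option maxRecDepth 1000000 in
theorem p6_46 : allC p6At 46 800 = true := by decide +kernel

set_option maxRecDepth 1000000 in
theorem p6_47 : allC p6At 47 800 = true := by decide +kernel

theorem p6F5 : ∀ k, 40 ≤ k → k < 48 → allC p6At k 800 = true := by
  intro k h1 h2
  interval_cases k
  · exact p6_40
  · exact p6_41
  · exact p6_42
  · exact p6_43
  · exact p6_44
  · exact p6_45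
  · exact p6_46
  · exact p6_47

end Cfsg.Agent.Helper9.ONO
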