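import Mathlib
import Cfsg.Agent.Helper9.ONO.Chk

set_option autoImplicit false
set_option Elab.async false

/-! The checks of the keys of the codes, in chunks. -/

namespace Cfsg.Agent.Helper9.ONO

open Cfsg.Agent.Helper9.J3

set_option maxRecDepth 1000000 in
theorem p6_48 : allC p6At 48 800 = true := by decide +kernel

set_option maxRecDepth 1000000 in
theorem p6_49 : allC p6At 49 800 = true := by decide +kernel

set_option maxRecDepth 1000000 in
theorem p6_50 : allC p6At 50 800 = true := by decide +kernel

set_option maxRecDepth 1000000 in
theorem p6_51 : allC p6At 51 800 = true := by decide +kernel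

set_option maxRecDepth 1000000 in
theorem p6_52 : allC p6At 52 800 = true := by decide +kernel

set_option maxRecDepth 1000000 in
theorem p6_53 : allC p6At 53 800 = true := by decide +kernel

set_option maxRecDepth 1000000 in
theorem p6_54 : allC p6At 54 800 = true := by decide +kernel

set_option maxRecDepth 1000000 in
theorem p6_55 : allC p6At 55 800 = true := by decide +kernel

theorem p6F6 : ∀ k, 48 ≤ k → k < 56 → allC p6At k 800 = true := by
  intro k h1 h2
  interval_cases k
  · exact p6_48
  · exact p6_49
  · exact p6_50
  · exact p6_51
  · exact p6_52
  · exact p6_53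
  · exact p6_54
  · exact p6_55

end Cfsg.Agent.Helper9.ONO
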