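import Mathlib
import Cfsg.Agent.Helper9.ONO.Chk

set_option autoImplicit false
set_option Elab.async false

/-! The checks of the keys of the codes, in chunks. -/

namespace Cfsg.Agent.Helper9.ONO

open Cfsg.Agent.Helper9.J3

set_option maxRecDepth 1000000 in
theorem p6_56 : allC p6At 56 800 = true := by decide +kernel

set_option maxRecDepth 1000000 in
theorem p6_57 : allC p6At 57 800 = true := by decide +kernel

set_option maxRecDepth 1000000 in
theorem p6_58 : allC p6At 58 800 = true := by decide +kernel

set_option maxRecDepth 1000000 in
theorem p6_59 : allC p6At 59 800 = true := by decide +kernel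

set_option maxRecDepth 1000000 in
theorem p6_60 : allC p6At 60 800 = true := by decide +kernel

set_option maxRecDepth 1000000 in
theorem p6_61 : allC p6At 61 800 = true := by decide +kernel

set_option maxRecDepth 1000000 in
theorem p6_62 : allC p6At 62 800 = true := by decide +kernel

set_option maxRecDepth 1000000 in
theorem p6_63 : allC p6At 63 800 = true := by decide +kernel

theorem p6F7 : ∀ k, 56 ≤ k → k < 64 → allC p6At k 800 = true := by
  intro k h1 h2
  interval_cases k
  · exact p6_56
  · exact p6_57
  · exact p6_58
  · exact p6_59
  · exact p6_60
  · exact p6_61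
  · exact p6_62
  · exact p6_63

end Cfsg.Agent.Helper9.ONO
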