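import Mathlib
import Cfsg.Agent.Helper9.ONO.Chk

set_option autoImplicit false
set_option Elab.async false

/-! The checks of the keys of the codes, in chunks. -/

namespace Cfsg.Agent.Helper9.ONO

open Cfsg.Agent.Helper9.J3

set_option maxRecDepth 1000000 in
theorem p6_64 : allC p6At 64 800 = true := by decide +kernel

set_option maxRecDepth 1000000 in
theorem p6_65 : allC p6At 65 800 = true := by decide +kernel

set_option maxRecDepth 1000000 in
theorem p6_66 : allC p6At 66 800 = true := by decide +kernel

set_option maxRecDepth 1000000 in
theorem p6_67 : allC p6At 67 800 = true := by decide +kernel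

set_option maxRecDepth 1000000 in
theorem p6_68 : allC p6At 68 800 = true := by decide +kernel

set_option maxRecDepth 1000000 in
theorem p6_69 : allC p6At 69 800 = true := by decide +kernel

set_option maxRecDepth 1000000 in
theorem p6_70 : allC p6At 70 800 = true := by decide +kernel

set_option maxRecDepth 1000000 in
theorem p6_71 : allC p6At 71 800 = true := by decide +kernel

theorem p6F8 : ∀ k, 64 ≤ k → k < 72 → allC p6At k 800 = true := by
  intro k h1 h2
  interval_cases k
  · exact p6_64
  · exact p6_65
  · exact p6_66
  · exact p6_67
  · exact p6_68
  · exact p6_69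
  · exact p6_70
  · exact p6_71

end Cfsg.Agent.Helper9.ONO
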