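import Mathlib
import Cfsg.Agent.Helper9.ONO.Chk

set_option autoImplicit false
set_option Elab.async false

/-! The checks of the keys of the codes, in chunks. -/

namespace Cfsg.Agent.Helper9.ONO

open Cfsg.Agent.Helper9.J3

set_option maxRecDepth 1000000 in
theorem p6_72 : allC p6At 72 800 = true := by decide +kernel

set_option maxRecDepth 1000000 in
theorem p6_73 : allC p6At 73 800 = true := by decide +kernel

set_option maxRecDepth 1000000 in
theorem p6_74 : allC p6At 74 800 = true := by decide +kernel

set_option maxRecDepth 1000000 in
theorem p6_75 : allC p6At 75 800 = true := by decide +kernel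

set_option maxRecDepth 1000000 in
theorem p6_76 : allC p6At 76 800 = true := by decide +kernel

set_option maxRecDepth 1000000 in
theorem p6_77 : allC p6At 77 800 = true := by decide +kernel

set_option maxRecDepth 1000000 in
theorem p6_78 : allC p6At 78 800 = true := by decide +kernel

set_option maxRecDepth 1000000 in
theorem p6_79 : allC p6At 79 800 = true := by decide +kernel

theorem p6F9 : ∀ k, 72 ≤ k → k < 80 → allC p6At k 800 = true := by
  intro k h1 h2
  interval_cases k
  · exact p6_72
  · exact p6_73
  · exact p6_74
  · exact p6_75
  · exact p6_76
  · exact p6_77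
  · exact p6_78
  · exact p6_79

end Cfsg.Agent.Helper9.ONO
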