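import Mathlib
import Cfsg.Agent.Helper9.ONO.P6Chk0
import Cfsg.Agent.Helper9.ONO.P6Chk1
import Cfsg.Agent.Helper9.ONO.P6Chk2
import Cfsg.Agent.Helper9.ONO.P6Chk3
import Cfsg.Agent.Helper9.ONO.P6Chk4
import Cfsg.Agent.Helper9.ONO.P6Chk5
import Cfsg.Agent.Helper9.ONO.P6Chk6
import Cfsg.Agent.Helper9.ONO.P6Chk7
import Cfsg.Agent.Helper9.ONO.P6Chk8
import Cfsg.Agent.Helper9.ONO.P6Chk9
import Cfsg.Agent.Helper9.ONO.P6Chk10
import Cfsg.Agent.Helper9.ONO.P6Chk11
import Cfsg.Agent.Helper9.ONO.P6Chk12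
import Cfsg.Agent.Helper9.ONO.P6Chk13
import Cfsg.Agent.Helper9.ONO.P6Chk14
import Cfsg.Agent.Helper9.ONO.P6Chk15
import Cfsg.Agent.Helper9.ONO.P6Chk16
import Cfsg.Agent.Helper9.ONO.P6Chk17
import Cfsg.Agent.Helper9.ONO.P6Chk18
import Cfsg.Agent.Helper9.ONO.P6Chk19
import Cfsg.Agent.Helper9.ONO.P6Chk20
import Cfsg.Agent.Helper9.ONO.P6Chk21
import Cfsg.Agent.Helper9.ONO.P6Chk22
import Cfsg.Agent.Helper9.ONO.P6Chk23
import Cfsg.Agent.Helper9.ONO.P6Chk24
import Cfsg.Agent.Helper9.ONO.P6Chk25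
import Cfsg.Agent.Helper9.ONO.P6Chk26
import Cfsg.Agent.Helper9.ONO.P6Chk27
import Cfsg.Agent.Helper9.ONO.P6Chk28
import Cfsg.Agent.Helper9.ONO.P6Chk29
import Cfsg.Agent.Helper9.ONO.P6Chk30
import Cfsg.Agent.Helper9.ONO.P6Chk31
import Cfsg.Agent.Helper9.ONO.P6Chk32
import Cfsg.Agent.Helper9.ONO.P6Chk33
import Cfsg.Agent.Helper9.ONO.P6Chk34
import Cfsg.Agent.Helper9.ONO.P6Chk35
import Cfsg.Agent.Helper9.ONO.P6Chk36
import Cfsg.Agent.Helper9.ONO.P6Chk37
import Cfsg.Agent.Helper9.ONO.P6Chk38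
import Cfsg.Agent.Helper9.ONO.P6Chk39
import Cfsg.Agent.Helper9.ONO.P6Chk40

set_option autoImplicit false

/-! The checks of the keys of the codes, assembled from the chunks. -/

namespace Cfsg.Agent.Helper9.ONO

open Cfsg.Agent.Helper9.J3

theorem p6_chunks : ∀ k, k < 325 → allC p6At k 800 = true := by
  intro k hk
  have hq : k / 8 < 41 := by omega
  have hk' : k / 8 * 8 ≤ k ∧ k < k / 8 * 8 + 8 := by omega
  generalize k / 8 = q at hq hk'
  interval_cases q
  · exact p6F0 k (by omega) (by omega)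
  · exact p6F1 k (by omega) (by omega)
  · exact p6F2 k (by omega) (by omega)
  · exact p6F3 k (by omega) (by omega)
  · exact p6F4 k (by omega) (by omega)
  · exact p6F5 k (by omega) (by omega)
  · exact p6F6 k (by omega) (by omega)
  · exact p6F7 k (by omega) (by omega)
  · exact p6F8 k (by omega) (by omega)
  · exact p6F9 k (by omega) (by omega)
  · exact p6F10 k (by omega) (by omega)
  · exact p6F11 k (by omega) (by omega)
  · exact p6F12 k (by omega) (by omega)
  · exact p6F13 k (by omega) (by omega)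
  · exact p6F14 k (by omega) (by omega)
  · exact p6F15 k (by omega) (by omega)
  · exact p6F16 k (by omega) (by omega)
  · exact p6F17 k (by omega) (by omega)
  · exact p6F18 k (by omega) (by omega)
  · exact p6F19 k (by omega) (by omega)
  · exact p6F20 k (by omega) (by omega)
  · exact p6F21 k (by omega) (by omega)
  · exact p6F22 k (by omega) (by omega)
  · exact p6F23 k (by omega) (by omega)
  · exact p6F24 k (by omega) (by omega)
  · exact p6F25 k (by omega) (by omega)
  · exact p6F26 k (by omega) (by omega)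
  · exact p6F27 k (by omega) (by omega)
  · exact p6F28 k (by omega) (by omega)
  · exact p6F29 k (by omega) (by omega)
  · exact p6F30 k (by omega) (by omega)
  · exact p6F31 k (by omega) (by omega)
  · exact p6F32 k (by omega) (by omega)
  · exact p6F33 k (by omega) (by omega)
  · exact p6F34 k (by omega) (by omega)
  · exact p6F35 k (by omega) (by omega)
  · exact p6F36 k (by omega) (by omega)
  · exact p6F37 k (by omega) (by omega)
  · exact p6F38 k (by omega) (by omega)
  · exact p6F39 k (by omega) (by omega)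
  · exact p6F40 k (by omega) (by omega)

theorem p6_all : ∀ j, j < nR → p6At j = true := by
  intro j hj
  have hj' : j < 325 * 800 := lt_of_lt_of_le hj (by decide)
  exact allC_true p6_chunks hj'

end Cfsg.Agent.Helper9.ONO
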