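import Mathlib
import Cfsg.Agent.Helper9.ONO.Cent
import Cfsg.Agent.Helper9.ONO.Gen
import Cfsg.Agent.Helper9.ONO.P6Sum

set_option autoImplicit false

/-!
Every automorphism of the group on the 122760 points maps the second generator to a conjugate, by
a power of the element of order 11, of one of the conjugates given by the codes: these conjugates
fill the class of the involutions.
-/

namespace Cfsg.Agent.Helper9.ONO

open Cfsg Cfsg.Spor Cfsg.Agent.Helper9.J3 Cfsg.Agent.Helper9.ON Cfsg.Agent.Helper9.ONS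
open Cfsg.Agent.Helper9.ONS.M11D Cfsg.Agent.Helper5.ONTC Cfsg.Agent.Helper9.OutG

/-- the conjugate of the second generator with a given index. -/
noncomputable def repG (j : ℕ) : ↥ONP := ⟨repP (cdF j), repP_mem _⟩

/-- the involution whose centralizer is bounded from below. -/
noncomputable def zG : ↥ONP := ⟨zP, zP_mem⟩

/-- the candidates for the images of the second generator. -/
def CandS : Set ↥ONP := {x | ∃ j, j < nR ∧ x = repG j}

theorem bG_sq : bG * bG = 1 := Subtype.ext (sg_mul 1)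

theorem bG_ne_one : bG ≠ 1 := fun h => sg_one_ne (congrArg Subtype.val h)

theorem z_conj_b : ∃ g : ↥ONP, g * bG * g⁻¹ = zG := by
  obtain ⟨g, hg, e⟩ := zP_isConj
  exact ⟨⟨g, hg⟩, Subtype.ext e⟩

theorem repG_conj_z (j : ℕ) : ∃ g : ↥ONP, g * zG * g⁻¹ = repG j := by
  obtain ⟨g, hg, e⟩ := repP_isConj (cdF j)
  obtain ⟨h, hh⟩ := z_conj_b
  refine ⟨⟨g, hg⟩ * h⁻¹, ?_⟩
  have e' : (⟨g, hg⟩ : ↥ONP) * bG * (⟨g, hg⟩ : ↥ONP)⁻¹ = repG j := Subtype.ext e
  rw [← e', ← hh]
  group

theorem key_min (j : ℕ) (hj : j < nR) (k : ℕ) (hk0 : 0 < k) (hk : k < 11) :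
    keyP (repG j : Equiv.Perm (Fin nP)) <
      keyP ((aG ^ k * repG j * (aG ^ k)⁻¹ : ↥ONP) : Equiv.Perm (Fin nP)) :=
  keyP_lt (cp_repP _) (cp_cjP _ k) ((p6At_spec (p6_all j hj) hj).1 k hk0 hk)

theorem key_mono (j : ℕ) (hj : j + 1 < nR) :
    keyP (repG j : Equiv.Perm (Fin nP)) < keyP (repG (j + 1) : Equiv.Perm (Fin nP)) :=
  keyP_lt (cp_repP _) (cp_repP _) ((p6At_spec (p6_all j (by omega)) (by omega)).2 hj)

/-- the elements of the group that commute with the involution. -/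
noncomputable def CZG : Subgroup ↥ONP := CZ.subgroupOf ONP

theorem card_CZG : 161280 ≤ Nat.card ↥CZG := by
  have h : CZ ≤ ONP := inf_le_left
  unfold CZG
  rw [Nat.card_congr (Subgroup.subgroupOfEquivOfLe h).toEquiv]
  exact card_CZ_ge

theorem CZG_comm : ∀ c ∈ CZG, c * zG = zG * c := by
  intro c hc
  have h1 : c.1 ∈ CZ := Subgroup.mem_subgroupOf.1 hc
  have h2 : c.1 ∈ Subgroup.centralizer ({zP} : Set (Equiv.Perm (Fin nP))) :=
    (Subgroup.mem_inf.1 h1).2
  rw [Subgroup.mem_centralizer_iff] at h2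
  apply Subtype.ext
  exact (h2 zP rfl).symm

/-- every automorphism maps the second generator to a conjugate of a candidate by a power of the
element of order 11. -/
theorem hCand (β : MulAut ↥ONP) : ∃ i : ℕ, aG ^ i * β bG * (aG ^ i)⁻¹ ∈ CandS := by
  have := finite_ONP
  have ht2 : β bG * β bG = 1 := by rw [← map_mul, bG_sq, map_one]
  have ht1 : β bG ≠ 1 := by
    intro h
    apply bG_ne_one
    apply β.injective
    rw [h, map_one]
  obtain ⟨g, hg⟩ := invol_conj (β bG) ht2 ht1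
  obtain ⟨h, hh⟩ := z_conj_b
  have ht : ∃ g' : ↥ONP, g' * zG * g'⁻¹ = β bG := by
    refine ⟨g * h⁻¹, ?_⟩
    rw [← hg, ← hh]
    group
  have hcard : Nat.card ↥ONP ≤ 11 * nR * Nat.card ↥CZG := by
    rw [card_ONP']
    calc 460815505920 = 11 * nR * 161280 := by norm_num [nR]
      _ ≤ 11 * nR * Nat.card ↥CZG := Nat.mul_le_mul_left _ card_CZG
  obtain ⟨i, j, hj, e⟩ := exists_rep_of_count aG zG 11 nR aG_pow11 repG
    (fun x => keyP (x : Equiv.Perm (Fin nP))) (fun j _ => repG_conj_z j) key_min key_mono CZG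
    CZG_comm hcard (β bG) ht
  exact ⟨i, j, hj, e⟩

end Cfsg.Agent.Helper9.ONO
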