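import Mathlib
import Cfsg.Agent.Helper9.ONO.Base
import Cfsg.Agent.Helper9.ONO.PowDefs

set_option autoImplicit false
set_option Elab.async false

/-!
The check that a product of the element of order 11 and the second generator fixes no point.
-/

namespace Cfsg.Agent.Helper9.ONO

open Cfsg Cfsg.Agent.Helper9.J3 Cfsg.Agent.Helper9.ON Cfsg.Agent.Helper9.ONS
open Cfsg.Agent.Helper9.ONS.M11D Cfsg.Agent.Helper5.ONTC Cfsg.Agent.Helper9.OutG

/-- the function of the witness, the product of the element of order 11, the second generator,
the square of the element of order 11, the second generator, the power 8 of the element of order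
11 and the second generator. -/
def g0F (v : ℕ) : ℕ :=
  sapp gT (sapp (ctF 1) (sapp (aF 2) (sapp (ctF 1) (sapp (aF 8) (sapp (ctF 1) v)))))

/-- the check that the witness moves a point. -/
def fpfAt (v : ℕ) : Bool := iteB (Nat.ble nP v) true (notB (Nat.beq (g0F v) v))

set_option maxRecDepth 1000000 in
theorem fpf_0 : allC fpfAt 0 40960 = true := by decide +kernel

set_option maxRecDepth 1000000 in
theorem fpf_1 : allC fpfAt 1 40960 = true := by decide +kernel

set_option maxRecDepth 1000000 in
theorem fpf_2 : allC fpfAt 2 40960 = true := by decide +kernel

theorem fpf_chunks : ∀ k, k < 3 → allC fpfAt k 40960 = true := by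
  intro k hk
  interval_cases k
  · exact fpf_0
  · exact fpf_1
  · exact fpf_2

/-- the witness fixes no point. -/
theorem fpf_all : ∀ v, v < nP → g0F v ≠ v := by
  intro v hv e
  have h : fpfAt v = true := allC_true fpf_chunks (v := v) (lt_trans hv (by norm_num))
  unfold fpfAt at h
  have hb : Nat.ble nP v = false := by
    cases hc : Nat.ble nP v with
    | false => rfl
    | true => have := Nat.le_of_ble_eq_true hc; omega
  have h2 := notB_true (iteB_neg h hb)
  rw [e] at h2
  have : Nat.beq v v = true := Nat.beq_refl _
  rw [this] at h2
  exact Bool.noConfusion h2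

end Cfsg.Agent.Helper9.ONO
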