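import Mathlib
import Cfsg.Agent.Helper9.ONO.Tau
import Cfsg.Agent.Helper9.ONO.FpfChk

set_option autoImplicit false
set_option Elab.async false

/-!
The further automorphism of the group on the 122760 points is not inner: a product of the two
generators fixes no point, and its image fixes a point.
-/

namespace Cfsg.Agent.Helper9.ONO

open Cfsg Cfsg.Spor Cfsg.Agent.Helper9.J3 Cfsg.Agent.Helper9.ON Cfsg.Agent.Helper9.ONS
open Cfsg.Agent.Helper9.ONS.M11D Cfsg.Agent.Helper5.ONTC Cfsg.Agent.Helper9.OutG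

/-- the witness. -/
noncomputable def g0G : ↥ONP := aG * bG * aG ^ 2 * bG * aG ^ 8 * bG

theorem coe_g0G : (g0G : Equiv.Perm (Fin nP)) =
    M11D.gE * sg 1 * M11D.gE ^ 2 * sg 1 * M11D.gE ^ 8 * sg 1 := rfl

theorem g0F_eq (x : ℕ) : g0F x = gT (ctF 1 (aF 2 (ctF 1 (aF 8 (ctF 1 x))))) := by
  unfold g0F
  rw [sapp_eq, sapp_eq, sapp_eq, sapp_eq, sapp_eq, sapp_eq]

theorem cp_g0G : Cp (g0G : Equiv.Perm (Fin nP)) g0F := by
  have c1 : Cp (sg 1) (ctF 1) := cp_sg (by norm_num)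
  have c2 : Cp (M11D.gE ^ 2) (aF 2) := cp_aF 2 (by norm_num)
  have c8 : Cp (M11D.gE ^ 8) (aF 8) := cp_aF 8 (by norm_num)
  intro v
  rw [coe_g0G, Equiv.Perm.mul_apply, Equiv.Perm.mul_apply, Equiv.Perm.mul_apply,
    Equiv.Perm.mul_apply, Equiv.Perm.mul_apply, cp_gE, c1, c2, c1, c8, c1, g0F_eq]

/-- the function of the image of the witness. -/
def g1F (v : ℕ) : ℕ :=
  sapp gT (repF (cdF j1) (sapp (aF 2) (repF (cdF j1) (sapp (aF 8) (repF (cdF j1) v)))))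

theorem g1_fix : andB (ltB tauFix nP) (Nat.beq (g1F tauFix) tauFix) = true := by decide +kernel

theorem g1F_eq (x : ℕ) : g1F x =
    gT (repF (cdF j1) (aF 2 (repF (cdF j1) (aF 8 (repF (cdF j1) x))))) := by
  unfold g1F
  rw [sapp_eq, sapp_eq, sapp_eq]

theorem coe_tau_g0G : ((tauG g0G : ↥ONP) : Equiv.Perm (Fin nP)) =
    M11D.gE * repP (cdF j1) * M11D.gE ^ 2 * repP (cdF j1) * M11D.gE ^ 8 * repP (cdF j1) := by
  unfold g0G
  rw [map_mul, map_mul, map_mul, map_mul, map_mul, map_pow, map_pow, tauG_aG]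
  have e : ∀ x : ↥ONP, ((aG * x * aG ^ 2 * x * aG ^ 8 * x : ↥ONP) : Equiv.Perm (Fin nP)) =
      M11D.gE * x.1 * M11D.gE ^ 2 * x.1 * M11D.gE ^ 8 * x.1 := fun _ => rfl
  rw [e, tauG_bG]

theorem cp_tau_g0G : Cp ((tauG g0G : ↥ONP) : Equiv.Perm (Fin nP)) g1F := by
  have c1 : Cp (repP (cdF j1)) (repF (cdF j1)) := cp_repP _
  have c2 : Cp (M11D.gE ^ 2) (aF 2) := cp_aF 2 (by norm_num)
  have c8 : Cp (M11D.gE ^ 8) (aF 8) := cp_aF 8 (by norm_num)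
  intro v
  rw [coe_tau_g0G, Equiv.Perm.mul_apply, Equiv.Perm.mul_apply, Equiv.Perm.mul_apply,
    Equiv.Perm.mul_apply, Equiv.Perm.mul_apply, cp_gE, c1, c2, c1, c8, c1, g1F_eq]

/-- the further automorphism is not inner. -/
theorem tau_not_inner : ¬ ∃ d : ↥ONP, tauG = MulAut.conj d := by
  rintro ⟨d, hd⟩
  obtain ⟨h1, h2⟩ := andB_true g1_fix
  have hq : tauFix < nP := ltB_true h1
  have hfix : ((tauG g0G : ↥ONP) : Equiv.Perm (Fin nP)) ⟨tauFix, hq⟩ = ⟨tauFix, hq⟩ := by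
    apply Fin.ext
    rw [cp_tau_g0G]
    exact Nat.eq_of_beq_eq_true h2
  have hconj : tauG g0G = d * g0G * d⁻¹ := by
    rw [hd]
    rfl
  rw [hconj] at hfix
  have hfix' : (d : Equiv.Perm (Fin nP)) ((g0G : Equiv.Perm (Fin nP))
      ((d : Equiv.Perm (Fin nP))⁻¹ ⟨tauFix, hq⟩)) = ⟨tauFix, hq⟩ := hfix
  have h3 : (g0G : Equiv.Perm (Fin nP)) ((d : Equiv.Perm (Fin nP))⁻¹ ⟨tauFix, hq⟩) =
      (d : Equiv.Perm (Fin nP))⁻¹ ⟨tauFix, hq⟩ := by
    rw [Equiv.Perm.eq_inv_iff_eq]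
    exact hfix'
  have h4 := congrArg Fin.val h3
  rw [cp_g0G] at h4
  exact fpf_all _ (Fin.isLt _) h4

end Cfsg.Agent.Helper9.ONO
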