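import Mathlib
import Cfsg.Agent.Helper9.ONO.Chk

set_option autoImplicit false
set_option Elab.async false

/-! The tests of the codes, in chunks. -/

namespace Cfsg.Agent.Helper9.ONO

open Cfsg.Agent.Helper9.J3

set_option maxRecDepth 1000000 in
theorem p7_0 : allC p7At 0 1200 = true := by decide +kernel

set_option maxRecDepth 1000000 in
theorem p7_1 : allC p7At 1 1200 = true := by decide +kernel

set_option maxRecDepth 1000000 in
theorem p7_2 : allC p7At 2 1200 = true := by decide +kernel

set_option maxRecDepth 1000000 in
theorem p7_3 : allC p7At 3 1200 = true := by decide +kernel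

set_option maxRecDepth 1000000 in
theorem p7_4 : allC p7At 4 1200 = true := by decide +kernel

set_option maxRecDepth 1000000 in
theorem p7_5 : allC p7At 5 1200 = true := by decide +kernel

set_option maxRecDepth 1000000 in
theorem p7_6 : allC p7At 6 1200 = true := by decide +kernel

set_option maxRecDepth 1000000 in
theorem p7_7 : allC p7At 7 1200 = true := by decide +kernel

theorem p7F0 : ∀ k, 0 ≤ k → k < 8 → allC p7At k 1200 = true := by
  intro k h1 h2
  interval_cases k
  · exact p7_0
  · exact p7_1
  · exact p7_2
  · exact p7_3
  · exact p7_4
  · exact p7_5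
  · exact p7_6
  · exact p7_7

end Cfsg.Agent.Helper9.ONO
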