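import Mathlib
import Cfsg.Agent.Helper9.ONO.Chk

set_option autoImplicit false
set_option Elab.async false

/-! The tests of the codes, in chunks. -/

namespace Cfsg.Agent.Helper9.ONO

open Cfsg.Agent.Helper9.J3

set_option maxRecDepth 1000000 in
theorem p7_8 : allC p7At 8 1200 = true := by decide +kernel

set_option maxRecDepth 1000000 in
theorem p7_9 : allC p7At 9 1200 = true := by decide +kernel

set_option maxRecDepth 1000000 in
theorem p7_10 : allC p7At 10 1200 = true := by decide +kernel

set_option maxRecDepth 1000000 in
theorem p7_11 : allC p7At 11 1200 = true := by decide +kernel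

set_option maxRecDepth 1000000 in
theorem p7_12 : allC p7At 12 1200 = true := by decide +kernel

set_option maxRecDepth 1000000 in
theorem p7_13 : allC p7At 13 1200 = true := by decide +kernel

set_option maxRecDepth 1000000 in
theorem p7_14 : allC p7At 14 1200 = true := by decide +kernel

set_option maxRecDepth 1000000 in
theorem p7_15 : allC p7At 15 1200 = true := by decide +kernel

theorem p7F1 : ∀ k, 8 ≤ k → k < 16 → allC p7At k 1200 = true := by
  intro k h1 h2
  interval_cases k
  · exact p7_8
  · exact p7_9
  · exact p7_10
  · exact p7_11
  · exact p7_12
  · exact p7_13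
  · exact p7_14
  · exact p7_15

end Cfsg.Agent.Helper9.ONO
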