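import Mathlib
import Cfsg.Agent.Helper9.ONO.Chk

set_option autoImplicit false
set_option Elab.async false

/-! The tests of the codes, in chunks. -/

namespace Cfsg.Agent.Helper9.ONO

open Cfsg.Agent.Helper9.J3

set_option maxRecDepth 1000000 in
theorem p7_80 : allC p7At 80 1200 = true := by decide +kernel

set_option maxRecDepth 1000000 in
theorem p7_81 : allC p7At 81 1200 = true := by decide +kernel

set_option maxRecDepth 1000000 in
theorem p7_82 : allC p7At 82 1200 = true := by decide +kernel

set_option maxRecDepth 1000000 in
theorem p7_83 : allC p7At 83 1200 = true := by decide +kernel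

set_option maxRecDepth 1000000 in
theorem p7_84 : allC p7At 84 1200 = true := by decide +kernel

set_option maxRecDepth 1000000 in
theorem p7_85 : allC p7At 85 1200 = true := by decide +kernel

set_option maxRecDepth 1000000 in
theorem p7_86 : allC p7At 86 1200 = true := by decide +kernel

set_option maxRecDepth 1000000 in
theorem p7_87 : allC p7At 87 1200 = true := by decide +kernel

theorem p7F10 : ∀ k, 80 ≤ k → k < 88 → allC p7At k 1200 = true := by
  intro k h1 h2
  interval_cases k
  · exact p7_80
  · exact p7_81
  · exact p7_82
  · exact p7_83
  · exact p7_84
  · exact p7_85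
  · exact p7_86
  · exact p7_87

end Cfsg.Agent.Helper9.ONO
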