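import Mathlib
import Cfsg.Agent.Helper9.ONO.Chk

set_option autoImplicit false
set_option Elab.async false

/-! The tests of the codes, in chunks. -/

namespace Cfsg.Agent.Helper9.ONO

open Cfsg.Agent.Helper9.J3

set_option maxRecDepth 1000000 in
theorem p7_88 : allC p7At 88 1200 = true := by decide +kernel

set_option maxRecDepth 1000000 in
theorem p7_89 : allC p7At 89 1200 = true := by decide +kernel

set_option maxRecDepth 1000000 in
theorem p7_90 : allC p7At 90 1200 = true := by decide +kernel

set_option maxRecDepth 1000000 in
theorem p7_91 : allC p7At 91 1200 = true := by decide +kernel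

set_option maxRecDepth 1000000 in
theorem p7_92 : allC p7At 92 1200 = true := by decide +kernel

set_option maxRecDepth 1000000 in
theorem p7_93 : allC p7At 93 1200 = true := by decide +kernel

set_option maxRecDepth 1000000 in
theorem p7_94 : allC p7At 94 1200 = true := by decide +kernel

set_option maxRecDepth 1000000 in
theorem p7_95 : allC p7At 95 1200 = true := by decide +kernel

theorem p7F11 : ∀ k, 88 ≤ k → k < 96 → allC p7At k 1200 = true := by
  intro k h1 h2
  interval_cases k
  · exact p7_88
  · exact p7_89
  · exact p7_90
  · exact p7_91
  · exact p7_92
  · exact p7_93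
  · exact p7_94
  · exact p7_95

end Cfsg.Agent.Helper9.ONO
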