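import Mathlib
import Cfsg.Agent.Helper9.ONO.Chk

set_option autoImplicit false
set_option Elab.async false

/-! The tests of the codes, in chunks. -/

namespace Cfsg.Agent.Helper9.ONO

open Cfsg.Agent.Helper9.J3

set_option maxRecDepth 1000000 in
theorem p7_104 : allC p7At 104 1200 = true := by decide +kernel

set_option maxRecDepth 1000000 in
theorem p7_105 : allC p7At 105 1200 = true := by decide +kernel

set_option maxRecDepth 1000000 in
theorem p7_106 : allC p7At 106 1200 = true := by decide +kernel

set_option maxRecDepth 1000000 in
theorem p7_107 : allC p7At 107 1200 = true := by decide +kernel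

set_option maxRecDepth 1000000 in
theorem p7_108 : allC p7At 108 1200 = true := by decide +kernel

set_option maxRecDepth 1000000 in
theorem p7_109 : allC p7At 109 1200 = true := by decide +kernel

set_option maxRecDepth 1000000 in
theorem p7_110 : allC p7At 110 1200 = true := by decide +kernel

set_option maxRecDepth 1000000 in
theorem p7_111 : allC p7At 111 1200 = true := by decide +kernel

theorem p7F13 : ∀ k, 104 ≤ k → k < 112 → allC p7At k 1200 = true := by
  intro k h1 h2
  interval_cases k
  · exact p7_104
  · exact p7_105
  · exact p7_106
  · exact p7_107
  · exact p7_108
  · exact p7_109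
  · exact p7_110
  · exact p7_111

end Cfsg.Agent.Helper9.ONO
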