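import Mathlib
import Cfsg.Agent.Helper9.ONO.Chk

set_option autoImplicit false
set_option Elab.async false

/-! The tests of the codes, in chunks. -/

namespace Cfsg.Agent.Helper9.ONO

open Cfsg.Agent.Helper9.J3

set_option maxRecDepth 1000000 in
theorem p7_112 : allC p7At 112 1200 = true := by decide +kernel

set_option maxRecDepth 1000000 in
theorem p7_113 : allC p7At 113 1200 = true := by decide +kernel

set_option maxRecDepth 1000000 in
theorem p7_114 : allC p7At 114 1200 = true := by decide +kernel

set_option maxRecDepth 1000000 in
theorem p7_115 : allC p7At 115 1200 = true := by decide +kernel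

set_option maxRecDepth 1000000 in
theorem p7_116 : allC p7At 116 1200 = true := by decide +kernel

set_option maxRecDepth 1000000 in
theorem p7_117 : allC p7At 117 1200 = true := by decide +kernel

set_option maxRecDepth 1000000 in
theorem p7_118 : allC p7At 118 1200 = true := by decide +kernel

set_option maxRecDepth 1000000 in
theorem p7_119 : allC p7At 119 1200 = true := by decide +kernel

theorem p7F14 : ∀ k, 112 ≤ k → k < 120 → allC p7At k 1200 = true := by
  intro k h1 h2
  interval_cases k
  · exact p7_112
  · exact p7_113
  · exact p7_114
  · exact p7_115
  · exact p7_116
  · exact p7_117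
  · exact p7_118
  · exact p7_119

end Cfsg.Agent.Helper9.ONO
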