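import Mathlib
import Cfsg.Agent.Helper9.ONO.Chk

set_option autoImplicit false
set_option Elab.async false

/-! The tests of the codes, in chunks. -/

namespace Cfsg.Agent.Helper9.ONO

open Cfsg.Agent.Helper9.J3

set_option maxRecDepth 1000000 in
theorem p7_120 : allC p7At 120 1200 = true := by decide +kernel

set_option maxRecDepth 1000000 in
theorem p7_121 : allC p7At 121 1200 = true := by decide +kernel

set_option maxRecDepth 1000000 in
theorem p7_122 : allC p7At 122 1200 = true := by decide +kernel

set_option maxRecDepth 1000000 in
theorem p7_123 : allC p7At 123 1200 = true := by decide +kernel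

set_option maxRecDepth 1000000 in
theorem p7_124 : allC p7At 124 1200 = true := by decide +kernel

set_option maxRecDepth 1000000 in
theorem p7_125 : allC p7At 125 1200 = true := by decide +kernel

set_option maxRecDepth 1000000 in
theorem p7_126 : allC p7At 126 1200 = true := by decide +kernel

set_option maxRecDepth 1000000 in
theorem p7_127 : allC p7At 127 1200 = true := by decide +kernel

theorem p7F15 : ∀ k, 120 ≤ k → k < 128 → allC p7At k 1200 = true := by
  intro k h1 h2
  interval_cases k
  · exact p7_120
  · exact p7_121
  · exact p7_122
  · exact p7_123
  · exact p7_124
  · exact p7_125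
  · exact p7_126
  · exact p7_127

end Cfsg.Agent.Helper9.ONO
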