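import Mathlib
import Cfsg.Agent.Helper9.ONO.Chk

set_option autoImplicit false
set_option Elab.async false

/-! The tests of the codes, in chunks. -/

namespace Cfsg.Agent.Helper9.ONO

open Cfsg.Agent.Helper9.J3

set_option maxRecDepth 1000000 in
theorem p7_128 : allC p7At 128 1200 = true := by decide +kernel

set_option maxRecDepth 1000000 in
theorem p7_129 : allC p7At 129 1200 = true := by decide +kernel

set_option maxRecDepth 1000000 in
theorem p7_130 : allC p7At 130 1200 = true := by decide +kernel

set_option maxRecDepth 1000000 in
theorem p7_131 : allC p7At 131 1200 = true := by decide +kernel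

set_option maxRecDepth 1000000 in
theorem p7_132 : allC p7At 132 1200 = true := by decide +kernel

set_option maxRecDepth 1000000 in
theorem p7_133 : allC p7At 133 1200 = true := by decide +kernel

set_option maxRecDepth 1000000 in
theorem p7_134 : allC p7At 134 1200 = true := by decide +kernel

set_option maxRecDepth 1000000 in
theorem p7_135 : allC p7At 135 1200 = true := by decide +kernel

theorem p7F16 : ∀ k, 128 ≤ k → k < 136 → allC p7At k 1200 = true := by
  intro k h1 h2
  interval_cases k
  · exact p7_128
  · exact p7_129
  · exact p7_130
  · exact p7_131
  · exact p7_132
  · exact p7_133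
  · exact p7_134
  · exact p7_135

end Cfsg.Agent.Helper9.ONO
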