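import Mathlib
import Cfsg.Agent.Helper9.ONO.Chk

set_option autoImplicit false
set_option Elab.async false

/-! The tests of the codes, in chunks. -/

namespace Cfsg.Agent.Helper9.ONO

open Cfsg.Agent.Helper9.J3

set_option maxRecDepth 1000000 in
theorem p7_136 : allC p7At 136 1200 = true := by decide +kernel

set_option maxRecDepth 1000000 in
theorem p7_137 : allC p7At 137 1200 = true := by decide +kernel

set_option maxRecDepth 1000000 in
theorem p7_138 : allC p7At 138 1200 = true := by decide +kernel

set_option maxRecDepth 1000000 in
theorem p7_139 : allC p7At 139 1200 = true := by decide +kernel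

set_option maxRecDepth 1000000 in
theorem p7_140 : allC p7At 140 1200 = true := by decide +kernel

set_option maxRecDepth 1000000 in
theorem p7_141 : allC p7At 141 1200 = true := by decide +kernel

set_option maxRecDepth 1000000 in
theorem p7_142 : allC p7At 142 1200 = true := by decide +kernel

set_option maxRecDepth 1000000 in
theorem p7_143 : allC p7At 143 1200 = true := by decide +kernel

theorem p7F17 : ∀ k, 136 ≤ k → k < 144 → allC p7At k 1200 = true := by
  intro k h1 h2
  interval_cases k
  · exact p7_136
  · exact p7_137
  · exact p7_138
  · exact p7_139
  · exact p7_140
  · exact p7_141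
  · exact p7_142
  · exact p7_143

end Cfsg.Agent.Helper9.ONO
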