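import Mathlib
import Cfsg.Agent.Helper9.ONO.Chk

set_option autoImplicit false
set_option Elab.async false

/-! The tests of the codes, in chunks. -/

namespace Cfsg.Agent.Helper9.ONO

open Cfsg.Agent.Helper9.J3

set_option maxRecDepth 1000000 in
theorem p7_144 : allC p7At 144 1200 = true := by decide +kernel

set_option maxRecDepth 1000000 in
theorem p7_145 : allC p7At 145 1200 = true := by decide +kernel

set_option maxRecDepth 1000000 in
theorem p7_146 : allC p7At 146 1200 = true := by decide +kernel

set_option maxRecDepth 1000000 in
theorem p7_147 : allC p7At 147 1200 = true := by decide +kernel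

set_option maxRecDepth 1000000 in
theorem p7_148 : allC p7At 148 1200 = true := by decide +kernel

set_option maxRecDepth 1000000 in
theorem p7_149 : allC p7At 149 1200 = true := by decide +kernel

set_option maxRecDepth 1000000 in
theorem p7_150 : allC p7At 150 1200 = true := by decide +kernel

set_option maxRecDepth 1000000 in
theorem p7_151 : allC p7At 151 1200 = true := by decide +kernel

theorem p7F18 : ∀ k, 144 ≤ k → k < 152 → allC p7At k 1200 = true := by
  intro k h1 h2
  interval_cases k
  · exact p7_144
  · exact p7_145
  · exact p7_146
  · exact p7_147
  · exact p7_148
  · exact p7_149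
  · exact p7_150
  · exact p7_151

end Cfsg.Agent.Helper9.ONO
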