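import Mathlib
import Cfsg.Agent.Helper9.ONO.Chk

set_option autoImplicit false
set_option Elab.async false

/-! The tests of the codes, in chunks. -/

namespace Cfsg.Agent.Helper9.ONO

open Cfsg.Agent.Helper9.J3

set_option maxRecDepth 1000000 in
theorem p7_152 : allC p7At 152 1200 = true := by decide +kernel

set_option maxRecDepth 1000000 in
theorem p7_153 : allC p7At 153 1200 = true := by decide +kernel

set_option maxRecDepth 1000000 in
theorem p7_154 : allC p7At 154 1200 = true := by decide +kernel

set_option maxRecDepth 1000000 in
theorem p7_155 : allC p7At 155 1200 = true := by decide +kernel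

set_option maxRecDepth 1000000 in
theorem p7_156 : allC p7At 156 1200 = true := by decide +kernel

set_option maxRecDepth 1000000 in
theorem p7_157 : allC p7At 157 1200 = true := by decide +kernel

set_option maxRecDepth 1000000 in
theorem p7_158 : allC p7At 158 1200 = true := by decide +kernel

set_option maxRecDepth 1000000 in
theorem p7_159 : allC p7At 159 1200 = true := by decide +kernel

theorem p7F19 : ∀ k, 152 ≤ k → k < 160 → allC p7At k 1200 = true := by
  intro k h1 h2
  interval_cases k
  · exact p7_152
  · exact p7_153
  · exact p7_154
  · exact p7_155
  · exact p7_156
  · exact p7_157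
  · exact p7_158
  · exact p7_159

end Cfsg.Agent.Helper9.ONO
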