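import Mathlib
import Cfsg.Agent.Helper9.ONO.Chk

set_option autoImplicit false
set_option Elab.async false

/-! The tests of the codes, in chunks. -/

namespace Cfsg.Agent.Helper9.ONO

open Cfsg.Agent.Helper9.J3

set_option maxRecDepth 1000000 in
theorem p7_16 : allC p7At 16 1200 = true := by decide +kernel

set_option maxRecDepth 1000000 in
theorem p7_17 : allC p7At 17 1200 = true := by decide +kernel

set_option maxRecDepth 1000000 in
theorem p7_18 : allC p7At 18 1200 = true := by decide +kernel

set_option maxRecDepth 1000000 in
theorem p7_19 : allC p7At 19 1200 = true := by decide +kernel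

set_option maxRecDepth 1000000 in
theorem p7_20 : allC p7At 20 1200 = true := by decide +kernel

set_option maxRecDepth 1000000 in
theorem p7_21 : allC p7At 21 1200 = true := by decide +kernel

set_option maxRecDepth 1000000 in
theorem p7_22 : allC p7At 22 1200 = true := by decide +kernel

set_option maxRecDepth 1000000 in
theorem p7_23 : allC p7At 23 1200 = true := by decide +kernel

theorem p7F2 : ∀ k, 16 ≤ k → k < 24 → allC p7At k 1200 = true := by
  intro k h1 h2
  interval_cases k
  · exact p7_16
  · exact p7_17
  · exact p7_18
  · exact p7_19
  · exact p7_20
  · exact p7_21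
  · exact p7_22
  · exact p7_23

end Cfsg.Agent.Helper9.ONO
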