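import Mathlib
import Cfsg.Agent.Helper9.ONO.Chk

set_option autoImplicit false
set_option Elab.async false

/-! The tests of the codes, in chunks. -/

namespace Cfsg.Agent.Helper9.ONO

open Cfsg.Agent.Helper9.J3

set_option maxRecDepth 1000000 in
theorem p7_160 : allC p7At 160 1200 = true := by decide +kernel

set_option maxRecDepth 1000000 in
theorem p7_161 : allC p7At 161 1200 = true := by decide +kernel

set_option maxRecDepth 1000000 in
theorem p7_162 : allC p7At 162 1200 = true := by decide +kernel

set_option maxRecDepth 1000000 in
theorem p7_163 : allC p7At 163 1200 = true := by decide +kernel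

set_option maxRecDepth 1000000 in
theorem p7_164 : allC p7At 164 1200 = true := by decide +kernel

set_option maxRecDepth 1000000 in
theorem p7_165 : allC p7At 165 1200 = true := by decide +kernel

set_option maxRecDepth 1000000 in
theorem p7_166 : allC p7At 166 1200 = true := by decide +kernel

set_option maxRecDepth 1000000 in
theorem p7_167 : allC p7At 167 1200 = true := by decide +kernel

theorem p7F20 : ∀ k, 160 ≤ k → k < 168 → allC p7At k 1200 = true := by
  intro k h1 h2
  interval_cases k
  · exact p7_160
  · exact p7_161
  · exact p7_162
  · exact p7_163
  · exact p7_164
  · exact p7_165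
  · exact p7_166
  · exact p7_167

end Cfsg.Agent.Helper9.ONO
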