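import Mathlib
import Cfsg.Agent.Helper9.ONO.Chk

set_option autoImplicit false
set_option Elab.async false

/-! The tests of the codes, in chunks. -/

namespace Cfsg.Agent.Helper9.ONO

open Cfsg.Agent.Helper9.J3

set_option maxRecDepth 1000000 in
theorem p7_168 : allC p7At 168 1200 = true := by decide +kernel

set_option maxRecDepth 1000000 in
theorem p7_169 : allC p7At 169 1200 = true := by decide +kernel

set_option maxRecDepth 1000000 in
theorem p7_170 : allC p7At 170 1200 = true := by decide +kernel

set_option maxRecDepth 1000000 in
theorem p7_171 : allC p7At 171 1200 = true := by decide +kernel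

set_option maxRecDepth 1000000 in
theorem p7_172 : allC p7At 172 1200 = true := by decide +kernel

set_option maxRecDepth 1000000 in
theorem p7_173 : allC p7At 173 1200 = true := by decide +kernel

set_option maxRecDepth 1000000 in
theorem p7_174 : allC p7At 174 1200 = true := by decide +kernel

set_option maxRecDepth 1000000 in
theorem p7_175 : allC p7At 175 1200 = true := by decide +kernel

theorem p7F21 : ∀ k, 168 ≤ k → k < 176 → allC p7At k 1200 = true := by
  intro k h1 h2
  interval_cases k
  · exact p7_168
  · exact p7_169
  · exact p7_170
  · exact p7_171
  · exact p7_172
  · exact p7_173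
  · exact p7_174
  · exact p7_175

end Cfsg.Agent.Helper9.ONO
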