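import Mathlib
import Cfsg.Agent.Helper9.ONO.Chk

set_option autoImplicit false
set_option Elab.async false

/-! The tests of the codes, in chunks. -/

namespace Cfsg.Agent.Helper9.ONO

open Cfsg.Agent.Helper9.J3

set_option maxRecDepth 1000000 in
theorem p7_176 : allC p7At 176 1200 = true := by decide +kernel

set_option maxRecDepth 1000000 in
theorem p7_177 : allC p7At 177 1200 = true := by decide +kernel

set_option maxRecDepth 1000000 in
theorem p7_178 : allC p7At 178 1200 = true := by decide +kernel

set_option maxRecDepth 1000000 in
theorem p7_179 : allC p7At 179 1200 = true := by decide +kernel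

set_option maxRecDepth 1000000 in
theorem p7_180 : allC p7At 180 1200 = true := by decide +kernel

set_option maxRecDepth 1000000 in
theorem p7_181 : allC p7At 181 1200 = true := by decide +kernel

set_option maxRecDepth 1000000 in
theorem p7_182 : allC p7At 182 1200 = true := by decide +kernel

set_option maxRecDepth 1000000 in
theorem p7_183 : allC p7At 183 1200 = true := by decide +kernel

theorem p7F22 : ∀ k, 176 ≤ k → k < 184 → allC p7At k 1200 = true := by
  intro k h1 h2
  interval_cases k
  · exact p7_176
  · exact p7_177
  · exact p7_178
  · exact p7_179
  · exact p7_180
  · exact p7_181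
  · exact p7_182
  · exact p7_183

end Cfsg.Agent.Helper9.ONO
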