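import Mathlib
import Cfsg.Agent.Helper9.ONO.Chk

set_option autoImplicit false
set_option Elab.async false

/-! The tests of the codes, in chunks. -/

namespace Cfsg.Agent.Helper9.ONO

open Cfsg.Agent.Helper9.J3

set_option maxRecDepth 1000000 in
theorem p7_184 : allC p7At 184 1200 = true := by decide +kernel

set_option maxRecDepth 1000000 in
theorem p7_185 : allC p7At 185 1200 = true := by decide +kernel

set_option maxRecDepth 1000000 in
theorem p7_186 : allC p7At 186 1200 = true := by decide +kernel

set_option maxRecDepth 1000000 in
theorem p7_187 : allC p7At 187 1200 = true := by decide +kernel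

set_option maxRecDepth 1000000 in
theorem p7_188 : allC p7At 188 1200 = true := by decide +kernel

set_option maxRecDepth 1000000 in
theorem p7_189 : allC p7At 189 1200 = true := by decide +kernel

set_option maxRecDepth 1000000 in
theorem p7_190 : allC p7At 190 1200 = true := by decide +kernel

set_option maxRecDepth 1000000 in
theorem p7_191 : allC p7At 191 1200 = true := by decide +kernel

theorem p7F23 : ∀ k, 184 ≤ k → k < 192 → allC p7At k 1200 = true := by
  intro k h1 h2
  interval_cases k
  · exact p7_184
  · exact p7_185
  · exact p7_186
  · exact p7_187
  · exact p7_188
  · exact p7_189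
  · exact p7_190
  · exact p7_191

end Cfsg.Agent.Helper9.ONO
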