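import Mathlib
import Cfsg.Agent.Helper9.ONO.Chk

set_option autoImplicit false
set_option Elab.async false

/-! The tests of the codes, in chunks. -/

namespace Cfsg.Agent.Helper9.ONO

open Cfsg.Agent.Helper9.J3

set_option maxRecDepth 1000000 in
theorem p7_192 : allC p7At 192 1200 = true := by decide +kernel

set_option maxRecDepth 1000000 in
theorem p7_193 : allC p7At 193 1200 = true := by decide +kernel

set_option maxRecDepth 1000000 in
theorem p7_194 : allC p7At 194 1200 = true := by decide +kernel

set_option maxRecDepth 1000000 in
theorem p7_195 : allC p7At 195 1200 = true := by decide +kernel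

set_option maxRecDepth 1000000 in
theorem p7_196 : allC p7At 196 1200 = true := by decide +kernel

set_option maxRecDepth 1000000 in
theorem p7_197 : allC p7At 197 1200 = true := by decide +kernel

set_option maxRecDepth 1000000 in
theorem p7_198 : allC p7At 198 1200 = true := by decide +kernel

set_option maxRecDepth 1000000 in
theorem p7_199 : allC p7At 199 1200 = true := by decide +kernel

theorem p7F24 : ∀ k, 192 ≤ k → k < 200 → allC p7At k 1200 = true := by
  intro k h1 h2
  interval_cases k
  · exact p7_192
  · exact p7_193
  · exact p7_194
  · exact p7_195
  · exact p7_196
  · exact p7_197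
  · exact p7_198
  · exact p7_199

end Cfsg.Agent.Helper9.ONO
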