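import Mathlib
import Cfsg.Agent.Helper9.ONO.Chk

set_option autoImplicit false
set_option Elab.async false

/-! The tests of the codes, in chunks. -/

namespace Cfsg.Agent.Helper9.ONO

open Cfsg.Agent.Helper9.J3

set_option maxRecDepth 1000000 in
theorem p7_208 : allC p7At 208 1200 = true := by decide +kernel

set_option maxRecDepth 1000000 in
theorem p7_209 : allC p7At 209 1200 = true := by decide +kernel

set_option maxRecDepth 1000000 in
theorem p7_210 : allC p7At 210 1200 = true := by decide +kernel

set_option maxRecDepth 1000000 in
theorem p7_211 : allC p7At 211 1200 = true := by decide +kernel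

set_option maxRecDepth 1000000 in
theorem p7_212 : allC p7At 212 1200 = true := by decide +kernel

set_option maxRecDepth 1000000 in
theorem p7_213 : allC p7At 213 1200 = true := by decide +kernel

set_option maxRecDepth 1000000 in
theorem p7_214 : allC p7At 214 1200 = true := by decide +kernel

set_option maxRecDepth 1000000 in
theorem p7_215 : allC p7At 215 1200 = true := by decide +kernel

theorem p7F26 : ∀ k, 208 ≤ k → k < 216 → allC p7At k 1200 = true := by
  intro k h1 h2
  interval_cases k
  · exact p7_208
  · exact p7_209
  · exact p7_210
  · exact p7_211
  · exact p7_212
  · exact p7_213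
  · exact p7_214
  · exact p7_215

end Cfsg.Agent.Helper9.ONO
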