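import Mathlib
import Cfsg.Agent.Helper9.ONO.Chk

set_option autoImplicit false
set_option Elab.async false

/-! The tests of the codes, in chunks. -/

namespace Cfsg.Agent.Helper9.ONO

open Cfsg.Agent.Helper9.J3

set_option maxRecDepth 1000000 in
theorem p7_216 : allC p7At 216 1200 = true := by decide +kernel

theorem p7F27 : ∀ k, 216 ≤ k → k < 217 → allC p7At k 1200 = true := by
  intro k h1 h2
  interval_cases k
  · exact p7_216

end Cfsg.Agent.Helper9.ONO
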