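import Mathlib
import Cfsg.Agent.Helper9.ONO.Chk

set_option autoImplicit false
set_option Elab.async false

/-! The tests of the codes, in chunks. -/

namespace Cfsg.Agent.Helper9.ONO

open Cfsg.Agent.Helper9.J3

set_option maxRecDepth 1000000 in
theorem p7_24 : allC p7At 24 1200 = true := by decide +kernel

set_option maxRecDepth 1000000 in
theorem p7_25 : allC p7At 25 1200 = true := by decide +kernel

set_option maxRecDepth 1000000 in
theorem p7_26 : allC p7At 26 1200 = true := by decide +kernel

set_option maxRecDepth 1000000 in
theorem p7_27 : allC p7At 27 1200 = true := by decide +kernel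

set_option maxRecDepth 1000000 in
theorem p7_28 : allC p7At 28 1200 = true := by decide +kernel

set_option maxRecDepth 1000000 in
theorem p7_29 : allC p7At 29 1200 = true := by decide +kernel

set_option maxRecDepth 1000000 in
theorem p7_30 : allC p7At 30 1200 = true := by decide +kernel

set_option maxRecDepth 1000000 in
theorem p7_31 : allC p7At 31 1200 = true := by decide +kernel

theorem p7F3 : ∀ k, 24 ≤ k → k < 32 → allC p7At k 1200 = true := by
  intro k h1 h2
  interval_cases k
  · exact p7_24
  · exact p7_25
  · exact p7_26
  · exact p7_27
  · exact p7_28
  · exact p7_29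
  · exact p7_30
  · exact p7_31

end Cfsg.Agent.Helper9.ONO
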