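import Mathlib
import Cfsg.Agent.Helper9.ONO.Chk

set_option autoImplicit false
set_option Elab.async false

/-! The tests of the codes, in chunks. -/

namespace Cfsg.Agent.Helper9.ONO

open Cfsg.Agent.Helper9.J3

set_option maxRecDepth 1000000 in
theorem p7_32 : allC p7At 32 1200 = true := by decide +kernel

set_option maxRecDepth 1000000 in
theorem p7_33 : allC p7At 33 1200 = true := by decide +kernel

set_option maxRecDepth 1000000 in
theorem p7_34 : allC p7At 34 1200 = true := by decide +kernel

set_option maxRecDepth 1000000 in
theorem p7_35 : allC p7At 35 1200 = true := by decide +kernel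

set_option maxRecDepth 1000000 in
theorem p7_36 : allC p7At 36 1200 = true := by decide +kernel

set_option maxRecDepth 1000000 in
theorem p7_37 : allC p7At 37 1200 = true := by decide +kernel

set_option maxRecDepth 1000000 in
theorem p7_38 : allC p7At 38 1200 = true := by decide +kernel

set_option maxRecDepth 1000000 in
theorem p7_39 : allC p7At 39 1200 = true := by decide +kernel

theorem p7F4 : ∀ k, 32 ≤ k → k < 40 → allC p7At k 1200 = true := by
  intro k h1 h2
  interval_cases k
  · exact p7_32
  · exact p7_33
  · exact p7_34
  · exact p7_35
  · exact p7_36
  · exact p7_37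
  · exact p7_38
  · exact p7_39

end Cfsg.Agent.Helper9.ONO
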