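import Mathlib
import Cfsg.Agent.Helper9.ONO.Chk

set_option autoImplicit false
set_option Elab.async false

/-! The tests of the codes, in chunks. -/

namespace Cfsg.Agent.Helper9.ONO

open Cfsg.Agent.Helper9.J3

set_option maxRecDepth 1000000 in
theorem p7_40 : allC p7At 40 1200 = true := by decide +kernel

set_option maxRecDepth 1000000 in
theorem p7_41 : allC p7At 41 1200 = true := by decide +kernel

set_option maxRecDepth 1000000 in
theorem p7_42 : allC p7At 42 1200 = true := by decide +kernel

set_option maxRecDepth 1000000 in
theorem p7_43 : allC p7At 43 1200 = true := by decide +kernel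

set_option maxRecDepth 1000000 in
theorem p7_44 : allC p7At 44 1200 = true := by decide +kernel

set_option maxRecDepth 1000000 in
theorem p7_45 : allC p7At 45 1200 = true := by decide +kernel

set_option maxRecDepth 1000000 in
theorem p7_46 : allC p7At 46 1200 = true := by decide +kernel

set_option maxRecDepth 1000000 in
theorem p7_47 : allC p7At 47 1200 = true := by decide +kernel

theorem p7F5 : ∀ k, 40 ≤ k → k < 48 → allC p7At k 1200 = true := by
  intro k h1 h2
  interval_cases k
  · exact p7_40
  · exact p7_41
  · exact p7_42
  · exact p7_43
  · exact p7_44
  · exact p7_45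
  · exact p7_46
  · exact p7_47

end Cfsg.Agent.Helper9.ONO
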