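import Mathlib
import Cfsg.Agent.Helper9.ONO.Chk

set_option autoImplicit false
set_option Elab.async false

/-! The tests of the codes, in chunks. -/

namespace Cfsg.Agent.Helper9.ONO

open Cfsg.Agent.Helper9.J3

set_option maxRecDepth 1000000 in
theorem p7_48 : allC p7At 48 1200 = true := by decide +kernel

set_option maxRecDepth 1000000 in
theorem p7_49 : allC p7At 49 1200 = true := by decide +kernel

set_option maxRecDepth 1000000 in
theorem p7_50 : allC p7At 50 1200 = true := by decide +kernel

set_option maxRecDepth 1000000 in
theorem p7_51 : allC p7At 51 1200 = true := by decide +kernel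

set_option maxRecDepth 1000000 in
theorem p7_52 : allC p7At 52 1200 = true := by decide +kernel

set_option maxRecDepth 1000000 in
theorem p7_53 : allC p7At 53 1200 = true := by decide +kernel

set_option maxRecDepth 1000000 in
theorem p7_54 : allC p7At 54 1200 = true := by decide +kernel

set_option maxRecDepth 1000000 in
theorem p7_55 : allC p7At 55 1200 = true := by decide +kernel

theorem p7F6 : ∀ k, 48 ≤ k → k < 56 → allC p7At k 1200 = true := by
  intro k h1 h2
  interval_cases k
  · exact p7_48
  · exact p7_49
  · exact p7_50
  · exact p7_51
  · exact p7_52
  · exact p7_53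
  · exact p7_54
  · exact p7_55

end Cfsg.Agent.Helper9.ONO
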