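import Mathlib
import Cfsg.Agent.Helper9.ONO.Chk

set_option autoImplicit false
set_option Elab.async false

/-! The tests of the codes, in chunks. -/

namespace Cfsg.Agent.Helper9.ONO

open Cfsg.Agent.Helper9.J3

set_option maxRecDepth 1000000 in
theorem p7_56 : allC p7At 56 1200 = true := by decide +kernel

set_option maxRecDepth 1000000 in
theorem p7_57 : allC p7At 57 1200 = true := by decide +kernel

set_option maxRecDepth 1000000 in
theorem p7_58 : allC p7At 58 1200 = true := by decide +kernel

set_option maxRecDepth 1000000 in
theorem p7_59 : allC p7At 59 1200 = true := by decide +kernel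

set_option maxRecDepth 1000000 in
theorem p7_60 : allC p7At 60 1200 = true := by decide +kernel

set_option maxRecDepth 1000000 in
theorem p7_61 : allC p7At 61 1200 = true := by decide +kernel

set_option maxRecDepth 1000000 in
theorem p7_62 : allC p7At 62 1200 = true := by decide +kernel

set_option maxRecDepth 1000000 in
theorem p7_63 : allC p7At 63 1200 = true := by decide +kernel

theorem p7F7 : ∀ k, 56 ≤ k → k < 64 → allC p7At k 1200 = true := by
  intro k h1 h2
  interval_cases k
  · exact p7_56
  · exact p7_57
  · exact p7_58
  · exact p7_59
  · exact p7_60
  · exact p7_61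
  · exact p7_62
  · exact p7_63

end Cfsg.Agent.Helper9.ONO
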