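import Mathlib
import Cfsg.Agent.Helper9.ONO.Chk

set_option autoImplicit false
set_option Elab.async false

/-! The tests of the codes, in chunks. -/

namespace Cfsg.Agent.Helper9.ONO

open Cfsg.Agent.Helper9.J3

set_option maxRecDepth 1000000 in
theorem p7_64 : allC p7At 64 1200 = true := by decide +kernel

set_option maxRecDepth 1000000 in
theorem p7_65 : allC p7At 65 1200 = true := by decide +kernel

set_option maxRecDepth 1000000 in
theorem p7_66 : allC p7At 66 1200 = true := by decide +kernel

set_option maxRecDepth 1000000 in
theorem p7_67 : allC p7At 67 1200 = true := by decide +kernel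

set_option maxRecDepth 1000000 in
theorem p7_68 : allC p7At 68 1200 = true := by decide +kernel

set_option maxRecDepth 1000000 in
theorem p7_69 : allC p7At 69 1200 = true := by decide +kernel

set_option maxRecDepth 1000000 in
theorem p7_70 : allC p7At 70 1200 = true := by decide +kernel

set_option maxRecDepth 1000000 in
theorem p7_71 : allC p7At 71 1200 = true := by decide +kernel

theorem p7F8 : ∀ k, 64 ≤ k → k < 72 → allC p7At k 1200 = true := by
  intro k h1 h2
  interval_cases k
  · exact p7_64
  · exact p7_65
  · exact p7_66
  · exact p7_67
  · exact p7_68
  · exact p7_69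
  · exact p7_70
  · exact p7_71

end Cfsg.Agent.Helper9.ONO
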