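import Mathlib
import Cfsg.Agent.Helper9.ONO.Chk

set_option autoImplicit false
set_option Elab.async false

/-! The tests of the codes, in chunks. -/

namespace Cfsg.Agent.Helper9.ONO

open Cfsg.Agent.Helper9.J3

set_option maxRecDepth 1000000 in
theorem p7_72 : allC p7At 72 1200 = true := by decide +kernel

set_option maxRecDepth 1000000 in
theorem p7_73 : allC p7At 73 1200 = true := by decide +kernel

set_option maxRecDepth 1000000 in
theorem p7_74 : allC p7At 74 1200 = true := by decide +kernel

set_option maxRecDepth 1000000 in
theorem p7_75 : allC p7At 75 1200 = true := by decide +kernel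

set_option maxRecDepth 1000000 in
theorem p7_76 : allC p7At 76 1200 = true := by decide +kernel

set_option maxRecDepth 1000000 in
theorem p7_77 : allC p7At 77 1200 = true := by decide +kernel

set_option maxRecDepth 1000000 in
theorem p7_78 : allC p7At 78 1200 = true := by decide +kernel

set_option maxRecDepth 1000000 in
theorem p7_79 : allC p7At 79 1200 = true := by decide +kernel

theorem p7F9 : ∀ k, 72 ≤ k → k < 80 → allC p7At k 1200 = true := by
  intro k h1 h2
  interval_cases k
  · exact p7_72
  · exact p7_73
  · exact p7_74
  · exact p7_75
  · exact p7_76
  · exact p7_77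
  · exact p7_78
  · exact p7_79

end Cfsg.Agent.Helper9.ONO
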