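import Mathlib
import Cfsg.Agent.Helper9.ONO.P7Chk0
import Cfsg.Agent.Helper9.ONO.P7Chk1
import Cfsg.Agent.Helper9.ONO.P7Chk2
import Cfsg.Agent.Helper9.ONO.P7Chk3
import Cfsg.Agent.Helper9.ONO.P7Chk4
import Cfsg.Agent.Helper9.ONO.P7Chk5
import Cfsg.Agent.Helper9.ONO.P7Chk6
import Cfsg.Agent.Helper9.ONO.P7Chk7
import Cfsg.Agent.Helper9.ONO.P7Chk8
import Cfsg.Agent.Helper9.ONO.P7Chk9
import Cfsg.Agent.Helper9.ONO.P7Chk10
import Cfsg.Agent.Helper9.ONO.P7Chk11
import Cfsg.Agent.Helper9.ONO.P7Chk12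
import Cfsg.Agent.Helper9.ONO.P7Chk13
import Cfsg.Agent.Helper9.ONO.P7Chk14
import Cfsg.Agent.Helper9.ONO.P7Chk15
import Cfsg.Agent.Helper9.ONO.P7Chk16
import Cfsg.Agent.Helper9.ONO.P7Chk17
import Cfsg.Agent.Helper9.ONO.P7Chk18
import Cfsg.Agent.Helper9.ONO.P7Chk19
import Cfsg.Agent.Helper9.ONO.P7Chk20
import Cfsg.Agent.Helper9.ONO.P7Chk21
import Cfsg.Agent.Helper9.ONO.P7Chk22
import Cfsg.Agent.Helper9.ONO.P7Chk23
import Cfsg.Agent.Helper9.ONO.P7Chk24
import Cfsg.Agent.Helper9.ONO.P7Chk25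
import Cfsg.Agent.Helper9.ONO.P7Chk26
import Cfsg.Agent.Helper9.ONO.P7Chk27

set_option autoImplicit false

/-! The tests of the codes, assembled from the chunks. -/

namespace Cfsg.Agent.Helper9.ONO

open Cfsg.Agent.Helper9.J3

theorem p7_chunks : ∀ k, k < 217 → allC p7At k 1200 = true := by
  intro k hk
  have hq : k / 8 < 28 := by omega
  have hk' : k / 8 * 8 ≤ k ∧ k < k / 8 * 8 + 8 := by omega
  generalize k / 8 = q at hq hk'
  interval_cases q
  · exact p7F0 k (by omega) (by omega)
  · exact p7F1 k (by omega) (by omega)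
  · exact p7F2 k (by omega) (by omega)
  · exact p7F3 k (by omega) (by omega)
  · exact p7F4 k (by omega) (by omega)
  · exact p7F5 k (by omega) (by omega)
  · exact p7F6 k (by omega) (by omega)
  · exact p7F7 k (by omega) (by omega)
  · exact p7F8 k (by omega) (by omega)
  · exact p7F9 k (by omega) (by omega)
  · exact p7F10 k (by omega) (by omega)
  · exact p7F11 k (by omega) (by omega)
  · exact p7F12 k (by omega) (by omega)
  · exact p7F13 k (by omega) (by omega)
  · exact p7F14 k (by omega) (by omega)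
  · exact p7F15 k (by omega) (by omega)
  · exact p7F16 k (by omega) (by omega)
  · exact p7F17 k (by omega) (by omega)
  · exact p7F18 k (by omega) (by omega)
  · exact p7F19 k (by omega) (by omega)
  · exact p7F20 k (by omega) (by omega)
  · exact p7F21 k (by omega) (by omega)
  · exact p7F22 k (by omega) (by omega)
  · exact p7F23 k (by omega) (by omega)
  · exact p7F24 k (by omega) (by omega)
  · exact p7F25 k (by omega) (by omega)
  · exact p7F26 k (by omega) (by omega)
  · exact p7F27 k (by omega) (by omega)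

theorem p7_all : ∀ j, j < nR → p7At j = true := by
  intro j hj
  have hj' : j < 217 * 1200 := lt_of_lt_of_le hj (by decide)
  exact allC_true p7_chunks hj'

end Cfsg.Agent.Helper9.ONO
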