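import Mathlib
import Cfsg.Agent.Helper9.ONO.Cand
import Cfsg.Agent.Helper9.ONO.Tau
import Cfsg.Agent.Helper9.ONO.P7Sum

set_option autoImplicit false

/-!
The test of the candidates: a candidate for which the relations hold is the second generator or
its image under the further automorphism.
-/

namespace Cfsg.Agent.Helper9.ONO

open Cfsg Cfsg.Spor Cfsg.Agent.Helper9.J3 Cfsg.Agent.Helper9.ON Cfsg.Agent.Helper9.ONS
open Cfsg.Agent.Helper9.ONS.M11D Cfsg.Agent.Helper5.ONTC Cfsg.Agent.Helper9.OutG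
open Cfsg.Agent.Helper9.OutL

theorem rep0_ok : agr3 (repF (cdF j0)) (ctF 1) = true := by decide +kernel

theorem repG_j0 : repG j0 = bG :=
  Subtype.ext (eq_of_agr3 (repP_mem _) (sg_mem (by norm_num)) (cp_repP _) (cp_sg (by norm_num))
    rep0_ok)

theorem repG_j1 : repG j1 = tauG bG := Subtype.ext tauG_bG.symm

theorem cp_fix_of_eq_one {p : Equiv.Perm (Fin nP)} {f : ℕ → ℕ} (hp : Cp p f) (h : p = 1) {v : ℕ}
    (hv : v < nP) : f v = v := by
  have h1 := hp ⟨v, hv⟩
  rw [h] at h1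
  exact h1.symm

/-- the test of the candidates. -/
theorem htest : ∀ k0 ∈ [1], ∀ b' ∈ CandS,
    (∀ e ∈ relsW, evalW e.1 (aG ^ k0) b' ^ e.2 = 1) →
      (∃ c : ↥ONP, c * aG * c⁻¹ = aG ^ k0 ∧ c * bG * c⁻¹ = b') ∨
        ∃ c : ↥ONP, c * tauG aG * c⁻¹ = aG ^ k0 ∧ c * tauG bG * c⁻¹ = b' := by
  intro k0 hk0 b' hb' hrel
  have hk : k0 = 1 := by simpa using hk0
  subst hk
  obtain ⟨j, hj, rfl⟩ := hb'
  by_cases h0 : j = j0
  · left
    refine ⟨1, ?_, ?_⟩
    · rw [one_mul, inv_one, mul_one, pow_one]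
    · rw [one_mul, inv_one, mul_one, h0, repG_j0]
  · by_cases h1 : j = j1
    · right
      refine ⟨1, ?_, ?_⟩
      · rw [one_mul, inv_one, mul_one, pow_one, tauG_aG]
      · rw [one_mul, inv_one, mul_one, h1, repG_j1]
    · exfalso
      obtain ⟨ri, p, hp, hmove⟩ := p7At_spec (p7_all j hj) hj h0 h1
      apply hmove
      unfold relF
      rcases nthD_mem relsD ri with hm | hm
      · have hw : (sylW (nthD relsD ri).1, (nthD relsD ri).2) ∈ relsW :=
          List.mem_map.2 ⟨_, hm, rfl⟩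
        have h2 := hrel _ hw
        have hc := cp_rel (B := repG j) (bf := repF (cdF j)) (cp_repP _) hm
        exact cp_fix_of_eq_one hc (congrArg Subtype.val h2) hp
      · rw [hm]
        rfl

end Cfsg.Agent.Helper9.ONO
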