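import Mathlib
import Cfsg.Agent.Helper9.ONO.Test
import Cfsg.Agent.Helper9.ONO.NonInner
import Cfsg.Agent.Helper9.HeO.Abs

set_option autoImplicit false

/-!
The outer automorphism group of the group on the 122760 points, and of the presented group that
it is the image of, has two elements.
-/

namespace Cfsg.Agent.Helper9.ONO

open Cfsg Cfsg.Spor Cfsg.Agent.Helper9.ON Cfsg.Agent.Helper9.OutG

theorem hK0 : ∀ k, 0 < k → k < 11 → ∃ j : ℕ, ∃ k0 ∈ [1], (k * 6 ^ j) % 11 = k0 % 11 := by
  intro k h0 h1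
  interval_cases k
  · exact ⟨0, 1, List.mem_singleton.2 rfl, by norm_num⟩
  · exact ⟨1, 1, List.mem_singleton.2 rfl, by norm_num⟩
  · exact ⟨8, 1, List.mem_singleton.2 rfl, by norm_num⟩
  · exact ⟨2, 1, List.mem_singleton.2 rfl, by norm_num⟩
  · exact ⟨4, 1, List.mem_singleton.2 rfl, by norm_num⟩
  · exact ⟨9, 1, List.mem_singleton.2 rfl, by norm_num⟩
  · exact ⟨7, 1, List.mem_singleton.2 rfl, by norm_num⟩
  · exact ⟨3, 1, List.mem_singleton.2 rfl, by norm_num⟩
  · exact ⟨6, 1, List.mem_singleton.2 rfl, by norm_num⟩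
  · exact ⟨5, 1, List.mem_singleton.2 rfl, by norm_num⟩

theorem hp2 : ¬ 11 ^ 2 ∣ Nat.card ↥ONP := by
  rw [card_ONP']
  norm_num

/-- the outer automorphism group of the group on the 122760 points has two elements. -/
theorem out_ONP : Nat.card (Cfsg.Out ↥ONP) = 2 := by
  have := finite_ONP
  have : Fact (Nat.Prime 11) := ⟨by norm_num⟩
  exact card_out_two tauG tau_not_inner
    (aut_cases 11 aG bG nG 6 closure_ab orderOf_aG hp2 nG_conj [1] hK0 CandS hCand relsW hrels
      tauG htest)

/-- **the outer automorphism group of the presented O'Nan group has two elements.** -/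
theorem out_ON : Nat.card (Cfsg.Out Spor.ON) = 2 := by
  rw [Cfsg.Agent.Helper9.HeO.card_out_congr e0]
  exact out_ONP

end Cfsg.Agent.Helper9.ONO
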