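import Mathlib
import Cfsg.Agent.Helper9.ONO.Chk

set_option autoImplicit false
set_option Elab.async false

/-! The checks of the keys of the codes, in chunks. -/

namespace Cfsg.Agent.Helper9.ONO

open Cfsg.Agent.Helper9.J3

set_option maxRecDepth 1000000 in
theorem p6_96 : allC p6At 96 800 = true := by decide +kernel

set_option maxRecDepth 1000000 in
theorem p6_97 : allC p6At 97 800 = true := by decide +kernel

set_option maxRecDepth 1000000 in
theorem p6_98 : allC p6At 98 800 = true := by decide +kernel

set_option maxRecDepth 1000000 in
theorem p6_99 : allC p6At 99 800 = true := by decide +kernel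

set_option maxRecDepth 1000000 in
theorem p6_100 : allC p6At 100 800 = true := by decide +kernel

set_option maxRecDepth 1000000 in
theorem p6_101 : allC p6At 101 800 = true := by decide +kernel

set_option maxRecDepth 1000000 in
theorem p6_102 : allC p6At 102 800 = true := by decide +kernel

set_option maxRecDepth 1000000 in
theorem p6_103 : allC p6At 103 800 = true := by decide +kernel

theorem p6F12 : ∀ k, 96 ≤ k → k < 104 → allC p6At k 800 = true := by
  intro k h1 h2
  interval_cases k
  · exact p6_96
  · exact p6_97
  · exact p6_98
  · exact p6_99
  · exact p6_100
  · exact p6_101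
  · exact p6_102
  · exact p6_103

end Cfsg.Agent.Helper9.ONO
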