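import Mathlib
import Cfsg.Agent.Helper9.ONO.Chk

set_option autoImplicit false
set_option Elab.async false

/-! The checks of the keys of the codes, in chunks. -/

namespace Cfsg.Agent.Helper9.ONO

open Cfsg.Agent.Helper9.J3

set_option maxRecDepth 1000000 in
theorem p6_200 : allC p6At 200 800 = true := by decide +kernel

set_option maxRecDepth 1000000 in
theorem p6_201 : allC p6At 201 800 = true := by decide +kernel

set_option maxRecDepth 1000000 in
theorem p6_202 : allC p6At 202 800 = true := by decide +kernel

set_option maxRecDepth 1000000 in
theorem p6_203 : allC p6At 203 800 = true := by decide +kernel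

set_option maxRecDepth 1000000 in
theorem p6_204 : allC p6At 204 800 = true := by decide +kernel

set_option maxRecDepth 1000000 in
theorem p6_205 : allC p6At 205 800 = true := by decide +kernel

set_option maxRecDepth 1000000 in
theorem p6_206 : allC p6At 206 800 = true := by decide +kernel

set_option maxRecDepth 1000000 in
theorem p6_207 : allC p6At 207 800 = true := by decide +kernel

theorem p6F25 : ∀ k, 200 ≤ k → k < 208 → allC p6At k 800 = true := by
  intro k h1 h2
  interval_cases k
  · exact p6_200
  · exact p6_201
  · exact p6_202
  · exact p6_203
  · exact p6_204
  · exact p6_205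
  · exact p6_206
  · exact p6_207

end Cfsg.Agent.Helper9.ONO
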