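import Mathlib
import Cfsg.Agent.Helper9.ONO.Chk

set_option autoImplicit false
set_option Elab.async false

/-! The checks of the keys of the codes, in chunks. -/

namespace Cfsg.Agent.Helper9.ONO

open Cfsg.Agent.Helper9.J3

set_option maxRecDepth 1000000 in
theorem p6_304 : allC p6At 304 800 = true := by decide +kernel

set_option maxRecDepth 1000000 in
theorem p6_305 : allC p6At 305 800 = true := by decide +kernel

set_option maxRecDepth 1000000 in
theorem p6_306 : allC p6At 306 800 = true := by decide +kernel

set_option maxRecDepth 1000000 in
theorem p6_307 : allC p6At 307 800 = true := by decide +kernel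

set_option maxRecDepth 1000000 in
theorem p6_308 : allC p6At 308 800 = true := by decide +kernel

set_option maxRecDepth 1000000 in
theorem p6_309 : allC p6At 309 800 = true := by decide +kernel

set_option maxRecDepth 1000000 in
theorem p6_310 : allC p6At 310 800 = true := by decide +kernel

set_option maxRecDepth 1000000 in
theorem p6_311 : allC p6At 311 800 = true := by decide +kernel

theorem p6F38 : ∀ k, 304 ≤ k → k < 312 → allC p6At k 800 = true := by
  intro k h1 h2
  interval_cases k
  · exact p6_304
  · exact p6_305
  · exact p6_306
  · exact p6_307
  · exact p6_308
  · exact p6_309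
  · exact p6_310
  · exact p6_311

end Cfsg.Agent.Helper9.ONO
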