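import Mathlib
import Cfsg.Agent.Helper9.ONO.Chk

set_option autoImplicit false
set_option Elab.async false

/-! The tests of the codes, in chunks. -/

namespace Cfsg.Agent.Helper9.ONO

open Cfsg.Agent.Helper9.J3

set_option maxRecDepth 1000000 in
theorem p7_96 : allC p7At 96 1200 = true := by decide +kernel

set_option maxRecDepth 1000000 in
theorem p7_97 : allC p7At 97 1200 = true := by decide +kernel

set_option maxRecDepth 1000000 in
theorem p7_98 : allC p7At 98 1200 = true := by decide +kernel

set_option maxRecDepth 1000000 in
theorem p7_99 : allC p7At 99 1200 = true := by decide +kernel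

set_option maxRecDepth 1000000 in
theorem p7_100 : allC p7At 100 1200 = true := by decide +kernel

set_option maxRecDepth 1000000 in
theorem p7_101 : allC p7At 101 1200 = true := by decide +kernel

set_option maxRecDepth 1000000 in
theorem p7_102 : allC p7At 102 1200 = true := by decide +kernel

set_option maxRecDepth 1000000 in
theorem p7_103 : allC p7At 103 1200 = true := by decide +kernel

theorem p7F12 : ∀ k, 96 ≤ k → k < 104 → allC p7At k 1200 = true := by
  intro k h1 h2
  interval_cases k
  · exact p7_96
  · exact p7_97
  · exact p7_98
  · exact p7_99
  · exact p7_100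
  · exact p7_101
  · exact p7_102
  · exact p7_103

end Cfsg.Agent.Helper9.ONO
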