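import Mathlib
import Cfsg.Agent.Helper9.ONO.Chk

set_option autoImplicit false
set_option Elab.async false

/-! The tests of the codes, in chunks. -/

namespace Cfsg.Agent.Helper9.ONO

open Cfsg.Agent.Helper9.J3

set_option maxRecDepth 1000000 in
theorem p7_200 : allC p7At 200 1200 = true := by decide +kernel

set_option maxRecDepth 1000000 in
theorem p7_201 : allC p7At 201 1200 = true := by decide +kernel

set_option maxRecDepth 1000000 in
theorem p7_202 : allC p7At 202 1200 = true := by decide +kernel

set_option maxRecDepth 1000000 in
theorem p7_203 : allC p7At 203 1200 = true := by decide +kernel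

set_option maxRecDepth 1000000 in
theorem p7_204 : allC p7At 204 1200 = true := by decide +kernel

set_option maxRecDepth 1000000 in
theorem p7_205 : allC p7At 205 1200 = true := by decide +kernel

set_option maxRecDepth 1000000 in
theorem p7_206 : allC p7At 206 1200 = true := by decide +kernel

set_option maxRecDepth 1000000 in
theorem p7_207 : allC p7At 207 1200 = true := by decide +kernel

theorem p7F25 : ∀ k, 200 ≤ k → k < 208 → allC p7At k 1200 = true := by
  intro k h1 h2
  interval_cases k
  · exact p7_200
  · exact p7_201
  · exact p7_202
  · exact p7_203
  · exact p7_204
  · exact p7_205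
  · exact p7_206
  · exact p7_207

end Cfsg.Agent.Helper9.ONO
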